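import Cfsg.Agent.Lib.HeLocal.FusionOct
import Cfsg.Agent.Lib.SLFiveTwo.Recognise

/-!
# The linear case: one side fused, the seventh class not

The normalizer of the group of order sixteen is transitive on its involutions without any hypothesis on the
other classes; with the order of `SL(5,2)` this gives the recognition.
-/

set_option autoImplicit false

namespace Cfsg.Agent.HeLocal

open Subgroup

namespace Iso

variable {G : Type*} [Group G] {z : G} (I : Iso z) (hU : I.ZType (rep 1))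
include hU

/-- An element exchanging `z` and the second representative. -/
theorem exists_swap_side : ∃ s : G, s * I.ι (rep 1) * s⁻¹ = z ∧ s * z * s⁻¹ = I.ι (rep 1) := by
  have h1 := isInv_rep (show 1 < 8 by norm_num)
  have t1 : tag (rep 1) = 1 := tag_rep (by norm_num)
  obtain ⟨g', c, hg', -, R⟩ := I.exists_rev h1 (by omega) hU
  have hY : tag g' = 1 ∨ tag g' = 2 := by
    have := R.tag_cent h1 hg'
    rw [t1] at this
    have h8 := tag_lt hg'
    generalize tag g' = i at this h8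
    interval_cases i <;> simp_all
  obtain ⟨hzg, hzgt⟩ := tag_zmul hg' (by omega)
  obtain ⟨hzr, hzrt⟩ := tag_zmul h1 (by omega)
  obtain ⟨k, hk⟩ := exists_conj_of_tag_eq h1 hzr (by rw [hzrt, t1]; rfl)
  have hkk : k⁻¹ * rep 1 * k = zc * rep 1 := by
    calc k⁻¹ * rep 1 * k = k⁻¹ * (zc * (zc * rep 1)) * k := by rw [← mul_assoc zc, zc_inv.1, one_mul]
      _ = k⁻¹ * (zc * (k * rep 1 * k⁻¹)) * k := by rw [hk]
      _ = _ := by rw [← mul_assoc zc, ← mul_assoc zc, ← zc_comm k]; group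
  -- the reversal of `zc * g'`
  have R3 : I.Rev (zc * g') (zc * g') (c⁻¹ * I.ι k * c) := by
    constructor
    · calc c⁻¹ * I.ι k * c * z * (c⁻¹ * I.ι k * c)⁻¹
          = c⁻¹ * (I.ι k * (c * z * c⁻¹) * (I.ι k)⁻¹) * c := by group
        _ = c⁻¹ * (z * (c * z * c⁻¹)) * c := by
          rw [R.fwd, ← map_inv, ← map_mul, ← map_mul, hk, map_mul, ι_zc]
        _ = c⁻¹ * z * c * z := by group
        _ = _ := by rw [R.bwd, map_mul, ι_zc, I.ι_comm g']
    · calc (c⁻¹ * I.ι k * c)⁻¹ * z * (c⁻¹ * I.ι k * c)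
          = c⁻¹ * ((I.ι k)⁻¹ * (c * z * c⁻¹) * I.ι k) * c := by group
        _ = c⁻¹ * (z * (c * z * c⁻¹)) * c := by
          rw [R.fwd, ← map_inv, ← map_mul, ← map_mul, hkk, map_mul, ι_zc]
        _ = c⁻¹ * z * c * z := by group
        _ = _ := by rw [R.bwd, map_mul, ι_zc, I.ι_comm g']
  obtain ⟨j, hj⟩ := exists_conj_of_tag_eq hg' hzg (by rw [hzgt]; rcases hY with h | h <;> rw [h] <;> rfl)
  obtain ⟨l, hl⟩ := Rev.unique R3 (hj ▸ Rev.conj R.symm j)
  have ht : tag g' = 1 := by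
    have := tag_conj h1 l
    rw [hl, hzgt, t1] at this
    rcases hY with h | h
    · exact h
    · rw [h] at this; simp [swap45] at this
  obtain ⟨n, hn⟩ := exists_conj_of_tag_eq hg' h1 (by rw [ht, t1])
  refine ⟨I.ι n * c⁻¹, ?_, ?_⟩
  · calc I.ι n * c⁻¹ * I.ι (rep 1) * (I.ι n * c⁻¹)⁻¹ = I.ι n * (c⁻¹ * I.ι (rep 1) * c) * (I.ι n)⁻¹ := by group
      _ = I.ι n * z * (I.ι n)⁻¹ := by rw [R.conj_zc]
      _ = _ := by rw [I.ι_comm n, mul_inv_cancel_right]
  · calc I.ι n * c⁻¹ * z * (I.ι n * c⁻¹)⁻¹ = I.ι n * (c⁻¹ * z * c) * (I.ι n)⁻¹ := by group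
      _ = _ := by rw [R.bwd, ← map_inv, ← map_mul, ← map_mul, hn]

theorem zType_side_inA {g : Mdl} (hg : inA g) (h1 : g ≠ 1) : I.ZType g := by
  rcases inA_iff.1 hg with rfl | ⟨hi, ht⟩
  · exact absurd rfl h1
  refine (I.zType_iff_rep hi).2 ?_
  rcases Nat.le_one_iff_eq_zero_or_eq_one.1 ht with e | e <;> rw [e]
  · exact I.zType_zc
  · exact hU

variable [Finite G] (h6 : ¬ I.ZType (rep 6))
include h6

/-- An exchange of the pair lies in the normalizer. -/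
theorem swap_mem_HN_side {s : G} (hs : s * I.ι (rep 1) * s⁻¹ = z) (hs' : s * z * s⁻¹ = I.ι (rep 1)) :
    s ∈ I.HN := by
  have hroot : ∀ b : Mdl, Rooted b → s * I.ι b * s⁻¹ ∈ I.AG := by
    rintro b ⟨hbA, hb1, hbz, hbr, hbzr, q, hq, hqb, hqq⟩
    obtain ⟨y', hy'c, hy'⟩ := I.swap_transport hs hs' (inA_comm hbA inA_rep_one)
    have inj : ∀ u : Mdl, s * I.ι b * s⁻¹ = s * I.ι u * s⁻¹ → b = u :=
      fun u h => I.ι_inj (mul_left_cancel (mul_right_cancel h))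
    -- the four products
    have prod : ∀ u v : Mdl, inA (b * v) → b * v ≠ 1 → I.ι u = s * I.ι (b * v) * s⁻¹ →
        IsInv u ∧ Code.good (tag u) = true := by
      intro u v hA h1 hu
      have hui : IsInv u := I.isInv_of
        (by rw [hu, show s * I.ι (b * v) * s⁻¹ * (s * I.ι (b * v) * s⁻¹) = s * (I.ι (b * v) * I.ι (b * v)) * s⁻¹ by
              group, ← map_mul, inA_sq hA, map_one]
            group)
        (by rw [hu]; exact fun e => h1 (I.ι_inj ((conj_eq_one_iff.1 e).trans (map_one I.ι).symm)))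
      exact ⟨hui, I.good_of_zType h6 hui ((I.zType_side_inA hU hA h1).trans (isConj_iff.2 ⟨s, hu.symm⟩))⟩
    have ne : ∀ v : Mdl, b ≠ v → v * v = 1 → b * v ≠ 1 := fun v hne hv e =>
      hne (mul_right_cancel (e.trans hv.symm))
    have hr1 := isInv_rep (show 1 < 8 by norm_num)
    obtain ⟨hyi, g0⟩ := prod y' 1 (by rwa [mul_one]) (by rwa [mul_one]) (by rw [mul_one, hy'])
    have e1 : I.ι zc = s * I.ι (rep 1) * s⁻¹ := by rw [hs, ι_zc]
    have e2 : I.ι (rep 1) = s * I.ι zc * s⁻¹ := by rw [ι_zc, hs']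
    have e3 : I.ι (zc * rep 1) = s * I.ι (zc * rep 1) * s⁻¹ := by
      rw [map_mul, show s * (I.ι zc * I.ι (rep 1)) * s⁻¹ = s * I.ι zc * s⁻¹ * (s * I.ι (rep 1) * s⁻¹) by group,
        ← e1, ← e2]
      exact I.ι_comm_iff.2 (zc_comm (rep 1)).symm
    obtain ⟨-, g1⟩ := prod (y' * zc) (rep 1) (inA_mul hbA inA_rep_one) (ne _ hbr hr1.1) (by
      rw [map_mul, hy', map_mul, e1]; group)
    obtain ⟨-, g2⟩ := prod (y' * rep 1) zc (inA_mul hbA inA_zc) (ne _ hbz zc_inv.1) (by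
      rw [map_mul, hy', map_mul, e2]; group)
    obtain ⟨-, g3⟩ := prod (y' * (zc * rep 1)) (zc * rep 1) (inA_mul hbA (inA_mul inA_zc inA_rep_one))
      (ne _ hbzr (inA_sq (inA_mul inA_zc inA_rep_one))) (by
      rw [map_mul I.ι y', hy', e3, map_mul I.ι b]; group)
    obtain ⟨q', hq'c, hq'⟩ := I.swap_transport hs hs' hq
    refine ⟨y', ?_, hy'⟩
    show inA y'
    refine inA_iff.2 (Or.inr ⟨hyi, tag_le_one_of_good hyi hy'c ⟨fun e => hbr (inj _ ?_), fun e => hbz (inj _ ?_),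
      fun e => hbzr (inj _ ?_)⟩ g0 g1 g2 g3 hq'c (I.ι_comm_iff.1 ?_) (I.ι_inj ?_)⟩)
    · rw [← hy', e]; exact e1
    · rw [← hy', e]; exact e2
    · rw [← hy', e]; exact e3
    · rw [hq', hy', show s * I.ι q * s⁻¹ * (s * I.ι b * s⁻¹) = s * (I.ι q * I.ι b) * s⁻¹ by group,
        I.ι_comm_iff.2 hqb]
      group
    · rw [map_mul, hq', show s * I.ι q * s⁻¹ * (s * I.ι q * s⁻¹) = s * (I.ι q * I.ι q) * s⁻¹ by group,
        ← map_mul, hqq, ι_zc, hs']
  refine I.mem_HN fun a ha => ?_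
  obtain ⟨b, c, hb, hc, rfl⟩ := exists_rooted_mul ha
  rw [map_mul, show s * (I.ι c * I.ι b) * s⁻¹ = s * I.ι c * s⁻¹ * (s * I.ι b * s⁻¹) by group]
  exact mul_mem (hroot c hc) (hroot b hb)

/-- The normalizer is transitive on the involutions of the group. -/
theorem exists_to_side {a : Mdl} (ha : inA a) (h1 : a ≠ 1) : ∃ t ∈ I.HN, t * z * t⁻¹ = I.ι a := by
  rcases inA_iff.1 ha with rfl | ⟨hi, ht⟩
  · exact absurd rfl h1
  rcases eq_or_ne (tag a) 0 with h0 | h0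
  · exact ⟨1, one_mem _, by rw [eq_zc_of_tag hi h0, ι_zc]; group⟩
  · obtain ⟨s, hs, hs'⟩ := I.exists_swap_side hU
    obtain ⟨k, hk⟩ := exists_conj_of_tag_eq (isInv_rep (show 1 < 8 by norm_num)) hi
      (by rw [tag_rep (by norm_num)]; omega)
    refine ⟨I.ι k * s, mul_mem (I.ι_mem_HN k) (I.swap_mem_HN_side hU h6 hs hs'), ?_⟩
    rw [show I.ι k * s * z * (I.ι k * s)⁻¹ = I.ι k * (s * z * s⁻¹) * (I.ι k)⁻¹ by group, hs', ← hk,
      map_mul, map_mul, map_inv]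

/-- The local data for the recognition of `SL(5,2)`. -/
theorem slData (hidx : I.HN.index = 31) : SLFiveTwo.Data I.AG :=
  SLFiveTwo.Data.of_one I.card_AG (fun _ ha => I.AG_sq ha)
    (fun h hh => by
      obtain ⟨g, rfl⟩ := I.exists_ι (mem_centralizer_iff.1 hh z I.z_mem_AG).symm
      exact I.ι_mem_AG.2 (cent_A fun a ha =>
        I.ι_comm_iff.1 (mem_centralizer_iff.1 hh _ (I.ι_mem_AG.2 ha)).symm))
    I.z_mem_AG
    (I.ι_zc ▸ I.ι_ne zc_inv)
    (fun c hc => by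
      obtain ⟨k, rfl⟩ := I.exists_ι (mem_centralizer_singleton_iff.1 hc)
      exact I.ι_mem_HN k)
    (fun a ha ha1 => by
      obtain ⟨b, hb, rfl⟩ := I.mem_AG.1 ha
      exact I.exists_to_side hU h6 hb fun e => ha1 (by rw [e, map_one]))
    hidx

/-- The normalizer has order `15 * 21504`. -/
theorem card_HN_side : Nat.card I.HN = 322560 := by
  classical
  have hS : {w : G | ∃ g ∈ I.HN, g * z * g⁻¹ = w} = (I.AG : Set G) \ {1} := by
    ext w
    constructor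
    · rintro ⟨g, hg, rfl⟩
      exact ⟨I.conj_mem_AG hg I.z_mem_AG, fun e => I.ι_ne zc_inv (by rw [ι_zc]; exact conj_eq_one_iff.1 e)⟩
    · rintro ⟨hw, hw1⟩
      obtain ⟨b, hb, rfl⟩ := I.mem_AG.1 hw
      exact I.exists_to_side hU h6 hb fun e => hw1 (by rw [e, map_one]; rfl)
  let f : ↥I.HN → G := fun g => g * z * (g : G)⁻¹
  have hzN : z ∈ I.HN := I.AG_le_HN I.z_mem_AG
  have h1 : Nat.card (MulAction.orbit (ConjAct ↥I.HN) (⟨z, hzN⟩ : ↥I.HN)) = 15 := by
    have e : Nat.card (MulAction.orbit (ConjAct ↥I.HN) (⟨z, hzN⟩ : ↥I.HN)) =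
        ({w : G | ∃ g ∈ I.HN, g * z * g⁻¹ = w}).ncard := by
      rw [Nat.card_coe_set_eq, ← Set.ncard_image_of_injective _ Subtype.val_injective]
      congr 1
      ext w
      constructor
      · rintro ⟨x, ⟨g, rfl⟩, rfl⟩; exact ⟨_, (ConjAct.ofConjAct g).2, rfl⟩
      · rintro ⟨g, hg, rfl⟩; exact ⟨_, ⟨ConjAct.toConjAct ⟨g, hg⟩, rfl⟩, rfl⟩
    rw [e, hS, Set.ncard_sdiff_singleton_of_mem (one_mem _), ← Nat.card_coe_set_eq]
    show Nat.card I.AG - 1 = 15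
    rw [I.card_AG]
  have h2 : Nat.card (MulAction.stabilizer (ConjAct ↥I.HN) (⟨z, hzN⟩ : ↥I.HN)) = 21504 := by
    rw [← card_mdl]
    refine (Nat.card_congr (Equiv.ofBijective (fun k : Mdl =>
      (⟨ConjAct.toConjAct ⟨I.ι k, I.ι_mem_HN k⟩, Subtype.ext (by
        show I.ι k * z * (I.ι k)⁻¹ = z
        rw [I.ι_comm k, mul_inv_cancel_right])⟩ :
        ↥(MulAction.stabilizer (ConjAct ↥I.HN) (⟨z, hzN⟩ : ↥I.HN)))) ⟨fun a b h => ?_, ?_⟩)).symm
    · exact I.ι_inj (congrArg (fun x : ↥(MulAction.stabilizer (ConjAct ↥I.HN) (⟨z, hzN⟩ : ↥I.HN)) =>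
        ((ConjAct.ofConjAct (x : ConjAct ↥I.HN) : ↥I.HN) : G)) h)
    · rintro ⟨g, hg⟩
      have hgz : ((ConjAct.ofConjAct g : ↥I.HN) : G) * z * ((ConjAct.ofConjAct g : ↥I.HN) : G)⁻¹ = z :=
        congrArg Subtype.val hg
      obtain ⟨k, hk⟩ := I.exists_ι (mul_inv_eq_iff_eq_mul.1 hgz)
      exact ⟨k, Subtype.ext (ConjAct.ofConjAct.injective (Subtype.ext hk))⟩
  have h3 := Nat.card_congr (MulAction.orbitEquivQuotientStabilizer (ConjAct ↥I.HN) (⟨z, hzN⟩ : ↥I.HN))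
  have h4 := Subgroup.card_eq_card_quotient_mul_card_subgroup
    (MulAction.stabilizer (ConjAct ↥I.HN) (⟨z, hzN⟩ : ↥I.HN))
  rw [← h3, h1, h2, Nat.card_congr ConjAct.ofConjAct.toEquiv] at h4
  exact h4

/-- The linear case of Held's trichotomy. -/
theorem nonempty_SL (hG : Nat.card G = 9999360) :
    Nonempty (G ≃* Matrix.SpecialLinearGroup (Fin 5) (ZMod 2)) := by
  refine SLFiveTwo.nonempty_equiv (I.slData hU h6 ?_) hG
  have h := I.HN.card_mul_index
  rw [hG, I.card_HN_side hU h6] at h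
  omega

end Iso

end Cfsg.Agent.HeLocal
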