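import Cfsg.Agent.Lib.HeLocal.Model
import Cfsg.Agent.Lib.HeLocal.FactsData

/-!
# The eight classes of involutions of the model
-/

set_option autoImplicit false

namespace Cfsg.Agent.HeLocal

open Cfsg.Agent.InvChar.Coset.HeCent (M5 SL5 matOf idP)

namespace Code

def isInv (a : ℕ) : Bool := (!Nat.beq a idP) && Nat.beq (mulF a a) idP

/-- The first nonzero row. -/
def rowL (d : ℕ) : ℕ :=
  bif Nat.beq (d % 8) 0 then (bif Nat.beq (d / 8 % 8) 0 then d / 64 % 8 else d / 8 % 8) else d % 8

/-- The image vector. -/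
def colP (d : ℕ) : ℕ :=
  (bif Nat.beq (d % 8) 0 then 0 else 1) + (bif Nat.beq (d / 8 % 8) 0 then 0 else 2) +
    (bif Nat.beq (d / 64 % 8) 0 then 0 else 4)

/-- The class of an involution. -/
def tagc (a : ℕ) : ℕ :=
  let M := mOf a
  let q := qOf a
  let c := q % 2
  let p := q / 2 % 8
  let v := q / 16
  let d := Nat.xor M 273
  bif Nat.beq M 273 then
    (bif Nat.beq v 0 then (bif Nat.beq p 0 then 0 else 1) else (bif Nat.beq p 0 then 2 else 3))
  else bif !(Nat.beq v 0 || Nat.beq v (colP d)) then 7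
  else bif !(Nat.beq p 0 || Nat.beq p (rowL d)) then 6
  else bif Nat.beq c (bif Nat.beq v 0 || Nat.beq p 0 then 0 else 1) then 4 else 5

def repc (i : ℕ) : ℕ := reps.getD i 0

def certOK (e : ℕ × ℕ) : Bool :=
  inK e.1 && inK e.2 && isInv e.1 && Nat.blt (tagc e.1) 8 &&
    Nat.beq (mulF e.2 (repc (tagc e.1))) (mulF e.1 e.2)

/-- An inverse, given the inverse of the matrix part. -/
def invC (Mi a : ℕ) : ℕ :=
  let y := mk Mi 0
  let w := mulF y a
  mulF (mulF w (mulF w w)) y

def confOK (Mi a : ℕ) : Bool :=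
  let ai := invC Mi a
  Nat.beq (mulF a ai) idP && inK ai &&
    reps.all fun r => Nat.beq (tagc (mulF (mulF a r) ai)) (tagc r)

def sizes : List ℕ := [1, 14, 14, 42, 84, 84, 168, 168]

end Code

open Code

/-- The code of an element. -/
noncomputable def code (g : Mdl) : ℕ := Classical.choose (el_surj g)

theorem inK_code (g : Mdl) : inK (code g) = true := (Classical.choose_spec (el_surj g)).1

theorem el_code (g : Mdl) : el (code g) = g := (Classical.choose_spec (el_surj g)).2

theorem code_el {a : ℕ} (h : inK a = true) : code (el a) = a :=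
  el_inj (inK_code _) h (el_code _)

theorem code_inj {g k : Mdl} (h : code g = code k) : g = k := by rw [← el_code g, h, el_code]

theorem code_mul (g k : Mdl) : code (g * k) = mulF (code g) (code k) := by
  have h := el_mul (inK_code g) (inK_code k)
  rw [el_code, el_code] at h
  rw [h.1, code_el h.2]

theorem code_one : code 1 = idP := by rw [← el_id, code_el (by decide +kernel)]

theorem beq_code {g k : Mdl} : Nat.beq (code g) (code k) = true ↔ g = k :=
  ⟨fun h => code_inj (Nat.eq_of_beq_eq_true h), fun h => h ▸ Nat.beq_refl _⟩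

theorem forall_codes {f : ℕ → Bool} (h : allC f = true) (g : Mdl) : f (code g) = true := by
  obtain ⟨a, ha, rfl, hf⟩ := of_allC h g
  rwa [code_el ha]

/-- Involutions. -/
def IsInv (g : Mdl) : Prop := g * g = 1 ∧ g ≠ 1

theorem isInv_iff {g : Mdl} : IsInv g ↔ isInv (code g) = true := by
  rw [isInv, Bool.and_eq_true, Bool.not_eq_true', ← Bool.not_eq_true, ← code_mul, ← code_one, beq_code,
    beq_code]
  exact and_comm

theorem IsInv.inv {g : Mdl} (h : IsInv g) : g⁻¹ = g := inv_eq_of_mul_eq_one_right h.1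

theorem IsInv.conj {g : Mdl} (h : IsInv g) (k : Mdl) : IsInv (k * g * k⁻¹) :=
  ⟨by rw [show k * g * k⁻¹ * (k * g * k⁻¹) = k * (g * g) * k⁻¹ by group, h.1, mul_one, mul_inv_cancel],
    fun e => h.2 (conj_eq_one_iff.1 e)⟩

/-- The class of an involution. -/
noncomputable def tag (g : Mdl) : ℕ := tagc (code g)

/-- The representatives. -/
def rep (i : ℕ) : Mdl := el (repc i)

/-- The central involution. -/
def zc : Mdl := rep 0

theorem certs_ok : certs.all certOK = true := by decide +kernel

set_option maxHeartbeats 0 in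
-- a pass over the 21504 codes
theorem certs_cover : allC (fun a => !isInv a || (certs.any fun e => Nat.beq e.1 a)) = true := by
  decide +kernel

set_option maxHeartbeats 0 in
-- a pass over the 21504 codes
theorem conj_ok : mPairs.all (fun p => onQ (fun q => confOK p.2 (mk p.1 q)) 128) = true := by
  decide +kernel

theorem reps_ok : ∀ i < 8, inK (repc i) = true ∧ isInv (repc i) = true ∧ tagc (repc i) = i ∧
    repc i ∈ reps := by decide +kernel

theorem inK_rep {i : ℕ} (hi : i < 8) : inK (repc i) = true := (reps_ok i hi).1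

theorem code_rep {i : ℕ} (hi : i < 8) : code (rep i) = repc i := code_el (inK_rep hi)

theorem isInv_rep {i : ℕ} (hi : i < 8) : IsInv (rep i) :=
  isInv_iff.2 (by rw [code_rep hi]; exact (reps_ok i hi).2.1)

theorem tag_rep {i : ℕ} (hi : i < 8) : tag (rep i) = i := by
  rw [tag, code_rep hi]; exact (reps_ok i hi).2.2.1

theorem tag_conj_rep (k : Mdl) {i : ℕ} (hi : i < 8) : tag (k * rep i * k⁻¹) = i := by
  obtain ⟨p, hp, q, hq, hk⟩ := inK_mem (inK_code k)
  have h := onQ_spec (List.all_eq_true.1 conj_ok p hp) q hq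
  rw [← hk, confOK] at h
  simp only [Bool.and_eq_true] at h
  obtain ⟨⟨h1, h2⟩, h3⟩ := h
  have hinv : el (invC p.2 (code k)) = k⁻¹ := by
    refine eq_inv_of_mul_eq_one_right (code_inj ?_)
    rw [code_mul, code_el h2, code_one, Nat.eq_of_beq_eq_true h1]
  have := Nat.eq_of_beq_eq_true (List.all_eq_true.1 h3 _ (reps_ok i hi).2.2.2)
  rw [(reps_ok i hi).2.2.1] at this
  rw [tag, code_mul, code_mul, code_rep hi, ← hinv, code_el h2, this]

theorem cert_spec {g : Mdl} (hg : IsInv g) : tag g < 8 ∧ ∃ k : Mdl, k * rep (tag g) * k⁻¹ = g := by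
  have h := forall_codes certs_cover g
  rw [isInv_iff.1 hg, Bool.not_true, Bool.false_or, List.any_eq_true] at h
  obtain ⟨e, he, hea⟩ := h
  have h := List.all_eq_true.1 certs_ok e he
  simp only [certOK, Bool.and_eq_true, Nat.blt_eq] at h
  obtain ⟨⟨⟨⟨h1, h2⟩, -⟩, h4⟩, h5⟩ := h
  have hx : e.1 = code g := Nat.eq_of_beq_eq_true hea
  rw [hx] at h4 h5
  refine ⟨h4, el e.2, ?_⟩
  rw [mul_inv_eq_iff_eq_mul]
  refine code_inj ?_
  rw [code_mul, code_mul, code_el h2, code_rep (show tag g < 8 from h4)]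
  exact Nat.eq_of_beq_eq_true h5

theorem tag_lt {g : Mdl} (hg : IsInv g) : tag g < 8 := (cert_spec hg).1

theorem exists_conj_rep {g : Mdl} (hg : IsInv g) : ∃ k : Mdl, k * rep (tag g) * k⁻¹ = g :=
  (cert_spec hg).2

theorem tag_conj {g : Mdl} (hg : IsInv g) (k : Mdl) : tag (k * g * k⁻¹) = tag g := by
  obtain ⟨j, hj⟩ := exists_conj_rep hg
  conv_lhs => rw [← hj, show k * (j * rep (tag g) * j⁻¹) * k⁻¹ = (k * j) * rep (tag g) * (k * j)⁻¹ by group]
  exact tag_conj_rep _ (tag_lt hg)

theorem exists_conj_of_tag_eq {g g' : Mdl} (hg : IsInv g) (hg' : IsInv g') (h : tag g = tag g') :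
    ∃ k : Mdl, k * g * k⁻¹ = g' := by
  obtain ⟨j, hj⟩ := exists_conj_rep hg
  obtain ⟨j', hj'⟩ := exists_conj_rep hg'
  refine ⟨j' * j⁻¹, ?_⟩
  rw [← hj', ← h]
  conv_lhs => rw [← hj]
  group

theorem class_size : ∀ i < 8, ((certs.map Prod.fst).filter fun a => Nat.beq (tagc a) i).length = sizes.getD i 0 := by
  decide +kernel

theorem certs_nodup : (certs.map Prod.fst).Nodup := by decide +kernel

theorem card_class {i : ℕ} (hi : i < 8) :
    Nat.card {g : Mdl // IsInv g ∧ tag g = i} = sizes.getD i 0 := by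
  classical
  set l := (certs.map Prod.fst).filter fun a => Nat.beq (tagc a) i with hl
  have hnd : l.Nodup := certs_nodup.filter _
  have hmem : ∀ g : Mdl, (IsInv g ∧ tag g = i) ↔ code g ∈ l := by
    intro g
    rw [hl, List.mem_filter, List.mem_map]
    constructor
    · rintro ⟨hg, ht⟩
      have h := forall_codes certs_cover g
      rw [isInv_iff.1 hg, Bool.not_true, Bool.false_or, List.any_eq_true] at h
      obtain ⟨e, he, hea⟩ := h
      exact ⟨⟨e, he, Nat.eq_of_beq_eq_true hea⟩, by rw [← ht]; exact Nat.beq_refl _⟩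
    · rintro ⟨⟨e, he, hea⟩, ht⟩
      have h := List.all_eq_true.1 certs_ok e he
      simp only [certOK, Bool.and_eq_true] at h
      exact ⟨isInv_iff.2 (hea ▸ h.1.1.2), Nat.eq_of_beq_eq_true ht⟩
  have hK : ∀ a ∈ l, inK a = true := by
    intro a ha
    rw [hl, List.mem_filter, List.mem_map] at ha
    obtain ⟨⟨e, he, rfl⟩, -⟩ := ha
    have h := List.all_eq_true.1 certs_ok e he
    simp only [certOK, Bool.and_eq_true] at h
    exact h.1.1.1.1
  let eq' : {g : Mdl // IsInv g ∧ tag g = i} ≃ {a : ℕ // a ∈ l.toFinset} :=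
    { toFun := fun g => ⟨code g.1, List.mem_toFinset.2 ((hmem g.1).1 g.2)⟩
      invFun := fun a => ⟨el a.1, (hmem _).2 (by
        rw [code_el (hK _ (List.mem_toFinset.1 a.2))]; exact List.mem_toFinset.1 a.2)⟩
      left_inv := fun g => Subtype.ext (el_code g.1)
      right_inv := fun a => Subtype.ext (code_el (hK _ (List.mem_toFinset.1 a.2))) }
  rw [Nat.card_congr eq', Nat.card_eq_fintype_card, Fintype.card_coe, List.toFinset_card_of_nodup hnd,
    class_size i hi]

theorem card_cent {g : Mdl} (hg : IsInv g) :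
    sizes.getD (tag g) 0 * Nat.card (Subgroup.centralizer ({g} : Set Mdl)) = 21504 := by
  classical
  have hset : (MulAction.orbit (ConjAct Mdl) g : Set Mdl) = {x | IsInv x ∧ tag x = tag g} := by
    ext x
    rw [ConjAct.mem_orbit_conjAct, Set.mem_ofPred_eq, isConj_iff]
    constructor
    · rintro ⟨c, rfl⟩
      refine ⟨?_, ?_⟩
      · simpa [mul_assoc] using hg.conj c⁻¹
      · have := tag_conj hg c⁻¹
        simpa [mul_assoc] using this
    · rintro ⟨hx, ht⟩
      obtain ⟨k, hk⟩ := exists_conj_of_tag_eq hx hg ht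
      exact ⟨k, hk⟩
  have h := (MulAction.stabilizer (ConjAct Mdl) g).index_mul_card
  rw [MulAction.index_stabilizer, hset, ← Nat.card_coe_set_eq] at h
  rw [← card_class (tag_lt hg)]
  have hc : Nat.card (MulAction.stabilizer (ConjAct Mdl) g) = Nat.card (Subgroup.centralizer ({g} : Set Mdl)) :=
    Nat.card_congr (Equiv.subtypeEquiv ConjAct.ofConjAct.toEquiv fun x => by
      rw [MulAction.mem_stabilizer_iff, ConjAct.smul_def, Subgroup.mem_centralizer_singleton_iff,
        mul_inv_eq_iff_eq_mul]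
      rfl)
  rw [hc] at h
  exact h.trans ((Nat.card_congr ConjAct.ofConjAct.toEquiv).trans card_mdl)

end Cfsg.Agent.HeLocal
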