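import Cfsg.Agent.Lib.HeLocal.Cz.Main
import Cfsg.Agent.Lib.HeLocal.Tag

/-!
# From the coordinates of the plain decomposable model to the transvection centralizer
-/

set_option autoImplicit false
set_option maxRecDepth 100000

namespace Cfsg.Agent.HeLocal.CoordModel

open Subgroup

/-- A nine-bit matrix transposed. -/
def tr9 (m : ℕ) : ℕ :=
  Cz.enc fun i j => Cz.bit' m (3 * j + i)

/-- The matrix of the model for an index of `L₃(2)`: the inverse transpose. -/
def mIdx (l : ℕ) : ℕ := tr9 (Cz.code (Cz.linv l))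

def rowK (m i : ℕ) : ℕ := Nat.land (Nat.shiftRight m (3 * i)) 7

/-- A row vector times a matrix. -/
def rap (p m : ℕ) : ℕ :=
  Nat.xor (bif Cz.bit' p 0 then rowK m 0 else 0) (Nat.xor (bif Cz.bit' p 1 then rowK m 1 else 0)
    (bif Cz.bit' p 2 then rowK m 2 else 0))

/-- The code in the model of a coordinate in the normal subgroup. -/
def cv (a : ℕ) : ℕ :=
  let M := mIdx 0
  Code.mk M (Cz.b2n (Cz.sgn a) + 2 * rap (Nat.land (Cz.vec a) 7) M + 16 * Nat.shiftRight (Cz.vec a) 3)

/-- The code in the model of an index of `L₃(2)`. -/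
def cl (l : ℕ) : ℕ := Code.mk (mIdx l) 0

/-- The generators of the normal subgroup. -/
def lowL : List ℕ := [1, 2, 4, 8, 16, 32, 64]

/-- The lowest set bit. -/
def low (n : ℕ) : ℕ :=
  bif Cz.bit' n 0 then 1 else bif Cz.bit' n 1 then 2 else bif Cz.bit' n 2 then 4 else bif Cz.bit' n 3 then 8
    else bif Cz.bit' n 4 then 16 else bif Cz.bit' n 5 then 32 else 64

/-- The product of two coordinates. -/
abbrev mm (x y : ℕ) : ℕ := Cz.mul false false x y

theorem cv_check : Code.onQ (fun a => Code.inK (cv a) && Nat.beq (Code.mOf (cv a)) 273 &&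
    (Nat.beq a 0 || !Nat.beq (cv a) (cv 0)) && Nat.blt (mm a (mm a a)) 128 &&
    Nat.beq (mm a (mm a (mm a a))) 0 && lowL.all fun b =>
      Nat.blt (mm a b) 128 && Nat.beq (Code.mulF (cv a) (cv b)) (cv (mm a b))) 128 = true := by
  decide +kernel

theorem low_check : Code.onQ (fun n => Nat.beq n 0 ||
    ((lowL.any fun b => Nat.beq b (low n)) && Nat.blt (n - low n) n && Nat.beq (mm (n - low n) (low n)) n)) 128 =
      true := by
  decide +kernel

theorem cl_check : Code.onQ (fun l => Code.inK (cl l) &&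
    (Nat.beq l 0 || !Nat.beq (Code.mOf (cl l)) 273) &&
    ([1, 2].all fun g => Nat.beq (mm (128 * l) (128 * g)) (128 * Cz.lm l g) &&
      Nat.beq (Code.mulF (cl l) (cl g)) (cl (Cz.lm l g))) &&
    lowL.all fun b => Nat.beq (mm (128 * l) b / 128) l &&
      Nat.beq (Code.mulF (cl l) (cv b)) (Code.mulF (cv (mm (128 * l) b % 128)) (cl l))) 168 = true := by
  decide +kernel

theorem base : cv 0 = Cfsg.Agent.InvChar.Coset.HeCent.idP ∧ cl 0 = Cfsg.Agent.InvChar.Coset.HeCent.idP ∧
    cv 1 = Code.repc 0 := by decide +kernel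

theorem split_mul {a l : ℕ} (ha : a < 128) : mm a (128 * l) = a + 128 * Cz.lm 0 l := by
  have h4 : ∀ a < 128, Cz.lpart a = 0 ∧ Cz.mk (Cz.sgn a) (Cz.vec a) 0 = a ∧ Cz.beta (Cz.vec a) 0 = false ∧
      Nat.xor (Cz.vec a) 0 = Cz.vec a := by decide +kernel
  obtain ⟨h0, hm, hb, hx⟩ := h4 a ha
  have hs : Cz.sgn (128 * l) = false := by
    show Nat.beq ((128 * l) >>> 0 &&& 1) 1 = false
    rw [Nat.shiftRight_zero, Nat.and_one_is_mod, show 128 * l % 2 = 0 by omega]
    rfl
  have hv : Cz.vec (128 * l) = 0 := by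
    show (128 * l) >>> 1 &&& 63 = 0
    rw [Nat.shiftRight_eq_div_pow, show (63 : ℕ) = 2 ^ 6 - 1 by norm_num, Nat.and_two_pow_sub_one_eq_mod]
    omega
  have hl : Cz.lpart (128 * l) = l := by
    show (128 * l) >>> 7 = l
    rw [Nat.shiftRight_eq_div_pow]
    omega
  have hz : Cz.ap false 0 0 = 0 ∧ Cz.cq false 0 0 = false := by decide +kernel
  simp only [mm, Cz.mul, h0, hs, hv, hl, hz.1, hz.2, hb, hx, Cz.tw, Bool.false_and, Bool.xor_false]
  conv_rhs => rw [← hm]
  simp [Cz.mk]

/-- The element of the model for a coordinate in the normal subgroup. -/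
def A (cv : ℕ → ℕ) (a : ℕ) : Mdl := el (cv a)

/-- The element of the model for an index. -/
def B (cl : ℕ → ℕ) (l : ℕ) : Mdl := el (cl l)

/-- What the passes give; stated for arbitrary functions, so that nothing is evaluated. -/
structure Facts (cv cl : ℕ → ℕ) (m : ℕ → ℕ → ℕ) : Prop where
  hcv : ∀ a < 128, Code.inK (cv a) = true ∧ Code.mOf (cv a) = 273 ∧ (cv a = cv 0 → a = 0) ∧
      (m a (m a a) < 128 ∧ m a (m a (m a a)) = 0) ∧
      ∀ b ∈ lowL, m a b < 128 ∧ Code.mulF (cv a) (cv b) = cv (m a b)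
  hcl : ∀ l < 168, Code.inK (cl l) = true ∧ (Code.mOf (cl l) = 273 → l = 0) ∧
      (∀ g : Bool, m (128 * l) (128 * Cz.gidx g) = 128 * Cz.lm l (Cz.gidx g) ∧
        Code.mulF (cl l) (cl (Cz.gidx g)) = cl (Cz.lm l (Cz.gidx g))) ∧
      ∀ b ∈ lowL, m (128 * l) b / 128 = l ∧
        Code.mulF (cl l) (cv b) = Code.mulF (cv (m (128 * l) b % 128)) (cl l)
  lt : ∀ {x y : ℕ}, x < 21504 → y < 21504 → m x y < 21504
  split : ∀ a < 128, ∀ l < 168, m a (128 * l) = a + 128 * l
  decomp : ∀ n < 128, n = 0 ∨ ∃ u b, u < n ∧ b ∈ lowL ∧ m u b = n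
  cv0 : cv 0 = Cfsg.Agent.InvChar.Coset.HeCent.idP
  cl0 : cl 0 = Cfsg.Agent.InvChar.Coset.HeCent.idP
  cv1 : cv 1 = Code.repc 0

theorem facts : Facts cv cl mm where
  hcv := by
    intro a ha
    have h := Code.onQ_spec cv_check a ha
    simp only [Bool.and_eq_true, Nat.beq_eq, Nat.blt_eq, List.all_eq_true, Bool.or_eq_true,
      Bool.not_eq_true'] at h
    obtain ⟨⟨⟨⟨⟨h1, h2⟩, h3⟩, h4⟩, h5⟩, h6⟩ := h
    refine ⟨h1, h2, fun e => h3.resolve_right fun h => ?_, ⟨h4, h5⟩, h6⟩
    rw [e, Nat.beq_refl] at h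
    exact Bool.noConfusion h
  hcl := by
    intro l hl
    have h := Code.onQ_spec cl_check l hl
    simp only [Bool.and_eq_true, Nat.beq_eq, List.all_eq_true, Bool.or_eq_true, Bool.not_eq_true'] at h
    obtain ⟨⟨⟨h1, h2⟩, h3⟩, h4⟩ := h
    refine ⟨h1, fun e => h2.resolve_right fun h => ?_, fun g => h3 _ ?_, h4⟩
    · rw [e, Nat.beq_refl] at h
      exact Bool.noConfusion h
    · cases g <;> simp [Cz.gidx]
  lt hx hy := (Cz.mul_lt hx hy).1
  split a ha l hl := by rw [split_mul ha, Cz.lm_cancel l hl]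
  decomp n hn := by
    have h := Code.onQ_spec low_check n hn
    simp only [Bool.or_eq_true, Bool.and_eq_true, Nat.beq_eq, List.any_eq_true, Nat.blt_eq] at h
    rcases h with h | ⟨⟨⟨b, hb, hbe⟩, h2⟩, h3⟩
    · exact Or.inl h
    · exact Or.inr ⟨_, _, h2, hbe ▸ hb, h3⟩
  cv0 := base.1
  cl0 := base.2.1
  cv1 := base.2.2

/-- The isomorphism, for arbitrary functions. -/
theorem exists_iso_of {G : Type*} [Group G] {z : G} {cv cl : ℕ → ℕ} {m : ℕ → ℕ → ℕ} (H : Facts cv cl m)
    (C : Cz.Coord false false z)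
    (C_mul : ∀ x < 21504, ∀ y < 21504, C.toC (m x y) = C.toC x * C.toC y) :
    ∃ e : Mdl ≃* ↥(centralizer ({z} : Set G)), (e zc : G) = z := by
  classical
  have hlow : ∀ b ∈ lowL, b < 128 := by decide
  have hA0 : A cv 0 = 1 := by rw [A, H.cv0, el_id]
  have hB0 : B cl 0 = 1 := by rw [B, H.cl0, el_id]
  have hAb : ∀ a < 128, ∀ b ∈ lowL, A cv (m a b) = A cv a * A cv b := fun a ha b hb => by
    rw [A, A, A, (el_mul (H.hcv a ha).1 (H.hcv b (hlow b hb)).1).1, ((H.hcv a ha).2.2.2.2 b hb).2]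
  have assoc : ∀ x < 21504, ∀ y < 21504, ∀ w < 21504, m (m x y) w = m x (m y w) := by
    intro x hx y hy w hw
    refine C.toC_inj _ ((H.lt (H.lt hx hy) hw)) _ (H.lt hx (H.lt hy hw)) ?_
    rw [C_mul _ (H.lt hx hy) _ hw, C_mul _ hx _ hy,
      C_mul _ hx _ (H.lt hy hw), C_mul _ hy _ hw, mul_assoc]
  -- induction over the normal subgroup
  have low_induction : ∀ Q : ℕ → Prop, Q 0 → (∀ u < 128, ∀ b ∈ lowL, Q u → Q (m u b)) → ∀ n < 128, Q n := by
    intro Q h0 hs n
    induction n using Nat.strong_induction_on with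
    | _ n ih =>
      intro hn
      rcases H.decomp n hn with rfl | ⟨u, b, hu, hb, rfl⟩
      · exact h0
      · exact hs u (by omega) b hb (ih u hu (by omega))
  have hA : ∀ w < 128, ∀ a < 128, m a w < 128 ∧ A cv (m a w) = A cv a * A cv w := by
    refine low_induction _ (fun a ha => ?_) fun u hu b hb h a ha => ?_
    · have e := H.split a ha 0 (by norm_num)
      rw [Nat.mul_zero, Nat.add_zero] at e
      exact ⟨by rw [e]; exact ha, by rw [e, hA0, mul_one]⟩
    · have hb' := hlow b hb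
      rw [← assoc a (by omega) u (by omega) b (by omega)]
      exact ⟨((H.hcv _ (h a ha).1).2.2.2.2 b hb).1,
        by rw [hAb _ (h a ha).1 b hb, (h a ha).2, hAb u hu b hb, mul_assoc]⟩
  -- the map
  choose f hf hfe using C.toC_surj
  have hfC : ∀ x < 21504, f (C.toC x) = x := fun x hx => C.toC_inj _ (hf _) _ hx (hfe _)
  let φ : ↥(centralizer ({z} : Set G)) → Mdl := fun c => A cv (f c % 128) * B cl (f c / 128)
  have hsplit := H.split
  have hφ : ∀ a < 128, ∀ l < 168, φ (C.toC a * C.toC (128 * l)) = A cv a * B cl l := by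
    intro a ha l hl
    show A cv (f _ % 128) * B cl (f _ / 128) = _
    rw [← C_mul a (by omega) _ (by omega)]
    rw [show m a (128 * l) = a + 128 * l from hsplit a ha l hl, hfC _ (by omega)]
    rw [show (a + 128 * l) % 128 = a by omega, show (a + 128 * l) / 128 = l by omega]
  have hdec : ∀ c, c = C.toC (f c % 128) * C.toC (128 * (f c / 128)) := by
    intro c
    have := hf c
    rw [← C_mul _ (by omega) _ (by omega)]
    rw [show m (f c % 128) (128 * (f c / 128)) = _ from hsplit _ (by omega) _ (by omega),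
      Nat.mod_add_div, hfe]
  let P : ℕ → Prop := fun y => ∀ c, φ (c * C.toC y) = φ c * φ (C.toC y)
  have hmul : ∀ y y', y < 21504 → y' < 21504 → P y → P y' → P (m y y') := by
    intro y y' hy hy' h h' c
    rw [C_mul y hy y' hy', ← mul_assoc, h', h, h', mul_assoc]
  have hφlow : ∀ b < 128, φ (C.toC b) = A cv b := by
    intro b hb
    have := hφ b hb 0 (by norm_num)
    rwa [Nat.mul_zero, C.zero, mul_one, hB0, mul_one] at this
  have hφhigh : ∀ l < 168, φ (C.toC (128 * l)) = B cl l := by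
    intro l hl
    have := hφ 0 (by norm_num) l hl
    rwa [C.zero, one_mul, hA0, one_mul] at this
  have hzero : P 0 := fun c => by rw [C.zero, mul_one, ← C.zero, hφlow 0 (by norm_num), hA0, mul_one]
  have hgb : ∀ b ∈ lowL, P b := by
    intro b hb c
    have hb' := hlow b hb
    have := hf c
    obtain ⟨hq, hcomm⟩ := (H.hcl (f c / 128) (by omega)).2.2.2 b hb
    have hw : m (128 * (f c / 128)) b % 128 < 128 := Nat.mod_lt _ (by norm_num)
    obtain ⟨hlt, hAm⟩ := hA _ hw (f c % 128) (Nat.mod_lt _ (by norm_num))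
    have e : C.toC (128 * (f c / 128)) * C.toC b =
        C.toC (m (128 * (f c / 128)) b % 128) * C.toC (128 * (f c / 128)) := by
      rw [← C_mul _ (by omega) _ (by omega), ← C_mul _ (by omega) _ (by omega)]
      congr 1
      refine Eq.trans ?_ (hsplit _ hw _ (by omega)).symm
      omega
    conv_lhs => rw [hdec c, mul_assoc, e, ← mul_assoc, ← C_mul _ (by omega) _ (by omega)]
    rw [hφ _ hlt _ (by omega), hAm, hφlow b hb']
    show _ = A cv (f c % 128) * B cl (f c / 128) * A cv b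
    rw [mul_assoc, mul_assoc]
    refine congrArg (A cv (f c % 128) * ·) ?_
    show el _ * el _ = el _ * el _
    rw [(el_mul (H.hcv _ hw).1 (H.hcl _ (by omega)).1).1, (el_mul (H.hcl _ (by omega)).1 (H.hcv b hb').1).1, hcomm]
  have hgl : ∀ g, P (128 * Cz.gidx g) := by
    intro g c
    have := hf c
    have hg := Cz.gidx_lt g
    obtain ⟨hm, hB⟩ := (H.hcl (f c / 128) (by omega)).2.2.1 g
    have hlm := Cz.lm_range (l := f c / 128) (k := Cz.gidx g) (by omega) hg
    conv_lhs => rw [hdec c, mul_assoc, ← C_mul _ (by omega) _ (by omega)]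
    rw [show m (128 * (f c / 128)) (128 * Cz.gidx g) = _ from hm,
      hφ _ (Nat.mod_lt _ (by norm_num)) _ hlm, hφhigh _ hg]
    show _ = A cv (f c % 128) * B cl (f c / 128) * B cl (Cz.gidx g)
    rw [mul_assoc]
    refine congrArg (A cv (f c % 128) * ·) ?_
    show el _ = el _ * el _
    rw [(el_mul (H.hcl _ (by omega)).1 (H.hcl _ hg).1).1, hB]
  have hPlow : ∀ n < 128, P n := low_induction _ hzero fun u hu b hb h =>
    hmul _ _ (by omega) (by have := hlow b hb; omega) h (hgb b hb)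
  have hPhigh : ∀ l < 168, P (128 * l) := by
    refine Cz.tree_induction hzero fun k hk g h => ?_
    rw [← ((H.hcl k hk).2.2.1 g).1]
    exact hmul _ _ (by omega) (by have := Cz.gidx_lt g; omega) h (hgl g)
  have hφmul : ∀ c d, φ (c * d) = φ c * φ d := fun c d => by
    have := hf d
    have hP := hmul _ _ (by omega) (by omega) (hPlow (f d % 128) (by omega)) (hPhigh (f d / 128) (by omega)) c
    rwa [hsplit _ (by omega) _ (by omega), Nat.mod_add_div, hfe] at hP
  let ψ : ↥(centralizer ({z} : Set G)) →* Mdl := MonoidHom.mk' φ hφmul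
  have hinj : Function.Injective ψ := by
    rw [injective_iff_map_eq_one]
    intro c hc
    have := hf c
    have hc' : A cv (f c % 128) * B cl (f c / 128) = 1 := hc
    obtain ⟨hlt, h0⟩ := (H.hcv (f c % 128) (by omega)).2.2.2.1
    have hinv : B cl (f c / 128) = A cv (m (f c % 128) (m (f c % 128) (f c % 128))) := by
      have := (hA _ hlt (f c % 128) (by omega)).2
      rw [h0, hA0] at this
      exact mul_left_cancel (hc'.trans this)
    have he := el_inj (H.hcl (f c / 128) (by omega)).1 (H.hcv _ hlt).1 hinv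
    have hl := (H.hcl (f c / 128) (by omega)).2.1 (by rw [he]; exact (H.hcv _ hlt).2.1)
    rw [hl, hB0, mul_one, ← hA0] at hc'
    have ha := (H.hcv (f c % 128) (by omega)).2.2.1 (el_inj (H.hcv (f c % 128) (by omega)).1 (H.hcv 0 (by norm_num)).1 hc')
    rw [← hfe c, show f c = 0 by omega, C.zero]
  have hfin : Finite ↥(centralizer ({z} : Set G)) := Finite.of_injective ψ hinj
  have hcard : Nat.card ↥(centralizer ({z} : Set G)) = Nat.card Mdl := by
    have e : Fin 21504 ≃ ↥(centralizer ({z} : Set G)) := Equiv.ofBijective (fun i => C.toC i.val)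
      ⟨fun i j h => Fin.ext (C.toC_inj _ i.isLt _ j.isLt h), fun c => ⟨⟨f c, hf c⟩, hfe c⟩⟩
    rw [← Nat.card_congr e, Nat.card_fin, card_mdl]
  refine ⟨(MulEquiv.ofBijective ψ ((Nat.bijective_iff_injective_and_card ψ).2 ⟨hinj, hcard⟩)).symm, ?_⟩
  refine (congrArg Subtype.val ((MulEquiv.symm_apply_eq _).2 ?_)).trans C.toC_one
  show zc = φ (C.toC 1)
  rw [hφlow 1 (by norm_num), A, H.cv1]
  rfl

/-- The isomorphism. -/
theorem exists_iso {G : Type*} [Group G] {z : G} (C : Cz.Coord false false z) :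
    ∃ e : Mdl ≃* ↥(centralizer ({z} : Set G)), (e zc : G) = z :=
  exists_iso_of facts C C.toC_mul

end Cfsg.Agent.HeLocal.CoordModel
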