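import Mathlib

/-!
# The isomorphism between the two coded models: images of the normal subgroup and of the section
-/

set_option autoImplicit false

namespace Cfsg.Agent.HeLocal.Cz

/-- The images of the 128 codes of the normal subgroup, 25 bits each. -/
def phiQData : ℕ :=
  0x928c2ec94617e4a20bf25105d920c2fc9061764820bb24105f828c2fc1461760a20bb05105f820c2ec10617e0820bf04105d928c2dc9461664a20b7251059920c2cc90616e4820b324105b828c2cc14616e0a20b305105b820c2dc1061660820b7041059928c2bc9461564a20ab251057920c2bc9061564820ab241057828c2ac14615e0a20af051055820c2ac10615e0820af041055928c28c94614e4a20a3251053920c28c90614e4820a3241053828c29c1461460a20a7051051820c29c1061460820a7041051928c27c9461364a209b25104f920c26c90613e48209f24104d828c27c1461360a209b05104f820c26c10613e08209f04104d928c24c94612e4a209325104b920c25c906126482097241049828c24c14612e0a209305104b820c25c106126082097041049928c22c94611e4a208f251045920c22c90611e48208f241045828c22c14611e0a208f051045820c22c10611e08208f041045928c21c9461064a2087251041920c21c906106482087241041828c21c1461060a2087051041820c21c106106082087041041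

/-- The images of the 168 codes of the section, 25 bits each. -/
def phiSData : ℕ :=
  0x241020a20410584e083446041e52020c0881071c60824c5041e11820e11410614e0824a3041412020b398107904082ca1041a60820a21c10710e0830a3041a21820f28410588e083065041a61020d3901049860830a6041c41820f08810790c082ca4041622820929c107886083464041462820c3941059820838a4041643020a09c10494c082883041c23820d1881069c2082867041833020c288106882082c26041c72020e284105904083c4604143282093941078c408386404145202091141070460830e6041251020f10410504c082486041432020a31c1068c2083444041670820a28410488e083822041c40820c188107984082465041822820938c1078880830e1041811820d398105182083843041813020d31010510a082cc704182382093901058480838e5041261020b1181070480830c5041a41020f30c10710a0834c7041a71820c09c104906082825041c33820c30c10690c083cc5041672820f090105902083422041e33020b31010584a083467041461820921c1079460830e2041233020d08c1078ca082cc2041e40820b29c1051c8083861041671020a19810794c0824e2041e30820a38c1070c40838a7041470820919c1071c4083061041c20820f3101051cc082464041223020c31c104988082c44041c12820c304106086083426041e12820b21410684e083483041e42820b28810690e0828a3041c51020a298104888083041041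

end Cfsg.Agent.HeLocal.Cz
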