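import Cfsg.Agent.Lib.HeLocal.Tag

/-!
# Finite facts of the model for the fusion from the graph property
-/

set_option autoImplicit false
set_option maxRecDepth 100000

namespace Cfsg.Agent.HeLocal

namespace Code

/-- The data of one side. -/
structure Side where
  i : ℕ
  o : ℕ
  good : ℕ
  bad : ℕ
  pos : List ℕ
  neg : List ℕ
  oct : List (ℕ × ℕ)
  m1 : ℕ
  m2 : ℕ

namespace Side

variable (s : Side)

/-- The involution of the side. -/
def X : ℕ := repc s.i

/-- The centre. -/
def Zc : ℕ := repc 0

/-- An involution commuting with the involution of the side. -/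
def okT (n : ℕ) : Bool := isInv n && Nat.beq (mulF n s.X) (mulF s.X n)

def tZ (n : ℕ) : ℕ := tagc (mulF n Zc)

def tX (n : ℕ) : ℕ := tagc (mulF n s.X)

def tXZ (n : ℕ) : ℕ := tagc (mulF (mulF n s.X) Zc)

def low (t : ℕ) : Bool := Nat.blt t 3

def memL (n : ℕ) (l : List ℕ) : Bool := l.any fun a => Nat.beq a n

/-- The first pass: images of the elements of the other class of `Q`. -/
def passA (n : ℕ) : Bool :=
  !(s.okT n && !Nat.beq (tagc n) 3 && !Nat.beq (s.tX n) 3 && !low (tZ n) && !low (s.tXZ n) &&
      !Nat.beq (tagc n) (tZ n) && !Nat.beq (tagc n) (s.tXZ n) && !Nat.beq (s.tX n) (tZ n) &&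
      !Nat.beq (s.tX n) (s.tXZ n)) ||
    (memL n s.pos || memL n s.neg)

def isZ (t : ℕ) : Bool := !(Nat.beq t 3 || Nat.beq t 5)

/-- The second pass: images of the octad. -/
def passC (n : ℕ) : Bool :=
  !(s.okT n && !(Nat.beq n s.X || Nat.beq n Zc || Nat.beq n (mulF s.X Zc)) &&
      isZ (tagc n) && isZ (s.tX n) && isZ (tZ n) && isZ (s.tXZ n)) ||
    (Nat.beq (tagc n) s.i || Nat.beq (tagc n) s.good ||
      s.pos.all fun a => Nat.beq (mulF n a) (mulF a n))

/-- The third pass: the octad is self centralizing. -/
def passE (n : ℕ) : Bool :=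
  !(s.okT n && Nat.beq (tagc n) 3) || s.oct.any fun p => !Nat.beq (mulF n p.1) (mulF p.1 n)

def posOK : Bool :=
  s.pos.all (fun a => inK a && Nat.beq (tagc a) 4 && Nat.beq (tZ a) 5) &&
    s.neg.all (fun a => inK a && Nat.beq (tagc a) 5 && Nat.beq (tZ a) 4)

def negOK : Bool := s.neg.all fun a => s.neg.all fun b => !memL (mulF a b) s.neg

/-- An element of the other class moved by the side. -/
def otherOK (m : ℕ) : Bool :=
  inK m && s.okT m && Nat.beq (tagc m) s.o && Nat.beq (s.tX m) 3 && Nat.beq (s.tXZ m) 3 &&
    Nat.beq (tZ m) s.o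

def octOK : Bool :=
  s.oct.all fun p => inK p.1 && s.okT p.1 && Nat.beq (tagc p.1) s.i && Nat.beq (tZ p.1) s.i &&
    Nat.beq (s.tX p.1) s.i && Nat.beq (s.tXZ p.1) s.i &&
    !(Nat.beq p.1 s.X || Nat.beq p.1 Zc || Nat.beq p.1 (mulF s.X Zc)) &&
    s.otherOK p.2 && !Nat.beq (mulF p.1 p.2) (mulF p.2 p.1)

def smallOK : Bool :=
  (Nat.beq s.i 1 && Nat.beq s.o 2 || Nat.beq s.i 2 && Nat.beq s.o 1) && inK s.X && inK (mulF s.X Zc) &&
    isInv s.X && !Nat.beq s.X Zc &&
    s.posOK && s.negOK && s.otherOK s.m1 && s.otherOK s.m2 && s.otherOK (mulF s.m1 s.m2) &&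
    s.octOK && !s.oct.isEmpty

end Side

/-- The side of the second class. -/
def side1 : Side :=
  ⟨1, 2, 6, 7, [17174593, 17174597, 21237825, 21237829, 21368897, 21368901],
    [17174595, 17174599, 21237827, 21237831, 21368899, 21368903],
    [(17043529, 17109057), (17043537, 19140673)], 17109057, 19140673⟩

/-- The side of the third class. -/
def side2 : Side :=
  ⟨2, 1, 7, 6, [17051713, 17053761, 17059905, 17061953, 17068097, 17070145],
    [17051715, 17053763, 17059907, 17061955, 17068099, 17070147],
    [(17109057, 17043529), (19140673, 17043537)], 17043529, 17043537⟩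

/-- The elements of `Q`. -/
def inQ (a : ℕ) : Bool := Nat.beq (mOf a) 273

theorem side1_small : side1.smallOK = true := by decide +kernel

theorem side2_small : side2.smallOK = true := by decide +kernel

set_option maxHeartbeats 0 in
-- a pass over the 21504 codes
theorem side1_passA : allC side1.passA = true := by decide +kernel

set_option maxHeartbeats 0 in
-- a pass over the 21504 codes
theorem side2_passA : allC side2.passA = true := by decide +kernel

set_option maxHeartbeats 0 in
-- a pass over the 21504 codes
theorem side1_passC : allC side1.passC = true := by decide +kernel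

set_option maxHeartbeats 0 in
-- a pass over the 21504 codes
theorem side2_passC : allC side2.passC = true := by decide +kernel

set_option maxHeartbeats 0 in
-- a pass over the 21504 codes
theorem side1_passE : allC side1.passE = true := by decide +kernel

set_option maxHeartbeats 0 in
-- a pass over the 21504 codes
theorem side2_passE : allC side2.passE = true := by decide +kernel

set_option maxHeartbeats 0 in
-- a pass over the 21504 codes
theorem inQ_tag : allC (fun a => !isInv a || (inQ a == Nat.blt (tagc a) 4)) = true := by decide +kernel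

/-- Everything computed about a side. -/
structure Side.OK (s : Side) : Prop where
  small : s.smallOK = true
  passA : allC s.passA = true
  passC : allC s.passC = true
  passE : allC s.passE = true

theorem side1_ok : side1.OK := ⟨side1_small, side1_passA, side1_passC, side1_passE⟩

theorem side2_ok : side2.OK := ⟨side2_small, side2_passA, side2_passC, side2_passE⟩

end Code

end Cfsg.Agent.HeLocal
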