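import Cfsg.Agent.Lib.HeLocal.Cz.Lift
import Cfsg.Agent.Lib.HeLocal.CzBridgeData
import Cfsg.Agent.Lib.HeLocal.FusionData

/-!
# From the plain coded model to the model: the finite checks

The map is given on the 128 codes of the normal subgroup and on the 168 codes of the section.
-/

set_option autoImplicit false
set_option maxRecDepth 100000

namespace Cfsg.Agent.HeLocal.Cz

open Cfsg.Agent.InvChar.Coset.HeCent (idP)

/-- The image of a code of the normal subgroup. -/
def qim (j : ℕ) : ℕ := Nat.land (Nat.shiftRight phiQData (Nat.mul 25 j)) 33554431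

/-- The image of an element of the section. -/
def sim (l : ℕ) : ℕ := Nat.land (Nat.shiftRight phiSData (Nat.mul 25 l)) 33554431

/-- The image of a code. -/
def phi (x : ℕ) : ℕ := Code.mulF (qim (Nat.land x 127)) (sim (Nat.shiftRight x 7))

/-- The product inside the normal subgroup. -/
def mulQ (i j : ℕ) : ℕ := mk ((sgn i ^^ sgn j) ^^ beta (vec i) (vec j)) (Nat.xor (vec i) (vec j)) 0

/-- The action of the section on the normal subgroup. -/
def act (l j : ℕ) : ℕ := mk (sgn j ^^ cq false l (vec j)) (ap false l (vec j)) 0

/-- The generators of the normal subgroup. -/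
def qgens : List ℕ := [1, 2, 4, 8, 16, 32, 64]

set_option maxHeartbeats 0 in
-- a pass over the pairs of codes of the normal subgroup
theorem qim_mul : Code.onQ (fun i => Code.onQ (fun j =>
    Nat.beq (Code.mulF (qim i) (qim j)) (qim (mulQ i j))) 128) 128 = true := by decide +kernel

set_option maxHeartbeats 0 in
-- the generators against the section
theorem sim_act : Code.onQ (fun l => qgens.all fun g =>
    Nat.beq (Code.mulF (sim l) (qim g)) (Code.mulF (qim (act l g)) (sim l))) 168 = true := by decide +kernel

set_option maxHeartbeats 0 in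
-- the edges of the spanning graph of the section
theorem sim_mul : Code.onQ (fun l =>
    Nat.beq (Code.mulF (sim l) (sim 1)) (sim (lm l 1)) && Nat.beq (Code.mulF (sim l) (sim 2)) (sim (lm l 2))) 168 = true := by
  decide +kernel

theorem phi_ends : qim 0 = idP ∧ sim 0 = idP ∧ phi 1 = Code.repc 0 := by decide +kernel

theorem ap_origin : ∀ l < 168, ap false l 0 = 0 ∧ cq false l 0 = false := by decide +kernel

theorem beta_origin : ∀ v < 64, beta v 0 = false := by decide +kernel

theorem img_range : Code.onQ (fun j => Code.inK (qim j) && Code.inQ (qim j)) 128 = true ∧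
    Code.onQ (fun l => Code.inK (sim l) && (Code.inQ (sim l) == Nat.beq l 0)) 168 = true := by decide +kernel

theorem qim_kernel : Code.onQ (fun j => !Nat.beq (qim j) idP || Nat.beq j 0) 128 = true := by decide +kernel

theorem q_pred : ∀ j < 128, j = 0 ∨ ∃ g ∈ qgens, mulQ j g < j := by decide +kernel

set_option maxHeartbeats 0 in
-- a pass over the codes
theorem phi_inQ : Code.onQ (fun l => Code.onQ (fun j =>
    Code.inQ (Code.mulF (qim j) (sim l)) == Nat.beq l 0) 128) 168 = true := by decide +kernel

end Cfsg.Agent.HeLocal.Cz
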