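import Cfsg.Agent.Lib.HeLocal.Cz.Main
import Cfsg.Agent.Lib.HeLocal.CzBridgeCheck

/-!
# From the plain coded model to the model `Mdl`

An explicit map, multiplicative on the right on generators, hence on everything.
-/

set_option autoImplicit false
set_option maxRecDepth 100000

namespace Cfsg.Agent.HeLocal.Cz

open Subgroup
open Cfsg.Agent.InvChar.Coset.HeCent (idP)

/-- The normal part of a code. -/
def qp (x : ℕ) : ℕ := mk (sgn x) (vec x) 0

theorem qp_lt {x : ℕ} (hx : x < 21504) : qp x < 128 := by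
  obtain ⟨hv, -⟩ := part_lt hx
  have h : b2n (sgn x) ≤ 1 := by cases sgn x <;> simp [b2n]
  unfold qp Cz.mk
  omega

theorem phi_parts {x : ℕ} (hx : x < 21504) : phi x = Code.mulF (qim (qp x)) (sim (lpart x)) := by
  have h := part_mk x hx
  have hq : qp x = x % 128 := by
    have := qp_lt hx
    unfold qp Cz.mk at *
    omega
  show Code.mulF (qim (x &&& 127)) (sim (lpart x)) = _
  rw [show (127 : ℕ) = 2 ^ 7 - 1 from rfl, Nat.and_two_pow_sub_one_eq_mod, hq]

theorem inK_qim {j : ℕ} (hj : j < 128) : Code.inK (qim j) = true ∧ Code.inQ (qim j) = true := by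
  have h := Code.onQ_spec img_range.1 j hj
  rwa [Bool.and_eq_true] at h

theorem inK_sim {l : ℕ} (hl : l < 168) : Code.inK (sim l) = true := by
  have h := Code.onQ_spec img_range.2 l hl
  rw [Bool.and_eq_true] at h
  exact h.1

theorem inK_phi {x : ℕ} (hx : x < 21504) : Code.inK (phi x) = true := by
  rw [phi_parts hx]
  exact (HeLocal.el_mul (inK_qim (qp_lt hx)).1 (inK_sim (part_lt hx).2)).2

theorem inQ_phi {x : ℕ} (hx : x < 21504) : Code.inQ (phi x) = true ↔ x < 128 := by
  have hl : lpart x = x / 128 := Nat.shiftRight_eq_div_pow _ 7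
  have h := Code.onQ_spec (Code.onQ_spec phi_inQ (lpart x) (part_lt hx).2) (qp x) (qp_lt hx)
  rw [beq_iff_eq, ← phi_parts hx] at h
  rw [h, Nat.beq_eq]
  omega

theorem phi_eq_id {x : ℕ} (hx : x < 21504) (h : phi x = idP) : x = 0 := by
  have hx' : x < 128 := (inQ_phi hx).1 (by rw [h]; decide +kernel)
  have hl : lpart x = 0 := by
    show x >>> 7 = 0
    rw [Nat.shiftRight_eq_div_pow]; omega
  have hq : qp x = x := by
    have := part_mk x hx
    rw [hl] at this
    exact this
  rw [phi_parts hx, hq, hl, phi_ends.2.1] at h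
  have he : HeLocal.el (qim x) = 1 := by
    have hmul := (HeLocal.el_mul (inK_qim hx').1 (b := idP) (by decide +kernel)).1
    rwa [HeLocal.el_id, mul_one, h, HeLocal.el_id] at hmul
  rw [← HeLocal.el_id] at he
  have h2 := Code.onQ_spec qim_kernel x hx'
  simp only [HeLocal.el_inj (inK_qim hx').1 (by decide +kernel) he, Nat.beq_refl, Bool.not_true,
    Bool.false_or, Nat.beq_eq] at h2
  exact h2

/-- The image in the model. -/
noncomputable def img (x : ℕ) : Mdl := HeLocal.el (phi x)

theorem img_parts {x : ℕ} (hx : x < 21504) :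
    img x = HeLocal.el (qim (qp x)) * HeLocal.el (sim (lpart x)) := by
  rw [(HeLocal.el_mul (inK_qim (qp_lt hx)).1 (inK_sim (part_lt hx).2)).1, img, phi_parts hx]

theorem img_low {j : ℕ} (hj : j < 128) : img j = HeLocal.el (qim j) := by
  have hl : lpart j = 0 := by
    show j >>> 7 = 0
    rw [Nat.shiftRight_eq_div_pow]; omega
  have hq : qp j = j := by
    have := part_mk j (by omega)
    rw [hl] at this
    exact this
  rw [img_parts (by omega), hq, hl, phi_ends.2.1, HeLocal.el_id, mul_one]

theorem mk_section (l : ℕ) : Cz.mk false 0 l = 128 * l := by simp [Cz.mk, b2n]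

theorem img_section {l : ℕ} (hl : l < 168) : img (128 * l) = HeLocal.el (sim l) := by
  obtain ⟨hlt, h1, h2, h3⟩ := mk_spec false 0 (by norm_num) l hl
  rw [mk_section] at hlt h1 h2 h3
  rw [img_parts hlt, h3, qp, h1, h2, show Cz.mk false 0 0 = 0 from rfl, phi_ends.1, HeLocal.el_id, one_mul]

theorem act_lt {l j : ℕ} (hl : l < 168) (hj : j < 21504) :
    act l j < 128 ∧ sgn (act l j) = (sgn j ^^ cq false l (vec j)) ∧ vec (act l j) = ap false l (vec j) := by
  obtain ⟨-, h2, h3, -⟩ := mk_spec (sgn j ^^ cq false l (vec j)) _ (ap_lt false l hl _ (part_lt hj).1) 0 (by norm_num)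
  refine ⟨?_, h2, h3⟩
  have := ap_lt false l hl _ (part_lt hj).1
  have h : ∀ b, b2n b ≤ 1 := fun b => by cases b <;> simp [b2n]
  have := h (sgn j ^^ cq false l (vec j))
  unfold act Cz.mk
  omega

theorem img_mul_q {x : ℕ} (hx : x < 21504) {g : ℕ} (hg : g ∈ qgens) :
    img (mul false false x g) = img x * img g := by
  have hg128 : g < 128 := by revert g; decide
  obtain ⟨hv, hl⟩ := part_lt hx
  have hlg : lpart g = 0 := by
    show g >>> 7 = 0
    rw [Nat.shiftRight_eq_div_pow]; omega
  obtain ⟨ha, ha1, ha2⟩ := act_lt (j := g) hl (by omega)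
  have hxy := xor_lt _ hv _ (ap_lt false _ hl _ (part_lt (x := g) (by omega)).1)
  obtain ⟨m0, m1, m2, m3⟩ := mk_spec (((sgn x ^^ sgn g) ^^ beta (vec x) (ap false (lpart x) (vec g))) ^^
    cq false (lpart x) (vec g)) _ hxy (lpart x) hl
  have he : mul false false x g = Cz.mk (((sgn x ^^ sgn g) ^^ beta (vec x) (ap false (lpart x) (vec g))) ^^
      cq false (lpart x) (vec g)) (Nat.xor (vec x) (ap false (lpart x) (vec g))) (lpart x) := by
    rw [mul, hlg, lm_zero _ hl]
    simp [tw]
  have hs : qp (mul false false x g) = mulQ (qp x) (act (lpart x) g) := by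
    obtain ⟨-, q1, q2, -⟩ := mk_spec (sgn x) _ hv 0 (by norm_num)
    rw [he, qp, m1, m2, mulQ, ha1, ha2]
    show _ = Cz.mk ((sgn (Cz.mk _ _ _) ^^ _) ^^ beta (vec (Cz.mk _ _ _)) _) (Nat.xor (vec (Cz.mk _ _ _)) _) 0
    rw [q1, q2]
    congr 1
    generalize sgn x = a
    generalize sgn g = b
    generalize beta (vec x) _ = c
    generalize cq false _ _ = d
    revert a b c d
    decide
  have hQ := Nat.eq_of_beq_eq_true (Code.onQ_spec (Code.onQ_spec qim_mul (qp x) (qp_lt hx)) _ ha)
  have hA := Nat.eq_of_beq_eq_true (List.all_eq_true.1 (Code.onQ_spec sim_act (lpart x) hl) g hg)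
  rw [img_parts (he.symm ▸ m0), hs, show lpart (mul false false x g) = lpart x by rw [he, m3],
    img_parts hx, img_low hg128, ← hQ, ← (HeLocal.el_mul (inK_qim (qp_lt hx)).1 (inK_qim ha).1).1,
    mul_assoc, mul_assoc, (HeLocal.el_mul (inK_sim hl) (inK_qim hg128).1).1, hA,
    (HeLocal.el_mul (inK_qim ha).1 (inK_sim hl)).1]

theorem img_mul_s {x : ℕ} (hx : x < 21504) (g : Bool) :
    img (mul false false x (128 * gidx g)) = img x * img (128 * gidx g) := by
  obtain ⟨hv, hl⟩ := part_lt hx
  have hgi := gidx_lt g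
  obtain ⟨-, g1, g2, g3⟩ := mk_spec false 0 (by norm_num) _ hgi
  rw [mk_section] at g1 g2 g3
  obtain ⟨m0, m1, m2, m3⟩ := mk_spec (sgn x) _ hv _ (lm_range hl hgi)
  have he : mul false false x (128 * gidx g) = Cz.mk (sgn x) (vec x) (lm (lpart x) (gidx g)) := by
    rw [mul, g1, g2, g3, (ap_origin _ hl).1, (ap_origin _ hl).2, beta_origin _ hv,
      show Nat.xor (vec x) 0 = vec x from Nat.xor_zero _]
    simp [tw]
  have hM := Code.onQ_spec sim_mul (lpart x) hl
  simp only [Bool.and_eq_true, Nat.beq_eq] at hM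
  have hS : Code.mulF (sim (lpart x)) (sim (gidx g)) = sim (lm (lpart x) (gidx g)) := by
    cases g
    · exact hM.1
    · exact hM.2
  rw [img_parts (he.symm ▸ m0), img_parts hx, img_section hgi,
    show lpart (mul false false x (128 * gidx g)) = lm (lpart x) (gidx g) by rw [he, m3],
    show qp (mul false false x (128 * gidx g)) = qp x by rw [qp, he, m1, m2]; rfl, mul_assoc,
    (HeLocal.el_mul (inK_sim hl) (inK_sim hgi)).1, hS]

variable {G : Type*} [Group G] {z : G}

/-- The code of an element. -/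
noncomputable def Coord.co {k t : Bool} (C : Coord k t z) (c : ↥(centralizer ({z} : Set G))) : ℕ :=
  Classical.choose (C.toC_surj c)

theorem Coord.co_spec {k t : Bool} (C : Coord k t z) (c : ↥(centralizer ({z} : Set G))) :
    C.co c < 21504 ∧ C.toC (C.co c) = c := Classical.choose_spec (C.toC_surj c)

theorem Coord.co_toC {k t : Bool} (C : Coord k t z) {x : ℕ} (hx : x < 21504) : C.co (C.toC x) = x :=
  C.toC_inj _ (C.co_spec _).1 x hx (C.co_spec _).2

theorem Coord.co_mul {k t : Bool} (C : Coord k t z) (c d : ↥(centralizer ({z} : Set G))) :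
    C.co (c * d) = mul k t (C.co c) (C.co d) :=
  C.toC_inj _ (C.co_spec _).1 _ (mul_lt (C.co_spec c).1 (C.co_spec d).1).1 (by
    rw [C.toC_mul _ (C.co_spec c).1 _ (C.co_spec d).1, (C.co_spec _).2, (C.co_spec c).2, (C.co_spec d).2])

variable (C : Coord false false z)

/-- The image in the model. -/
noncomputable def Coord.toMdl (c : ↥(centralizer ({z} : Set G))) : Mdl := img (C.co c)

theorem Coord.toMdl_mul (c d : ↥(centralizer ({z} : Set G))) : C.toMdl (c * d) = C.toMdl c * C.toMdl d := by
  -- the elements on which the map is multiplicative on the right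
  let P : ↥(centralizer ({z} : Set G)) → Prop := fun d => ∀ c, C.toMdl (c * d) = C.toMdl c * C.toMdl d
  have hmul : ∀ d d', P d → P d' → P (d * d') := fun d d' h h' c => by
    rw [← mul_assoc, h', h, h', mul_assoc]
  have hgen : ∀ y < 21504, (∀ x < 21504, img (mul false false x y) = img x * img y) → P (C.toC y) :=
    fun y hy h c => by
      unfold Coord.toMdl
      rw [C.co_mul, C.co_toC hy, h _ (C.co_spec c).1]
  have hq : ∀ g ∈ qgens, P (C.toC g) := fun g hg =>
    hgen g (by revert g; decide) fun x hx => img_mul_q hx hg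
  have h0 : P (C.toC 0) := fun c => by
    have h1 : C.toMdl (C.toC 0) = 1 := by
      unfold Coord.toMdl
      rw [C.co_toC (by norm_num), img_low (by norm_num), phi_ends.1, HeLocal.el_id]
    rw [h1, mul_one, C.zero, mul_one]
  have hlow : ∀ j < 128, P (C.toC j) := by
    intro j
    induction j using Nat.strong_induction_on with
    | _ j ih =>
      intro hj
      rcases q_pred j hj with rfl | ⟨g, hg, hlt⟩
      · exact h0
      have hg128 : g < 128 := (show ∀ g ∈ qgens, g < 128 by decide) g hg
      have hcalc : ∀ j < 128, ∀ g ∈ qgens, mulQ j g < 128 ∧ mul false false (mulQ j g) g = j := by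
        decide +kernel
      obtain ⟨h1, h2⟩ := hcalc j hj g hg
      rw [← h2, C.toC_mul _ (by omega) _ (by omega)]
      exact hmul _ _ (ih _ hlt h1) (hq g hg)
  have hsec : ∀ l < 168, P (C.toC (128 * l)) := by
    refine tree_induction h0 fun l hl g ih => ?_
    have hedge : ∀ l < 168, ∀ g, mul false false (128 * l) (128 * gidx g) = 128 * lm l (gidx g) := by
      decide +kernel
    have hgi := gidx_lt g
    rw [← hedge l hl g, C.toC_mul _ (by omega) _ (by omega)]
    exact hmul _ _ ih (hgen _ (by omega) fun x hx => img_mul_s hx g)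
  suffices h : P d from h c
  obtain ⟨hd, hd'⟩ := C.co_spec d
  have hsplit : mul false false (qp (C.co d)) (128 * lpart (C.co d)) = C.co d := by
    obtain ⟨hv, hl⟩ := part_lt hd
    obtain ⟨-, a1, a2, a3⟩ := mk_spec (sgn (C.co d)) _ hv 0 (by norm_num)
    obtain ⟨-, b1, b2, b3⟩ := mk_spec false 0 (by norm_num) _ hl
    rw [mk_section] at b1 b2 b3
    have hz : ∀ l < 168, lm 0 l = l := by decide +kernel
    rw [mul, qp, a1, a2, a3, b1, b2, b3, (ap_origin 0 (by norm_num)).1, (ap_origin 0 (by norm_num)).2,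
      beta_origin _ hv, show Nat.xor (vec (C.co d)) 0 = vec (C.co d) from Nat.xor_zero _, hz _ hl]
    refine Eq.trans ?_ (part_mk _ hd)
    simp [tw]
  have hq128 := qp_lt hd
  have hl := (part_lt hd).2
  rw [← hd', ← hsplit, C.toC_mul _ (by omega) _ (by omega)]
  exact hmul _ _ (hlow _ hq128) (hsec _ hl)

/-- The map as a homomorphism. -/
noncomputable def Coord.hom : ↥(centralizer ({z} : Set G)) →* Mdl :=
  MonoidHom.mk' C.toMdl C.toMdl_mul

theorem Coord.hom_apply (c : ↥(centralizer ({z} : Set G))) : C.hom c = HeLocal.el (phi (C.co c)) := rfl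

theorem Coord.hom_bijective [Finite G] : Function.Bijective C.hom := by
  refine (Nat.bijective_iff_injective_and_card _).2
    ⟨(injective_iff_map_eq_one _).2 fun c hc => ?_, by rw [card_of_coord C, card_mdl]⟩
  rw [C.hom_apply, ← HeLocal.el_id] at hc
  have h := phi_eq_id (C.co_spec c).1
    (HeLocal.el_inj (inK_phi (C.co_spec c).1) (by decide +kernel) hc)
  rw [← (C.co_spec c).2, h, C.zero]

/-- The isomorphism from the model, carrying the centre to `z` and `Q` to the model's `Q`. -/
theorem Shape.exists_equiv [Finite G] (h : Shape z) (C : Coord false false z) :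
    ∃ e : Mdl ≃* ↥(centralizer ({z} : Set G)), (e zc : G) = z ∧
      ∀ m : Mdl, (e m : G) ∈ h.Q ↔ Code.inQ (HeLocal.code m) = true := by
  classical
  let ι₀ : ↥(centralizer ({z} : Set G)) →* L3 := MonoidHom.mk'
    (fun c => ι ⟨lpart (C.co c), (part_lt (C.co_spec c).1).2⟩) (fun c d => by
      obtain ⟨hc, -⟩ := C.co_spec c
      obtain ⟨hd, -⟩ := C.co_spec d
      rw [← ι_ind (ι ⟨lpart (C.co c), (part_lt hc).2⟩ * ι ⟨lpart (C.co d), (part_lt hd).2⟩)]
      refine congrArg ι (Fin.ext ?_)
      rw [← lm_spec]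
      show lpart (C.co (c * d)) = _
      rw [C.co_mul, (mul_lt hc hd).2])
  have hι : Function.Surjective ι₀ := fun A => by
    obtain ⟨hlt, -, -, hl⟩ := mk_spec false 0 (by norm_num) (ind A).val (ind A).isLt
    refine ⟨C.toC (Cz.mk false 0 (ind A).val), ?_⟩
    show ι ⟨lpart (C.co _), _⟩ = A
    refine Eq.trans (congrArg ι (Fin.ext ?_)) (ι_ind A)
    show lpart (C.co _) = _
    rw [C.co_toC hlt]
    exact hl
  have hker : ∀ c, c ∈ ι₀.ker ↔ C.co c < 128 := fun c => by
    rw [MonoidHom.mem_ker]
    show ι ⟨lpart (C.co c), _⟩ = 1 ↔ _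
    have hl : lpart (C.co c) = C.co c / 128 := Nat.shiftRight_eq_div_pow _ 7
    rw [← ι_zero]
    exact ⟨fun e => by have := congrArg Fin.val (ι_bijective.1 e); simp at this; omega,
      fun e => congrArg ι (Fin.ext (by show lpart (C.co c) = ((0 : Fin 168) : ℕ); simp; omega))⟩
  -- the two kernels agree
  have hk : ι₀.ker = h.π.ker := by
    have hC := card_of_coord C
    have e1 : Nat.card ↥ι₀.ker = 128 := by
      have := ι₀.ker.card_mul_index
      rw [index_ker, MonoidHom.range_eq_top.2 hι, Subgroup.card_top, l3_card, hC] at this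
      omega
    have e2 : Nat.card ↥h.π.ker = 128 := by
      have := h.π.ker.card_mul_index
      rw [index_ker, MonoidHom.range_eq_top.2 h.π_surj, Subgroup.card_top, l3_card, hC] at this
      omega
    refine Subgroup.eq_of_le_of_card_ge (fun c hc => ?_) (by omega)
    have := l3_simple
    rcases (inferInstance : ι₀.ker.Normal).map h.π h.π_surj |>.eq_bot_or_eq_top with hb | hb
    · exact MonoidHom.mem_ker.2 (mem_bot.1 (hb ▸ mem_map_of_mem h.π hc))
    · have hd := ι₀.ker.card_map_dvd h.π
      rw [hb, Subgroup.card_top, l3_card, e1] at hd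
      norm_num at hd
  refine ⟨(MulEquiv.ofBijective C.hom C.hom_bijective).symm, ?_, fun m => ?_⟩
  · rw [show (MulEquiv.ofBijective C.hom C.hom_bijective).symm zc = C.toC 1 from ?_]
    · exact C.toC_one
    rw [MulEquiv.symm_apply_eq, MulEquiv.ofBijective_apply, C.hom_apply, C.co_toC (by norm_num),
      phi_ends.2.2]
    rfl
  · obtain ⟨c, rfl⟩ := C.hom_bijective.2 m
    have hs : (MulEquiv.ofBijective C.hom C.hom_bijective).symm (C.hom c) = c :=
      (MulEquiv.ofBijective C.hom C.hom_bijective).symm_apply_apply c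
    rw [hs, ← h.π_ker, ← MonoidHom.mem_ker, ← hk, hker, C.hom_apply,
      HeLocal.code_el (inK_phi (C.co_spec c).1), inQ_phi (C.co_spec c).1]

end Cfsg.Agent.HeLocal.Cz
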