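import Cfsg.Agent.Lib.HeLocal.Cz.Main

/-!
# The split model from the 29 conjugates of `z` in `Q`, without the order of the group
-/

set_option autoImplicit false

namespace Cfsg.Agent.HeLocal.Cz

open Subgroup Cfsg.Agent.LargeExtra

variable {G : Type*} [Group G] [Finite G] {z : G}

/-- With 29 conjugates of `z` in `Q`, the centraliser is the plain decomposable model. -/
theorem Shape.exists_dec_of_count (h : Shape z)
    (hcnt : 29 ≤ Nat.card {u : G // u ∈ h.Q ∧ IsConj z u}) : Nonempty (Coord false false z) := by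
  classical
  obtain ⟨k, t, ⟨C⟩⟩ := h.exists_coord
  have kill : ∀ {cv tb}, coverOK k t cv tb = true → noReverse 0 tb = true →
      (∀ p ∈ cv, p.2.1 ≠ 0) → False := by
    intro cv tb hok hrev hne
    have h2 : 1 < Nat.card {u : G // u ∈ h.Q ∧ IsConj z u} := by omega
    have : Nontrivial {u : G // u ∈ h.Q ∧ IsConj z u} := Finite.one_lt_card_iff_nontrivial.1 h2
    obtain ⟨⟨w, hwQ, hwc⟩, hw⟩ := exists_ne
      (⟨z, h.ctr.z_mem, IsConj.refl z⟩ : {u : G // u ∈ h.Q ∧ IsConj z u})
    obtain ⟨g, hg⟩ := isConj_iff.1 hwc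
    obtain ⟨p, hp, hp0, -⟩ := C.fused_rep hok hrev h.ctr.zz (h.ctr.comm hwQ)
      (fun e => hw (Subtype.ext e)) hg
    exact hne p hp hp0
  cases k <;> cases t
  · exact ⟨C⟩
  · exact (kill decTwist_ok decTwist_rev (by decide +kernel)).elim
  · exact (kill uni_ok uni_rev (by decide +kernel)).elim
  · exfalso
    have hsmall : ∀ w : G, w ∈ h.Q → IsConj z w → ∃ i : Fin 16, (C.toC i.val : G) = w := by
      intro w hwQ hwc
      by_cases hwz : w = z
      · exact ⟨1, by rw [hwz]; exact C.toC_one⟩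
      obtain ⟨g, hg⟩ := isConj_iff.1 hwc
      obtain ⟨p, hp, hp2, x, hx, hxw, hl1, hl2⟩ :=
        C.fused_rep uniTwist_ok uniTwist_rev h.ctr.zz (h.ctr.comm hwQ) hwz hg
      have h16 := uniTwist_two p hp hp2
      have hl : lpart p.1 = 0 := by
        show p.1 >>> 7 = 0
        rw [Nat.shiftRight_eq_div_pow]; omega
      have hpx := hl2 (hl1 hl)
      exact ⟨⟨p.1, h16⟩, by show (C.toC p.1 : G) = w; rw [hpx]; exact hxw⟩
    choose f hf using hsmall
    have hle := Nat.card_le_card_of_injective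
      (fun u : {u : G // u ∈ h.Q ∧ IsConj z u} => f u.1 u.2.1 u.2.2) (fun u v e => Subtype.ext (by
        change f u.1 u.2.1 u.2.2 = f v.1 v.2.1 v.2.2 at e
        rw [← hf u.1 u.2.1 u.2.2, ← hf v.1 v.2.1 v.2.2, e]))
    rw [Nat.card_eq_fintype_card (α := Fin 16), Fintype.card_fin] at hle
    omega

end Cfsg.Agent.HeLocal.Cz
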