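import Cfsg.Agent.Lib.HeLocal.Gens

/-!
# The local facts from facts inside the centralizer of `z`

`ModelWit` lists what is needed of an abstract group `M ≅ C(z)` with a predicate `zt` telling which of its
involutions are conjugate to `z`.
-/

set_option autoImplicit false

namespace Cfsg.Agent.HeLocal

open Subgroup

/-- Facts about elements of the model of `C(z)`. -/
structure ModelWit {M : Type*} [Group M] (zt : M → Prop) (zM a x b c f g u : M) : Prop where
  aa : a * a = 1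
  xx : x * x = 1
  bb : b * b = 1
  cc : c * c = 1
  ff : f * f = 1
  gg : g * g = 1
  a_ne : a ≠ 1
  x_ne : x ≠ 1
  a_ne_x : a ≠ x
  ax : a * x = x * a
  ab4 : (a * b) ^ 4 = 1
  bc3 : (b * c) ^ 3 = 1
  ac : a * c = c * a
  af : a * f = f * a
  ag : a * g = g * a
  bf : b * f = f * b
  bg : b * g = g * b
  cf : c * f = f * c
  cg : c * g = g * c
  xc : x * c = c * x
  xf : x * f = f * x
  xg : x * g = g * x
  fg : (f * g) ^ 2 = zM
  abc : (a * b * c) ^ 3 = zM
  u_def : u = a * b * (a * b)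
  ux : u * x * u = a * x
  uc : u * c * u * (c * zM) ∈ ({1, a, x, a * x} : Set M)
  c_ne : c ∉ ({1, a, x, a * x} : Set M)
  cz_ne : c * zM ∉ ({1, a, x, a * x} : Set M)
  a_t : ¬ zt a
  x_t : ¬ zt x
  ax_t : ¬ zt (a * x)
  za_t : ¬ zt (zM * a)
  zx_z : zt (zM * x)
  zax_z : zt (zM * (a * x))
  c_t : ¬ zt c
  fa_t : ¬ zt (f * a)
  ga_t : ¬ zt (g * a)
  u_t : ¬ zt u
  zu_t : ¬ zt (zM * u)
  zau_t : ¬ zt (zM * (a * u))
  bz_z : zt (b * zM)
  card : Nat.card (centralizer ({a, x} : Set M)) = 256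
  lifts : ∀ w : M, w * a = a * w → w * x = x * w → w ∉ ({1, a, x, a * x} : Set M) →
    w * w ∈ ({1, a, x, a * x} : Set M) → ∃ v ∈ ({1, a, x, a * x} : Set M), ¬ zt (w * v) ∧
      ∀ v' ∈ ({1, a, x, a * x} : Set M), w * v' * (w * v') = 1 ∧ (v' ≠ v → zt (w * v'))
  pair : ∀ p q : M, p * p = 1 → q * q = 1 → p ≠ 1 → q ≠ 1 → p ≠ q → p * q = q * p → ¬ zt p → ¬ zt q →
    ¬ zt (p * q) → ¬ zt (zM * p) → zt (zM * q) → zt (zM * (p * q)) → ∃ k : M, k * p * k⁻¹ = a ∧ k * q * k⁻¹ = x
  elem : ∃ A : Subgroup M, A ≤ centralizer ({a, x} : Set M) ∧ ({1, a, x, a * x} : Set M) ⊆ A ∧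
    Nat.card A = 64 ∧ ∀ w ∈ A, w * w ∈ ({1, a, x, a * x} : Set M)
  cent_p : ∀ p : M, p * a = a * p → p * u = u * p →
    ∃ q ∈ closure ({f, g} : Set M), ∃ v ∈ ({1, a, u, a * u} : Set M), p = q * v
  seven : ∀ k q : M, orderOf k = 7 → q * q = 1 → k * q = q * k → q = 1 ∨ q = zM

variable {G : Type*} [Group G] {M : Type*} [Group M]

theorem ModelWit.gensHyp {z : G} (hz : z * z = 1) (φ : ↥(centralizer ({z} : Set G)) ≃* M) {zM : M}
    (hzM : φ ⟨z, mem_centralizer_singleton_iff.2 rfl⟩ = zM) {zt : M → Prop}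
    (hcls : ∀ m : ↥(centralizer ({z} : Set G)), m * m = 1 → (IsConj z (m : G) ↔ zt (φ m)))
    {a x b c f g u : M} (W : ModelWit zt zM a x b c f g u) :
    GensHyp z (φ.symm a : G) (φ.symm x) (φ.symm b) (φ.symm c) (φ.symm f) (φ.symm g) (φ.symm u) := by
  set ι : M →* G := (centralizer ({z} : Set G)).subtype.comp φ.symm.toMonoidHom with hι
  have hinj : Function.Injective ι := Subtype.val_injective.comp φ.symm.injective
  have hzz : ι zM = z := by
    rw [← hzM]
    show ((φ.symm (φ ⟨z, _⟩) : ↥(centralizer ({z} : Set G))) : G) = z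
    rw [MulEquiv.symm_apply_apply]
  have hcz : ∀ m : M, ι m * z = z * ι m := fun m => mem_centralizer_singleton_iff.1 (φ.symm m).2
  have hsurj : ∀ p : G, p * z = z * p → ∃ m, ι m = p := fun p hp =>
    ⟨φ ⟨p, mem_centralizer_singleton_iff.2 hp⟩, by
      show ((φ.symm (φ ⟨p, _⟩) : ↥(centralizer ({z} : Set G))) : G) = p
      rw [MulEquiv.symm_apply_apply]⟩
  have hc : ∀ m : M, m * m = 1 → (IsConj z (ι m) ↔ zt m) := by
    intro m hm
    have h := hcls (φ.symm m) (by rw [← map_mul, hm, map_one])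
    rwa [MulEquiv.apply_symm_apply] at h
  have hzM2 : zM * zM = 1 := hinj (by rw [map_mul, map_one, hzz, hz])
  have hzMc : ∀ m : M, zM * m = m * zM := fun m => hinj (by rw [map_mul, map_mul, hzz, hcz])
  have mem_set : ∀ {s t m : M}, ι m ∈ ({1, ι s, ι t, ι s * ι t} : Set G) ↔ m ∈ ({1, s, t, s * t} : Set M) := by
    intro s t m
    rw [← map_mul, ← map_one ι]
    simp only [Set.mem_insert_iff, Set.mem_singleton_iff, hinj.eq_iff]
  have mem_set' : ∀ {s t m : M}, ι m ∈ ({1, ι s, ι t, ι (s * t)} : Set G) ↔ m ∈ ({1, s, t, s * t} : Set M) := by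
    intro s t m
    rw [map_mul]; exact mem_set
  have comm : ∀ {p q : M}, p * q = q * p → ι p * ι q = ι q * ι p := fun h => by rw [← map_mul, h, map_mul]
  have mem3 : ∀ m : M, ι m ∈ centralizer ({z, ι a, ι x} : Set G) ↔ m * a = a * m ∧ m * x = x * m := by
    intro m
    simp only [mem_centralizer_iff, Set.mem_insert_iff, Set.mem_singleton_iff, forall_eq_or_imp, forall_eq,
      ← map_mul, hinj.eq_iff]
    exact ⟨fun h => ⟨h.2.1.symm, h.2.2.symm⟩, fun h => ⟨(hcz m).symm, h.1.symm, h.2.symm⟩⟩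
  have nt : ∀ {m : M}, m * m = 1 → ¬ zt m → ¬ IsConj z (ι m) := fun h h' e => h' ((hc _ h).1 e)
  have yz : ∀ {m : M}, m * m = 1 → zt m → IsConj z (ι m) := fun h h' => (hc _ h).2 h'
  have sq : ∀ {p q : M}, p * p = 1 → q * q = 1 → p * q = q * p → p * q * (p * q) = 1 := fun hp hq h => by
    rw [← pow_two]; exact sq_of_comm hp hq h
  have axsq := sq W.aa W.xx W.ax
  have hab : ∀ {w : M}, w * w = 1 → zM * w * (zM * w) = 1 := fun h => sq hzM2 h (hzMc _)
  have uu : u * u = 1 := by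
    rw [W.u_def, ← W.ab4]; simp only [pow_succ, pow_zero, one_mul, mul_assoc]
  show GensHyp z (ι a) (ι x) (ι b) (ι c) (ι f) (ι g) (ι u)
  have hau : a * u = u * a := by
    have h : a * b * a * b * a * (b * a * b) = 1 := by rw [← uu, W.u_def]; simp only [mul_assoc]
    have hb : (b * a * b)⁻¹ = b * a * b := by
      simp only [mul_inv_rev, inv_eq_of_mul_eq_one_right W.bb, inv_eq_of_mul_eq_one_right W.aa, mul_assoc]
    have e := eq_inv_of_mul_eq_one_left h
    rw [hb] at e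
    rw [W.u_def]
    calc a * (a * b * (a * b)) = (a * a) * (b * a * b) := by simp only [mul_assoc]
      _ = a * b * a * b * a := by rw [W.aa, one_mul, e]
      _ = a * b * (a * b) * a := by simp only [mul_assoc]
  refine
    { plane :=
        { zz := hz
          aa := by rw [← map_mul, W.aa, map_one]
          xx := by rw [← map_mul, W.xx, map_one]
          ax := comm W.ax
          za := (hcz a).symm
          zx := (hcz x).symm
          a_ne := (map_ne_one_iff ι hinj).2 W.a_ne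
          x_ne := (map_ne_one_iff ι hinj).2 W.x_ne
          a_ne_x := hinj.ne W.a_ne_x
          a_t := nt W.aa W.a_t
          x_t := nt W.xx W.x_t
          ax_t := by rw [← map_mul]; exact nt axsq W.ax_t
          za_t := by rw [← hzz, ← map_mul]; rw [hzz]; exact nt (hab W.aa) W.za_t
          zx_z := by rw [← hzz, ← map_mul]; rw [hzz]; exact yz (hab W.xx) W.zx_z
          zax_z := by rw [← hzz, ← map_mul, ← map_mul]; rw [hzz]; exact yz (hab axsq) W.zax_z
          card := ?_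
          lifts := ?_
          pair := ?_
          elem := ?_
          noncomm := ?_ }
      u_def := by rw [W.u_def, map_mul, map_mul]
      bb := by rw [← map_mul, W.bb, map_one]
      cc := by rw [← map_mul, W.cc, map_one]
      ff := by rw [← map_mul, W.ff, map_one]
      gg := by rw [← map_mul, W.gg, map_one]
      ab4 := by rw [← map_mul, ← map_pow, W.ab4, map_one]
      bc3 := by rw [← map_mul, ← map_pow, W.bc3, map_one]
      ac := comm W.ac
      af := comm W.af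
      ag := comm W.ag
      bf := comm W.bf
      bg := comm W.bg
      cf := comm W.cf
      cg := comm W.cg
      fg := by rw [← map_mul, ← map_pow, W.fg, hzz]
      abc := by rw [← map_mul, ← map_mul, ← map_pow, W.abc, hzz]
      c_mem := (mem3 c).2 ⟨W.ac.symm, W.xc.symm⟩
      f_mem := (mem3 f).2 ⟨W.af.symm, W.xf.symm⟩
      g_mem := (mem3 g).2 ⟨W.ag.symm, W.xg.symm⟩
      c_ne := fun h => W.c_ne (mem_set.1 h)
      cz_ne := fun h => W.cz_ne (by rw [← hzz, ← map_mul ι c zM] at h; exact mem_set.1 h)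
      c_t := nt W.cc W.c_t
      fa_t := by rw [← map_mul]; exact nt (sq W.ff W.aa W.af.symm) W.fa_t
      ga_t := by rw [← map_mul]; exact nt (sq W.gg W.aa W.ag.symm) W.ga_t
      ux := by rw [← map_mul, ← map_mul, ← map_mul, W.ux]
      uc := by rw [← hzz]; simp only [← map_mul]; exact mem_set'.2 W.uc
      u_t := nt uu W.u_t
      zu_t := by rw [← hzz, ← map_mul]; rw [hzz]; exact nt (hab uu) W.zu_t
      zau_t := by
        rw [← hzz, ← map_mul, ← map_mul]; rw [hzz]; exact nt (hab (sq W.aa uu hau)) W.zau_t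
      bz_z := by
        rw [← hzz, ← map_mul]; rw [hzz]; exact yz (sq W.bb hzM2 (hzMc b).symm) W.bz_z
      cent_p := ?_
      seven := ?_ }
  · -- the order of `C(z) ∩ C(E)`
    rw [← W.card]
    refine (Nat.card_congr (Equiv.ofBijective (fun m : ↥(centralizer ({a, x} : Set M)) =>
      (⟨ι m, (mem3 m).2 ⟨(mem_centralizer_iff.1 m.2 a (by simp)).symm,
        (mem_centralizer_iff.1 m.2 x (by simp)).symm⟩⟩ : ↥(centralizer ({z, ι a, ι x} : Set G)))) ⟨?_, ?_⟩)).symm
    · exact fun m n h => Subtype.ext (hinj (congrArg (fun t : ↥(centralizer ({z, ι a, ι x} : Set G)) => (t : G)) h :))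
    · rintro ⟨p, hp⟩
      obtain ⟨m, rfl⟩ := hsurj p (mem_centralizer_iff.1 hp z (by simp)).symm
      refine ⟨⟨m, mem_centralizer_iff.2 ?_⟩, rfl⟩
      rintro y (rfl | rfl)
      · exact ((mem3 m).1 hp).1.symm
      · exact ((mem3 m).1 hp).2.symm
  · intro p hp hp1 hp2
    obtain ⟨w, rfl⟩ := hsurj p (mem_centralizer_iff.1 hp z (by simp)).symm
    obtain ⟨h1, h2⟩ := (mem3 w).1 hp
    obtain ⟨v, hv, hvt, hvs⟩ := W.lifts w h1 h2 (fun h => hp1 (mem_set.2 h))
      (mem_set.1 (by rw [map_mul]; exact hp2))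
    refine ⟨ι v, mem_set.2 hv, ?_, fun v' hv' => ?_⟩
    · rw [← map_mul]; exact nt (hvs v hv).1 hvt
    · have : ∃ m, ι m = v' := by
        rcases hv' with rfl | rfl | rfl | rfl
        exacts [⟨1, map_one _⟩, ⟨a, rfl⟩, ⟨x, rfl⟩, ⟨a * x, map_mul _ _ _⟩]
      obtain ⟨m, rfl⟩ := this
      have hm := hvs m (mem_set.1 hv')
      refine ⟨by rw [← map_mul, ← map_mul, hm.1, map_one], fun hne => ?_⟩
      rw [← map_mul]; exact yz hm.1 (hm.2 fun h => hne (h ▸ rfl))
  · intro p q pp qq p1 q1 pq hpq hpz hqz pt qt pqt zp zq zpq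
    obtain ⟨p, rfl⟩ := hsurj p hpz
    obtain ⟨q, rfl⟩ := hsurj q hqz
    simp only [← map_mul] at pp qq hpq pqt zpq
    rw [← hzz, ← map_mul] at zp zq zpq
    rw [hzz] at zp zq zpq
    replace pp := hinj (pp.trans (map_one ι).symm)
    replace qq := hinj (qq.trans (map_one ι).symm)
    replace hpq := hinj hpq
    obtain ⟨k, hk1, hk2⟩ := W.pair p q pp qq (fun h => p1 (by rw [h, map_one])) (fun h => q1 (by rw [h, map_one]))
      (fun h => pq (h ▸ rfl)) hpq (fun h => pt (yz pp h)) (fun h => qt (yz qq h))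
      (fun h => pqt (yz (sq pp qq hpq) h)) (fun h => zp (yz (hab pp) h)) ((hc _ (hab qq)).1 zq)
      ((hc _ (hab (sq pp qq hpq))).1 zpq)
    exact ⟨ι k, hcz k, by rw [← map_inv, ← map_mul, ← map_mul, hk1], by rw [← map_inv, ← map_mul, ← map_mul, hk2]⟩
  · obtain ⟨A, hA, hEA, hAc, hAs⟩ := W.elem
    refine ⟨A.map ι, ?_, ?_, by rw [Subgroup.card_map_of_injective hinj, hAc], ?_⟩
    · rintro _ ⟨m, hm, rfl⟩
      exact (mem3 m).2 ⟨(mem_centralizer_iff.1 (hA hm) a (by simp)).symm,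
        (mem_centralizer_iff.1 (hA hm) x (by simp)).symm⟩
    · intro p hp
      have : ∃ m, ι m = p := by
        rcases hp with rfl | rfl | rfl | rfl
        exacts [⟨1, map_one _⟩, ⟨a, rfl⟩, ⟨x, rfl⟩, ⟨a * x, map_mul _ _ _⟩]
      obtain ⟨m, rfl⟩ := this
      exact ⟨m, hEA (mem_set.1 hp), rfl⟩
    · rintro _ ⟨m, hm, rfl⟩
      rw [← map_mul ι m m]
      exact mem_set.2 (hAs m hm)
  · refine ⟨ι f, ι g, (mem3 f).2 ⟨W.af.symm, W.xf.symm⟩, (mem3 g).2 ⟨W.ag.symm, W.xg.symm⟩,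
      by rw [← map_mul, W.ff, map_one], by rw [← map_mul, W.gg, map_one], ?_, ?_⟩
    · rw [← map_mul ι f g, ← map_mul ι (f * g), mem_set, ← pow_two, W.fg]
      intro h
      have hzE : z ∈ ({1, ι a, ι x, ι a * ι x} : Set G) := hzz ▸ mem_set.2 h
      rcases hzE with e | e | e | e
      · have h1 := yz (hab W.xx) W.zx_z
        rw [map_mul, hzz, e, one_mul] at h1
        exact (map_ne_one_iff ι hinj).2 W.x_ne (isConj_one_right.1 h1)
      · exact nt W.aa W.a_t (e ▸ IsConj.refl z)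
      · exact nt W.xx W.x_t (e ▸ IsConj.refl z)
      · rw [← map_mul] at e
        exact nt axsq W.ax_t (e ▸ IsConj.refl z)
    · rw [← map_mul ι f g, ← map_pow, show (4 : ℕ) = 2 * 2 from rfl, pow_mul, W.fg, pow_two, hzM2, map_one]
      exact Or.inl rfl
  · intro p hpz hpa hpu
    obtain ⟨p, rfl⟩ := hsurj p hpz
    rw [← map_mul, ← map_mul] at hpa hpu
    obtain ⟨q, hq, v, hv, rfl⟩ := W.cent_p p (hinj hpa) (hinj hpu)
    refine ⟨ι q, ?_, ι v, mem_set.2 hv, map_mul _ _ _⟩
    have h : ι q ∈ (closure ({f, g} : Set M)).map ι := ⟨q, hq, rfl⟩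
    rwa [MonoidHom.map_closure, Set.image_pair] at h
  · intro k q hk hq ho qq hkq
    obtain ⟨k, rfl⟩ := hsurj k hk
    obtain ⟨q, rfl⟩ := hsurj q hq
    rw [orderOf_injective ι hinj] at ho
    rw [← map_mul] at qq hkq
    rw [← map_mul] at hkq
    rcases W.seven k q ho (hinj (qq.trans (map_one ι).symm)) (hinj hkq) with r | r
    · exact Or.inl (by rw [r, map_one])
    · exact Or.inr (by rw [r, hzz])

end Cfsg.Agent.HeLocal
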