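import Cfsg.Agent.Lib.HeLocal.WitnessData

/-!
# Two passes over the model for the centralizer of the involution of the second class
-/

set_option autoImplicit false
set_option maxRecDepth 100000

namespace Cfsg.Agent.HeLocal.Code

open Cfsg.Agent.InvChar.Coset.HeCent (idP)

/-- Two elements of `C(a)` with common centralizer in `C(a)` equal to `⟨a, z⟩`. -/
def cP : List ℕ := [17125445, 19140673]

/-- The centre of `C(a)` is `⟨a, z⟩`. -/
def centreOK (n : ℕ) : Bool :=
  !(wcm n cA && cP.all fun p => wcm n p) || memB n [idP, cZ, cA, mulF cA cZ]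

/-- `C(a)` moves `x` only to `x` and `ax`. -/
def orbitOK (n : ℕ) : Bool :=
  !wcm n cA || (Nat.beq (mulF n cX) (mulF cX n) || Nat.beq (mulF n cX) (mulF (mulF cA cX) n))

theorem cP_ok : cP.all (fun p => inK p && wcm p cA) = true := by decide +kernel

set_option maxHeartbeats 0 in
-- a pass over the codes
theorem centre_ok : allC centreOK = true := by decide +kernel

set_option maxHeartbeats 0 in
-- a pass over the codes
theorem orbit_ok : allC orbitOK = true := by decide +kernel

theorem wit_tags : tagc cA = 3 ∧ tagc cF = 1 ∧ tagc cG = 2 ∧ isInv cA = true ∧ isInv cF = true ∧ isInv cG = true ∧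
    mulF (mulF cG cF) cG = mulF cF cZ ∧ mulF cG cG = idP := by decide +kernel

/-- Conjugates of `z` in the centralizer of the four group whose product with `a` is of the second class,
one in each class of conjugates of `z`. -/
def cW : List ℕ := [17043523, 17043547, 19140675, 17053771, 17070163, 25442379]

theorem cW_ok : cW.all (fun w => inK w && zT w && wcm w cA && wcm w cX && tT (mulF w cA)) = true ∧
    (∀ i < 8, i = 3 ∨ i = 5 ∨ cW.any (fun w => Nat.beq (tagc w) i) = true) ∧
    (∃ w ∈ cW, Nat.beq (tagc (mulF w cA)) 5 = true) ∧ Nat.beq (tagc (mulF cZ cA)) 3 = true := by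
  decide +kernel

end Cfsg.Agent.HeLocal.Code
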