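import Mathlib

/-!
The condition separating the Held group from the other groups with the same centralizer of an
involution: for a conjugate of `z` in `Q`, the intersection of the two extraspecial groups has an
involution that is not conjugate to `z`.
-/

set_option autoImplicit false

namespace Cfsg.Agent.HeLocal

/-- For every conjugate `x ≠ z` of `z` in `Q`, the group `Q` meets the corresponding group of `x`
in a non-trivial element not conjugate to `z`. -/
def GraphType {X : Type*} [Group X] (Q : Subgroup X) (z : X) : Prop :=
  ∀ x ∈ Q, IsConj z x → x ≠ z → ∃ r ∈ Q, r ≠ 1 ∧ ¬ IsConj z r ∧ ∀ d : X, d * z * d⁻¹ = x → d⁻¹ * r * d ∈ Q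

end Cfsg.Agent.HeLocal
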