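import Cfsg.Agent.Lib.HeLocal.Setting
import Cfsg.Agent.Lib.HeLocal.FusionData
import Cfsg.Agent.Lib.HeLocal.Graph
import Cfsg.Agent.Lib.LargeExtra.Pair

/-!
# The fusion from the graph property, without the order of the group

The 29 conjugates of `z` in `Q` settle the classes inside `Q`; an element swapping `z` with a conjugate
`x` of it in `Q` then gives the remaining classes.
-/

set_option autoImplicit false
set_option maxRecDepth 100000
set_option linter.style.haveILetI false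

namespace Cfsg.Agent.HeLocal

open Subgroup
open scoped commutatorElement


open Code

variable {G : Type*} [Group G] [Finite G]

/-- The hypotheses: the model, the subgroup `Q`, the 29 conjugates, the graph property. -/
structure GraphHyp (z : G) where
  Q : Subgroup G
  ctr : LargeExtra.Ctr Q z
  cardQ : Nat.card Q = 128
  e : Mdl ≃* ↥(centralizer ({z} : Set G))
  e_zc : (e zc : G) = z
  memQ : ∀ m : Mdl, (e m : G) ∈ Q ↔ inQ (code m) = true
  count : Nat.card {u : G // u ∈ Q ∧ IsConj z u} = 29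
  graph : GraphType Q z

namespace GraphHyp

variable {z : G} (S : GraphHyp z)

/-- The embedding. -/
noncomputable def em : Mdl →* G := (centralizer ({z} : Set G)).subtype.comp S.e.toMonoidHom

theorem em_zc : S.em zc = z := S.e_zc

theorem em_injective : Function.Injective S.em := Subtype.val_injective.comp S.e.injective

theorem em_comm (m : Mdl) : S.em m * z = z * S.em m := mem_centralizer_singleton_iff.1 (S.e m).2

theorem exists_em {x : G} (hx : x * z = z * x) : ∃ m, S.em m = x :=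
  ⟨S.e.symm ⟨x, mem_centralizer_singleton_iff.2 hx⟩,
    congrArg Subtype.val (S.e.apply_symm_apply _)⟩

theorem memQ' (m : Mdl) : S.em m ∈ S.Q ↔ inQ (code m) = true := S.memQ m

theorem inQ_iff {m : Mdl} (hm : IsInv m) : S.em m ∈ S.Q ↔ tag m < 4 := by
  rw [S.memQ']
  have h := forall_codes inQ_tag m
  rw [isInv_iff.1 hm, Bool.not_true, Bool.false_or, beq_iff_eq] at h
  rw [h, Nat.blt_eq]
  rfl

/-- Conjugate to the centre. -/
def Zt (m : Mdl) : Prop := IsConj z (S.em m)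

theorem zt_conj (m k : Mdl) : S.Zt (k * m * k⁻¹) ↔ S.Zt m := by
  have h : IsConj (S.em m) (S.em (k * m * k⁻¹)) := isConj_iff.2 ⟨S.em k, by simp⟩
  exact ⟨fun h' => IsConj.trans h' h.symm, fun h' => IsConj.trans h' h⟩

theorem zt_tag {m n : Mdl} (hm : IsInv m) (hn : IsInv n) (h : tag m = tag n) : S.Zt m ↔ S.Zt n := by
  obtain ⟨k, rfl⟩ := exists_conj_of_tag_eq hm hn h
  exact (S.zt_conj m k).symm

theorem z_sq (S : GraphHyp z) : z * z = 1 := S.ctr.zz

theorem isInv_of_zt {m : Mdl} (h : S.Zt m) : IsInv m := by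
  obtain ⟨c, hc⟩ := isConj_iff.1 h
  refine ⟨S.em_injective ?_, fun e => ?_⟩
  · rw [map_mul, map_one, ← hc, show c * z * c⁻¹ * (c * z * c⁻¹) = c * (z * z) * c⁻¹ by group, S.z_sq]
    group
  · rw [e, map_one] at hc
    exact S.ctr.ne_one (conj_eq_one_iff.1 hc)

theorem class_set {i : ℕ} (hi : i < 4) :
    {u : G | ∃ m, IsInv m ∧ tag m = i ∧ S.em m = u}.ncard = sizes.getD i 0 := by
  rw [show {u : G | ∃ m, IsInv m ∧ tag m = i ∧ S.em m = u} = S.em '' {m | IsInv m ∧ tag m = i} from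
    Set.ext fun u => ⟨fun ⟨m, h1, h2, h3⟩ => ⟨m, ⟨h1, h2⟩, h3⟩, fun ⟨m, ⟨h1, h2⟩, h3⟩ => ⟨m, h1, h2, h3⟩⟩,
    Set.ncard_image_of_injective _ S.em_injective, ← Nat.card_coe_set_eq]
  exact card_class (by omega)

/-- The classes inside `Q`. -/
theorem low {m : Mdl} (hm : IsInv m) : (tag m < 3 → S.Zt m) ∧ (tag m = 3 → ¬ S.Zt m) := by
  classical
  have hZ : {u : G | u ∈ S.Q ∧ IsConj z u}.ncard = 29 := by
    rw [← Nat.card_coe_set_eq]; exact S.count
  have htag0 : ∀ k, IsInv k → tag k = 0 → S.Zt k := by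
    intro k hk h
    rw [S.zt_tag hk (isInv_rep (i := 0) (by norm_num)) (by rw [h, tag_rep (by norm_num)])]
    show IsConj z (S.em zc)
    rw [S.em_zc]
  have h3 : ∀ k, IsInv k → tag k = 3 → ¬ S.Zt k := by
    intro k hk h hz
    have hsub : {u : G | ∃ m, IsInv m ∧ tag m = 3 ∧ S.em m = u} ⊆ {u : G | u ∈ S.Q ∧ IsConj z u} := by
      rintro u ⟨n, hn, ht, rfl⟩
      exact ⟨(S.inQ_iff hn).2 (by omega), (S.zt_tag hk hn (by rw [h, ht])).1 hz⟩
    have := Set.ncard_le_ncard hsub (Set.toFinite _)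
    rw [S.class_set (by norm_num), hZ] at this
    norm_num [sizes] at this
  have h12 : ∀ i, i = 1 ∨ i = 2 → ∀ k, IsInv k → tag k = i → S.Zt k := by
    intro i hi k hk h
    by_contra hz
    have hsub : {u : G | u ∈ S.Q ∧ IsConj z u} ⊆
        {u : G | ∃ m, IsInv m ∧ tag m = 0 ∧ S.em m = u} ∪
          {u : G | ∃ m, IsInv m ∧ tag m = 3 - i ∧ S.em m = u} := by
      rintro u ⟨hu, hc⟩
      obtain ⟨n, rfl⟩ := S.exists_em (S.ctr.comm hu)
      have hn := S.isInv_of_zt hc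
      have h4 := (S.inQ_iff hn).1 hu
      have hne : tag n ≠ i := fun e => hz ((S.zt_tag hk hn (by rw [h, e])).2 hc)
      have hne3 : tag n ≠ 3 := fun e => h3 n hn e hc
      rcases (show tag n = 0 ∨ tag n = 3 - i by omega) with e | e
      · exact Or.inl ⟨n, hn, e, rfl⟩
      · exact Or.inr ⟨n, hn, e, rfl⟩
    have := (Set.ncard_le_ncard hsub (Set.toFinite _)).trans (Set.ncard_union_le _ _)
    rw [hZ, S.class_set (by norm_num), S.class_set (by omega)] at this
    rcases hi with rfl | rfl <;> norm_num [sizes] at this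
  refine ⟨fun h => ?_, h3 m hm⟩
  rcases (show tag m = 0 ∨ tag m = 1 ∨ tag m = 2 by omega) with e | e | e
  · exact htag0 m hm e
  · exact h12 1 (Or.inl rfl) m hm e
  · exact h12 2 (Or.inr rfl) m hm e

theorem exists_swap {x : G} (hx : x ∈ S.Q) (hxc : IsConj z x) (hxz : x ≠ z) :
    ∃ g : G, g * z * g⁻¹ = x ∧ g * x * g⁻¹ = z := by
  have H := S.ctr
  obtain ⟨d, hd⟩ := isConj_iff.1 hxc
  have P := LargeExtra.Pair.mk' H (g := d) (hd.symm ▸ hx) (by rw [hd]; exact hxz)
  rw [hd] at P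
  have h32 : 32 ≤ Nat.card S.Q := by rw [S.cardQ]; norm_num
  have hy : d⁻¹ * z * d ∈ S.Q := (P.link d hd z).1 (P.z_mem' h32)
  have hyz : d⁻¹ * z * d ≠ z := by
    intro e
    apply hxz
    rw [← hd]
    calc d * z * d⁻¹ = d * (d⁻¹ * z * d) * d⁻¹ := by rw [e]
      _ = z := by group
  have P2 := LargeExtra.Pair.mk' H (g := d⁻¹) (by rwa [inv_inv]) (by rwa [inv_inv])
  obtain ⟨q, hq, hqx⟩ := P.exists_swap
  obtain ⟨q₀, hq₀, hq₀y⟩ := P2.exists_swap
  rw [inv_inv] at hq₀y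
  set p := d * q₀ * d⁻¹ with hp
  have hpx : p * x * p⁻¹ = x := by
    calc p * x * p⁻¹ = d * (q₀ * (d⁻¹ * x * d) * q₀⁻¹) * d⁻¹ := by rw [hp]; group
      _ = d * (q₀ * z * q₀⁻¹) * d⁻¹ := by rw [← hd]; group
      _ = x := by rw [H.conj_z hq₀, hd]
  have hpz : p * z * p⁻¹ = x * z := by
    calc p * z * p⁻¹ = d * (q₀ * (d⁻¹ * z * d) * q₀⁻¹) * d⁻¹ := by rw [hp]; group
      _ = d * (z * (d⁻¹ * z * d)) * d⁻¹ := by rw [hq₀y]
      _ = (d * z * d⁻¹) * z := by group
      _ = x * z := by rw [hd]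
  have hxz' : x * z = z * x := H.comm hx
  refine ⟨q * p * q, ?_, ?_⟩
  · calc q * p * q * z * (q * p * q)⁻¹ = q * (p * (q * z * q⁻¹) * p⁻¹) * q⁻¹ := by group
      _ = q * (x * z) * q⁻¹ := by rw [H.conj_z hq, hpz]
      _ = (q * x * q⁻¹) * (q * z * q⁻¹) := by group
      _ = z * x * z := by rw [hqx, H.conj_z hq]
      _ = x := by rw [mul_assoc, hxz', ← mul_assoc, H.zz, one_mul]
  · calc q * p * q * x * (q * p * q)⁻¹ = q * (p * (q * x * q⁻¹) * p⁻¹) * q⁻¹ := by group
      _ = q * ((p * z * p⁻¹) * (p * x * p⁻¹)) * q⁻¹ := by rw [hqx]; group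
      _ = q * (x * z * x) * q⁻¹ := by rw [hpz, hpx]
      _ = q * z * q⁻¹ := by
        congr 2
        rw [hxz', mul_assoc, show x * x = 1 by
          rw [← hd, show d * z * d⁻¹ * (d * z * d⁻¹) = d * (z * z) * d⁻¹ by group, H.zz]; group, mul_one]
      _ = z := H.conj_z hq

/-- What one swap gives. -/
structure Out (s : Code.Side) where
  g : G
  gz : g * z * g⁻¹ = S.em (rep s.i)
  t3 : ∃ m n, IsInv m ∧ IsInv n ∧ tag m = 3 ∧ tag n = 5 ∧ g * S.em m * g⁻¹ = S.em n
  t4 : ∃ m n, IsInv m ∧ IsInv n ∧ tag m = s.o ∧ tag n = 4 ∧ g * S.em m * g⁻¹ = S.em n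
  tg : ∃ m n, IsInv m ∧ IsInv n ∧ tag m = s.i ∧ tag n = s.good ∧ g * S.em m * g⁻¹ = S.em n

theorem code_zc : code zc = Side.Zc := code_rep (i := 0) (by norm_num)

set_option maxHeartbeats 1000000 in
theorem side (s : Code.Side) (hs : s.OK) : Nonempty (S.Out s) := by
  classical
  have hsm := hs.small
  simp only [Side.smallOK, Bool.and_eq_true, Bool.or_eq_true, Bool.not_eq_true', List.isEmpty_eq_false_iff] at hsm
  obtain ⟨⟨⟨⟨⟨⟨⟨⟨⟨⟨⟨hio, hXk⟩, hXZk⟩, hXi⟩, hXz⟩, hpos⟩, hneg⟩, hm1⟩, hm2⟩, hm12⟩, hoct⟩, hne⟩ := hsm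
  have hio' : (s.i = 1 ∧ s.o = 2) ∨ (s.i = 2 ∧ s.o = 1) := by
    rcases hio with ⟨a, b⟩ | ⟨a, b⟩
    · exact Or.inl ⟨Nat.eq_of_beq_eq_true a, Nat.eq_of_beq_eq_true b⟩
    · exact Or.inr ⟨Nat.eq_of_beq_eq_true a, Nat.eq_of_beq_eq_true b⟩
  have hi8 : s.i < 8 := by omega
  set X := rep s.i with hX
  have cX : code X = s.X := code_rep hi8
  have cZ : code zc = Side.Zc := code_zc
  have hXinv : IsInv X := isInv_rep hi8
  have hxc : S.Zt X := (S.low hXinv).1 (by rw [hX, tag_rep hi8]; omega)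
  have hxQ : S.em X ∈ S.Q := (S.inQ_iff hXinv).2 (by rw [hX, tag_rep hi8]; omega)
  have hxz : S.em X ≠ z := by
    intro e
    have := congrArg code (S.em_injective (e.trans S.em_zc.symm))
    rw [cX, cZ] at this
    rw [this] at hXz
    simp at hXz
  obtain ⟨g, hgz, hgx⟩ := S.exists_swap hxQ hxc hxz
  have hzX : zc * X = X * zc := S.em_injective (by
    rw [map_mul, map_mul, S.em_zc]; exact (S.em_comm X).symm)
  -- the image of an element commuting with `X`
  have img : ∀ m : Mdl, m * X = X * m → ∃ n : Mdl, S.em n = g * S.em m * g⁻¹ ∧ n * X = X * n := by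
    intro m hm
    have hc0 : Commute (g * S.em m * g⁻¹) (g * S.em X * g⁻¹) := by
      show g * S.em m * g⁻¹ * (g * S.em X * g⁻¹) = g * S.em X * g⁻¹ * (g * S.em m * g⁻¹)
      rw [show g * S.em m * g⁻¹ * (g * S.em X * g⁻¹) = g * (S.em m * S.em X) * g⁻¹ by group, ← map_mul, hm,
        map_mul]
      group
    obtain ⟨n, hn⟩ := S.exists_em (show g * S.em m * g⁻¹ * z = z * (g * S.em m * g⁻¹) by
      have h := hc0.eq
      rwa [hgx] at h)
    refine ⟨n, hn, S.em_injective ?_⟩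
    rw [map_mul, map_mul, hn, ← hgz,
      show g * S.em m * g⁻¹ * (g * z * g⁻¹) = g * (S.em m * z) * g⁻¹ by group, S.em_comm m]
    group
  have imgZ : ∀ m n : Mdl, S.em n = g * S.em m * g⁻¹ →
      S.em (n * zc) = g * S.em (m * X) * g⁻¹ ∧ S.em (n * X) = g * S.em (m * zc) * g⁻¹ ∧
      S.em (n * X * zc) = g * S.em (m * X * zc) * g⁻¹ := by
    intro m n h
    refine ⟨?_, ?_, ?_⟩
    · rw [map_mul, map_mul, h, S.em_zc]
      conv_lhs => arg 2; rw [← hgx]
      group
    · rw [map_mul, map_mul, h, S.em_zc, ← hgz]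
      group
    · rw [mul_assoc m, ← hzX, ← mul_assoc m, map_mul, map_mul, map_mul, map_mul, h, S.em_zc]
      conv_lhs => arg 2; rw [← hgx]
      rw [← hgz]
      group
  have ztImg : ∀ {m n : Mdl}, S.em n = g * S.em m * g⁻¹ → (S.Zt n ↔ S.Zt m) := by
    intro m n h
    show IsConj z (S.em n) ↔ IsConj z (S.em m)
    have hc : IsConj (S.em m) (S.em n) := isConj_iff.2 ⟨g, h.symm⟩
    exact ⟨fun h' => IsConj.trans h' hc.symm, fun h' => IsConj.trans h' hc⟩
  have invImg : ∀ {m n : Mdl}, IsInv m → S.em n = g * S.em m * g⁻¹ → IsInv n := by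
    intro m n hm h
    refine ⟨S.em_injective ?_, fun e => hm.2 (S.em_injective ?_)⟩
    · rw [map_mul, map_one, h, show g * S.em m * g⁻¹ * (g * S.em m * g⁻¹) = g * (S.em m * S.em m) * g⁻¹ by group,
        ← map_mul, hm.1, map_one]
      group
    · rw [e, map_one] at h
      rw [map_one]
      exact conj_eq_one_iff.1 h.symm
  have mulInv : ∀ {m k : Mdl}, IsInv m → IsInv k → m * k = k * m → m ≠ k → IsInv (m * k) := by
    intro m k hm hk hc hmk
    refine ⟨?_, fun e => hmk ?_⟩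
    · rw [mul_assoc, ← mul_assoc k, ← hc, mul_assoc m k k, hk.1, mul_one, hm.1]
    · rw [eq_inv_of_mul_eq_one_left e, hk.inv]
  have okT_of : ∀ {n : Mdl}, IsInv n → n * X = X * n → s.okT (code n) = true := by
    intro n hn hc
    rw [Side.okT, isInv_iff.1 hn, Bool.true_and, ← cX, ← code_mul, ← code_mul, hc]
    exact Nat.beq_refl _
  have ofK : ∀ {a : ℕ}, inK a = true → s.okT a = true → IsInv (el a) ∧ el a * X = X * el a ∧
      code (el a) = a := by
    intro a ha h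
    rw [Side.okT, Bool.and_eq_true] at h
    refine ⟨isInv_iff.2 (by rw [code_el ha]; exact h.1), ?_, code_el ha⟩
    refine beq_code.1 ?_
    rw [code_mul, code_mul, code_el ha, cX]
    exact h.2
  have notLow : ∀ {n : Mdl}, IsInv n → ¬ S.Zt n → Side.low (tag n) = false := by
    intro n hn h
    rw [Side.low, ← Bool.not_eq_true, Nat.blt_eq]
    exact fun hlt => h ((S.low hn).1 hlt)
  have ne_of : ∀ {n k : Mdl}, IsInv n → IsInv k → S.Zt n → ¬ S.Zt k → Nat.beq (tag n) (tag k) = false := by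
    intro n k hn hk h1 h2
    rw [← Bool.not_eq_true]
    intro e
    exact h2 ((S.zt_tag hn hk (Nat.eq_of_beq_eq_true e)).1 h1)
  have ne3 : ∀ {n : Mdl}, IsInv n → S.Zt n → Nat.beq (tag n) 3 = false := by
    intro n hn h
    rw [← Bool.not_eq_true]
    intro e
    exact (S.low hn).2 (Nat.eq_of_beq_eq_true e) h
  have hzinv : IsInv zc := isInv_rep (i := 0) (by norm_num)
  -- images of the other class
  have other : ∀ a, s.otherOK a = true → ∀ n : Mdl, S.em n = g * S.em (el a) * g⁻¹ →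
      IsInv n ∧ S.Zt n ∧ ¬ S.Zt (n * zc) ∧ IsInv (n * zc) ∧
      IsInv (el a) ∧ tag (el a) = s.o ∧ IsInv (el a * X) ∧ tag (el a * X) = 3 ∧
      S.em (n * zc) = g * S.em (el a * X) * g⁻¹ ∧
      (Side.memL (code n) s.pos = true ∨ Side.memL (code n) s.neg = true) := by
    intro a ha n hn
    simp only [Side.otherOK, Bool.and_eq_true] at ha
    obtain ⟨⟨⟨⟨⟨hk, hT⟩, ht⟩, htx⟩, htxz⟩, htz⟩ := ha
    obtain ⟨hm, hmX, hmc⟩ := ofK hk hT
    set m := el a
    have htag : tag m = s.o := by rw [tag, hmc]; exact Nat.eq_of_beq_eq_true ht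
    have hmz : m * zc = zc * m := S.em_injective (by rw [map_mul, map_mul, S.em_zc]; exact S.em_comm m)
    have htagz : tag (m * zc) = s.o := by
      rw [tag, code_mul, hmc, cZ]; exact Nat.eq_of_beq_eq_true htz
    have htagx : tag (m * X) = 3 := by
      rw [tag, code_mul, hmc, cX]; exact Nat.eq_of_beq_eq_true htx
    have htagxz : tag (m * X * zc) = 3 := by
      rw [tag, code_mul, code_mul, hmc, cX, cZ]; exact Nat.eq_of_beq_eq_true htxz
    have hne1 : m ≠ zc := by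
      intro e
      rw [e, tag, cZ, show tagc Side.Zc = 0 from (reps_ok 0 (by norm_num)).2.2.1] at htag
      omega
    have hne2 : m ≠ X := by
      intro e
      rw [e, hX, tag_rep hi8] at htag
      omega
    have iz := mulInv hm hzinv hmz hne1
    have ix := mulInv hm hXinv hmX hne2
    have hXzm : (m * X) * zc = zc * (m * X) := by rw [mul_assoc, ← hzX, ← mul_assoc, hmz, mul_assoc]
    have ixz := mulInv ix hzinv hXzm (fun e => by
      rw [e, tag, cZ, show tagc Side.Zc = 0 from (reps_ok 0 (by norm_num)).2.2.1] at htagx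
      omega)
    obtain ⟨n', hn', hn'X⟩ := img m hmX
    obtain rfl : n = n' := S.em_injective (hn.trans hn'.symm)
    obtain ⟨e1, e2, e3⟩ := imgZ m n hn
    have jn := invImg hm hn
    have jz := invImg ix e1
    have jx := invImg iz e2
    have jxz := invImg ixz e3
    have zn : S.Zt n := (ztImg hn).2 ((S.low hm).1 (by omega))
    have zx : S.Zt (n * X) := (ztImg e2).2 ((S.low iz).1 (by omega))
    have tz : ¬ S.Zt (n * zc) := fun h => (S.low ix).2 htagx ((ztImg e1).1 h)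
    have txz : ¬ S.Zt (n * X * zc) := fun h => (S.low ixz).2 htagxz ((ztImg e3).1 h)
    refine ⟨jn, zn, tz, jz, hm, htag, ix, htagx, e1, ?_⟩
    have hp := forall_codes hs.passA n
    have c1 : Side.tZ (code n) = tag (n * zc) := by rw [Side.tZ, tag, code_mul, cZ]
    have c2 : s.tX (code n) = tag (n * X) := by rw [Side.tX, tag, code_mul, cX]
    have c3 : s.tXZ (code n) = tag (n * X * zc) := by rw [Side.tXZ, tag, code_mul, code_mul, cX, cZ]
    simp only [Side.passA, okT_of jn hn'X, c1, c2, c3, show tagc (code n) = tag n from rfl, notLow jz tz,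
      notLow jxz txz, ne3 jn zn, ne3 jx zx, ne_of jn jz zn tz, ne_of jn jxz zn txz, ne_of jx jz zx tz,
      ne_of jx jxz zx txz, Bool.not_false, Bool.and_self, Bool.not_true, Bool.false_or,
      Bool.or_eq_true] at hp
    exact hp
  have hpos1 : ∀ n : Mdl, Side.memL (code n) s.pos = true → tag n = 4 ∧ tag (n * zc) = 5 := by
    intro n h
    rw [Side.memL, List.any_eq_true] at h
    obtain ⟨a, ha, hae⟩ := h
    simp only [Side.posOK, Bool.and_eq_true, List.all_eq_true] at hpos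
    obtain ⟨⟨-, h4⟩, h5⟩ := hpos.1 a ha
    rw [Nat.eq_of_beq_eq_true hae] at h4 h5
    exact ⟨Nat.eq_of_beq_eq_true h4, by rw [tag, code_mul, cZ]; exact Nat.eq_of_beq_eq_true h5⟩
  have hneg1 : ∀ n : Mdl, Side.memL (code n) s.neg = true → tag n = 5 ∧ tag (n * zc) = 4 := by
    intro n h
    rw [Side.memL, List.any_eq_true] at h
    obtain ⟨a, ha, hae⟩ := h
    simp only [Side.posOK, Bool.and_eq_true, List.all_eq_true] at hpos
    obtain ⟨⟨-, h4⟩, h5⟩ := hpos.2 a ha
    rw [Nat.eq_of_beq_eq_true hae] at h4 h5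
    exact ⟨Nat.eq_of_beq_eq_true h4, by rw [tag, code_mul, cZ]; exact Nat.eq_of_beq_eq_true h5⟩
  have getImg : ∀ a, s.otherOK a = true → ∃ n, S.em n = g * S.em (el a) * g⁻¹ := by
    intro a ha
    simp only [Side.otherOK, Bool.and_eq_true] at ha
    obtain ⟨⟨⟨⟨⟨hk, hT⟩, -⟩, -⟩, -⟩, -⟩ := ha
    obtain ⟨-, hmX, -⟩ := ofK hk hT
    obtain ⟨n, hn, -⟩ := img _ hmX
    exact ⟨n, hn⟩
  have inK_of : ∀ a, s.otherOK a = true → inK a = true := by
    intro a ha
    simp only [Side.otherOK, Bool.and_eq_true] at ha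
    exact ha.1.1.1.1.1
  obtain ⟨n1, hn1⟩ := getImg _ hm1
  obtain ⟨j1, z1, t1, jz1, hma, htag_a, hax, htag_ax, e1, hcase1⟩ := other _ hm1 n1 hn1
  have z45 : ∀ n, IsInv n → (tag n = 4 → S.Zt n) ∧ (tag n = 5 → ¬ S.Zt n) := by
    rcases hcase1 with hp | hp
    · obtain ⟨h4, h5⟩ := hpos1 _ hp
      exact fun n hn => ⟨fun h => (S.zt_tag j1 hn (by rw [h4, h])).1 z1,
        fun h hz => t1 ((S.zt_tag jz1 hn (by rw [h5, h])).2 hz)⟩
    · exfalso
      obtain ⟨h5, h4⟩ := hneg1 _ hp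
      have noPos : ∀ n, IsInv n → S.Zt n → Side.memL (code n) s.pos = true → False := fun n hn hz h =>
        t1 ((S.zt_tag jz1 hn (by rw [h4, (hpos1 n h).1])).2 hz)
      obtain ⟨n2, hn2⟩ := getImg _ hm2
      obtain ⟨n3, hn3⟩ := getImg _ hm12
      obtain ⟨j2, z2, -, -, -, -, -, -, -, hc2⟩ := other _ hm2 n2 hn2
      obtain ⟨j3, z3, -, -, -, -, -, -, -, hc3⟩ := other _ hm12 n3 hn3
      have hp2 := hc2.resolve_left (fun h => noPos _ j2 z2 h)
      have hp3 := hc3.resolve_left (fun h => noPos _ j3 z3 h)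
      have hprod : n3 = n1 * n2 := S.em_injective (by
        rw [map_mul, hn1, hn2, hn3, ← (el_mul (inK_of _ hm1) (inK_of _ hm2)).1, map_mul]
        group)
      rw [hprod, code_mul] at hp3
      simp only [Side.negOK, List.all_eq_true, Bool.not_eq_true'] at hneg
      rw [Side.memL, List.any_eq_true] at hp hp2
      obtain ⟨a1, ha1, ha1e⟩ := hp
      obtain ⟨a2, ha2, ha2e⟩ := hp2
      have := hneg a1 ha1 a2 ha2
      rw [Nat.eq_of_beq_eq_true ha1e, Nat.eq_of_beq_eq_true ha2e, hp3] at this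
      exact absurd this (by simp)
  have isZ_of : ∀ n, IsInv n → S.Zt n → Side.isZ (tag n) = true := by
    intro n hn h
    rw [Side.isZ, ne3 hn h, Bool.false_or, Bool.not_eq_true', ← Bool.not_eq_true]
    intro e
    exact (z45 n hn).2 (Nat.eq_of_beq_eq_true e) h
  have posMem : ∀ a, s.otherOK a = true → ∀ n, S.em n = g * S.em (el a) * g⁻¹ →
      Side.memL (code n) s.pos = true := by
    intro a ha n hn
    obtain ⟨jn, zn, -, -, -, -, -, -, -, hc⟩ := other a ha n hn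
    exact hc.resolve_right fun h => (z45 n jn).2 (hneg1 n h).1 zn
  have h45 := hpos1 _ (posMem _ hm1 n1 hn1)
  -- the octad
  by_cases hgood : ∃ m n, IsInv m ∧ IsInv n ∧ tag m = s.i ∧ tag n = s.good ∧ g * S.em m * g⁻¹ = S.em n
  · exact ⟨⟨g, hgz, ⟨el s.m1 * X, n1 * zc, hax, jz1, htag_ax, h45.2, e1.symm⟩,
      ⟨el s.m1, n1, hma, j1, htag_a, h45.1, hn1.symm⟩, hgood⟩⟩
  exfalso
  -- every element of the octad stays in `Q`
  have stay : ∀ p ∈ s.oct, IsInv (el p.1) ∧ el p.1 * X = X * el p.1 ∧ inK p.1 = true ∧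
      S.em (el p.1) ∈ S.Q ∧ g * S.em (el p.1) * g⁻¹ ∈ S.Q := by
    intro p hp
    simp only [Side.octOK, List.all_eq_true, Bool.and_eq_true, Bool.not_eq_true', Bool.or_eq_false_iff] at hoct
    obtain ⟨⟨⟨⟨⟨⟨⟨⟨hk, hT⟩, ht⟩, htz⟩, htx⟩, htxz⟩, hv⟩, hp2⟩, hnc⟩ := hoct p hp
    obtain ⟨hm, hmX, hmc⟩ := ofK hk hT
    set m := el p.1
    have htag : tag m = s.i := by rw [tag, hmc]; exact Nat.eq_of_beq_eq_true ht
    have htagz : tag (m * zc) = s.i := by rw [tag, code_mul, hmc, cZ]; exact Nat.eq_of_beq_eq_true htz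
    have htagx : tag (m * X) = s.i := by rw [tag, code_mul, hmc, cX]; exact Nat.eq_of_beq_eq_true htx
    have htagxz : tag (m * X * zc) = s.i := by
      rw [tag, code_mul, code_mul, hmc, cX, cZ]; exact Nat.eq_of_beq_eq_true htxz
    obtain ⟨⟨hv1, hv2⟩, hv3⟩ := hv
    have hne1 : m ≠ X := by
      intro e
      rw [← hmc, e, cX] at hv1
      simp at hv1
    have hne2 : m ≠ zc := by
      intro e
      rw [← hmc, e, cZ] at hv2
      simp at hv2
    have hne3 : m ≠ X * zc := by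
      intro e
      rw [← hmc, e, code_mul, cX, cZ] at hv3
      simp at hv3
    have hmz : m * zc = zc * m := S.em_injective (by rw [map_mul, map_mul, S.em_zc]; exact S.em_comm m)
    have hXzm : (m * X) * zc = zc * (m * X) := by rw [mul_assoc, ← hzX, ← mul_assoc, hmz, mul_assoc]
    have iz := mulInv hm hzinv hmz hne2
    have ix := mulInv hm hXinv hmX hne1
    have ixz := mulInv ix hzinv hXzm (fun e => hne3 (by
      rw [← hzX, ← e, mul_assoc, hXinv.1, mul_one]))
    obtain ⟨n, hn, hnX⟩ := img m hmX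
    obtain ⟨e1, e2, e3⟩ := imgZ m n hn
    have jn := invImg hm hn
    have jz := invImg ix e1
    have jx := invImg iz e2
    have jxz := invImg ixz e3
    have zn : S.Zt n := (ztImg hn).2 ((S.low hm).1 (by omega))
    have zz : S.Zt (n * zc) := (ztImg e1).2 ((S.low ix).1 (by omega))
    have zx : S.Zt (n * X) := (ztImg e2).2 ((S.low iz).1 (by omega))
    have zxz : S.Zt (n * X * zc) := (ztImg e3).2 ((S.low ixz).1 (by omega))
    have d1 : Nat.beq (code n) s.X = false := by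
      rw [← Bool.not_eq_true]
      intro e
      have : n = X := code_inj ((Nat.eq_of_beq_eq_true e).trans cX.symm)
      rw [this] at hn
      exact hne2 (S.em_injective ((mul_left_cancel (mul_right_cancel (hgz.trans hn))).symm.trans S.em_zc.symm))
    have d2 : Nat.beq (code n) Side.Zc = false := by
      rw [← Bool.not_eq_true]
      intro e
      have : n = zc := code_inj ((Nat.eq_of_beq_eq_true e).trans cZ.symm)
      rw [this] at hn
      exact hne1 (S.em_injective (mul_left_cancel (mul_right_cancel (hgx.trans (S.em_zc.symm.trans hn)))).symm)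
    have d3 : Nat.beq (code n) (mulF s.X Side.Zc) = false := by
      rw [← Bool.not_eq_true]
      intro e
      have : n = X * zc := code_inj (by rw [code_mul, cX, cZ]; exact Nat.eq_of_beq_eq_true e)
      have h' : S.em n = g * S.em (X * zc) * g⁻¹ := by
        rw [this, map_mul, S.em_zc, show g * (S.em X * z) * g⁻¹ = g * S.em X * g⁻¹ * (g * z * g⁻¹) by group,
          hgx, hgz]
        exact S.em_comm X
      rw [hn] at h'
      exact hne3 (S.em_injective (mul_left_cancel (mul_right_cancel h')))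
    have hp' := forall_codes hs.passC n
    have c1 : Side.tZ (code n) = tag (n * zc) := by rw [Side.tZ, tag, code_mul, cZ]
    have c2 : s.tX (code n) = tag (n * X) := by rw [Side.tX, tag, code_mul, cX]
    have c3 : s.tXZ (code n) = tag (n * X * zc) := by rw [Side.tXZ, tag, code_mul, code_mul, cX, cZ]
    simp only [Side.passC, okT_of jn hnX, d1, d2, d3, c1, c2, c3, show tagc (code n) = tag n from rfl,
      isZ_of n jn zn, isZ_of _ jx zx, isZ_of _ jz zz, isZ_of _ jxz zxz, Bool.or_self, Bool.not_false,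
      Bool.and_self, Bool.not_true, Bool.false_or, Bool.or_eq_true, List.all_eq_true] at hp'
    refine ⟨hm, hmX, hk, (S.inQ_iff hm).2 (by omega), ?_⟩
    rw [← hn, S.inQ_iff jn]
    rcases hp' with (h | h) | h
    · have := Nat.eq_of_beq_eq_true h
      omega
    · exact absurd ⟨m, n, hm, jn, htag, Nat.eq_of_beq_eq_true h, hn.symm⟩ hgood
    · exfalso
      obtain ⟨k, hk'⟩ := getImg _ hp2
      have hmem := posMem _ hp2 k hk'
      rw [Side.memL, List.any_eq_true] at hmem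
      obtain ⟨a, ha, hae⟩ := hmem
      have hcm : n * k = k * n := beq_code.1 (by
        have := h a ha
        rw [Nat.eq_of_beq_eq_true hae] at this
        rwa [code_mul, code_mul])
      have hcm' : m * el p.2 = el p.2 * m := by
        refine S.em_injective ?_
        have h1 := congrArg S.em hcm
        rw [map_mul, map_mul, hn, hk',
          show g * S.em m * g⁻¹ * (g * S.em (el p.2) * g⁻¹) = g * (S.em m * S.em (el p.2)) * g⁻¹ by group,
          show g * S.em (el p.2) * g⁻¹ * (g * S.em m * g⁻¹) = g * (S.em (el p.2) * S.em m) * g⁻¹ by group] at h1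
        rw [map_mul, map_mul]
        exact mul_left_cancel (mul_right_cancel h1)
      rw [← beq_code, code_mul, code_mul, hmc, code_el (inK_of _ hp2), hnc] at hcm'
      exact absurd hcm' (by simp)
  obtain ⟨r, hrQ, hr1, hrt, hrd⟩ := S.graph _ hxQ hxc hxz
  have hr'Q := hrd g hgz
  set r' := g⁻¹ * r * g with hr'
  have hrr : g * r' * g⁻¹ = r := by rw [hr']; group
  have both : ∀ {u : G}, (u = 1 ∨ u = z) → (g * u * g⁻¹ = 1 ∨ g * u * g⁻¹ = z) → u = 1 := by
    intro u hu hu'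
    rcases hu with h | h
    · exact h
    · rw [h, hgz] at hu'
      rcases hu' with h' | h'
      · exact absurd (S.em_injective (h'.trans (map_one S.em).symm)) hXinv.2
      · exact absurd h' hxz
  have hsq : r' * r' = 1 := by
    refine both (S.ctr.sq_cases hr'Q) ?_
    rw [show g * (r' * r') * g⁻¹ = g * r' * g⁻¹ * (g * r' * g⁻¹) by group, hrr]
    exact S.ctr.sq_cases hrQ
  obtain ⟨ρ, hρ⟩ := S.exists_em (S.ctr.comm hr'Q)
  have hρi : IsInv ρ := by
    refine ⟨S.em_injective (by rw [map_mul, hρ, map_one, hsq]), fun e => hr1 ?_⟩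
    rw [← hrr, ← hρ, e, map_one]
    group
  have hρX : ρ * X = X * ρ := by
    refine S.em_injective ?_
    rw [map_mul, map_mul, hρ, hr', show S.em X = g⁻¹ * z * g by
      rw [show g⁻¹ * z * g = g⁻¹ * (g * S.em X * g⁻¹) * g by rw [hgx]]; group,
      show g⁻¹ * r * g * (g⁻¹ * z * g) = g⁻¹ * (r * z) * g by group, S.ctr.comm hrQ]
    group
  have hρt : tag ρ = 3 := by
    have h4 := (S.inQ_iff hρi).1 (by rw [hρ]; exact hr'Q)
    have h3 : ¬ tag ρ < 3 := by
      intro h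
      have h1 : IsConj z r' := hρ ▸ (S.low hρi).1 h
      exact hrt (IsConj.trans h1 (isConj_iff.2 ⟨g, hrr⟩))
    omega
  have hpe := forall_codes hs.passE ρ
  simp only [Side.passE, okT_of hρi hρX, show tagc (code ρ) = tag ρ from rfl, hρt, Nat.beq_refl,
    Bool.and_self, Bool.not_true, Bool.false_or, List.any_eq_true, Bool.not_eq_true'] at hpe
  obtain ⟨p, hp, hnc⟩ := hpe
  obtain ⟨-, -, hk, hmQ, hnQ⟩ := stay p hp
  have hcomm : ⁅r', S.em (el p.1)⁆ = 1 := by
    refine both (S.ctr.comm_cases hr'Q hmQ) ?_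
    rw [show g * ⁅r', S.em (el p.1)⁆ * g⁻¹ = ⁅g * r' * g⁻¹, g * S.em (el p.1) * g⁻¹⁆ by
      simp only [commutatorElement_def]; group, hrr]
    exact S.ctr.comm_cases hrQ hnQ
  rw [commutatorElement_eq_one_iff_mul_comm, ← hρ, ← map_mul, ← map_mul] at hcomm
  rw [← code_el hk, ← code_mul, ← code_mul, beq_code.2 (S.em_injective hcomm)] at hnc
  exact Bool.noConfusion hnc

/-- Which classes are conjugate to the centre. -/
theorem zt_iff {m : Mdl} (hm : IsInv m) : S.Zt m ↔ tag m ≠ 3 ∧ tag m ≠ 5 := by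
  obtain ⟨O1⟩ := S.side side1 side1_ok
  obtain ⟨O2⟩ := S.side side2 side2_ok
  have move : ∀ {g : G} {a b : Mdl}, g * S.em a * g⁻¹ = S.em b → (S.Zt b ↔ S.Zt a) := by
    intro g a b h
    have hc : IsConj (S.em a) (S.em b) := isConj_iff.2 ⟨g, h⟩
    exact ⟨fun h' => IsConj.trans h' hc.symm, fun h' => IsConj.trans h' hc⟩
  obtain ⟨a4, b4, ha4, hb4, hta4, htb4, he4⟩ := O1.t4
  obtain ⟨a5, b5, ha5, hb5, hta5, htb5, he5⟩ := O1.t3
  obtain ⟨a6, b6, ha6, hb6, hta6, htb6, he6⟩ := O1.tg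
  obtain ⟨a7, b7, ha7, hb7, hta7, htb7, he7⟩ := O2.tg
  simp only [side1] at hta4 hta6 htb6
  simp only [side2] at hta7 htb7
  have h8 := tag_lt hm
  constructor
  · intro hz
    refine ⟨fun e => (S.low hm).2 e hz, fun e => ?_⟩
    exact (S.low ha5).2 hta5 ((move he5).1 ((S.zt_tag hm hb5 (by rw [e, htb5])).1 hz))
  · rintro ⟨h3, h5⟩
    rcases (show tag m < 3 ∨ tag m = 4 ∨ tag m = 6 ∨ tag m = 7 by omega) with e | e | e | e
    · exact (S.low hm).1 e
    · exact (S.zt_tag hb4 hm (by rw [e, htb4])).1 ((move he4).2 ((S.low ha4).1 (by omega)))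
    · exact (S.zt_tag hb6 hm (by rw [e, htb6])).1 ((move he6).2 ((S.low ha6).1 (by omega)))
    · exact (S.zt_tag hb7 hm (by rw [e, htb7])).1 ((move he7).2 ((S.low ha7).1 (by omega)))

/-- The setting. -/
noncomputable def setting : Setting z where
  e := S.e
  e_zc := S.e_zc
  fusion _ hg := S.zt_iff hg

theorem setting_emb : S.setting.emb = S.em := rfl

/-- The fusion happens inside every subgroup containing the centralizer and reaching the two classes in `Q`. -/
theorem local_fusion {H : Subgroup G} (hC : centralizer ({z} : Set G) ≤ H)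
    (h1 : ∃ m, IsInv m ∧ tag m = 1 ∧ ∃ h ∈ H, h * z * h⁻¹ = S.em m)
    (h2 : ∃ m, IsInv m ∧ tag m = 2 ∧ ∃ h ∈ H, h * z * h⁻¹ = S.em m) {x : G}
    (hx : x ∈ centralizer ({z} : Set G)) (hx2 : orderOf x = 2) :
    ∃ h ∈ H, h * x * h⁻¹ = z ∨ h * x * h⁻¹ = S.em (rep 3) := by
  obtain ⟨O1⟩ := S.side side1 side1_ok
  obtain ⟨O2⟩ := S.side side2 side2_ok
  have hemH : ∀ k : Mdl, S.em k ∈ H := fun k => hC (S.e k).2
  have same : ∀ {a b : Mdl}, IsInv a → IsInv b → tag a = tag b → ∃ h ∈ H, h * S.em a * h⁻¹ = S.em b := by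
    intro a b ha hb he
    obtain ⟨k, hk⟩ := exists_conj_of_tag_eq ha hb he
    exact ⟨S.em k, hemH k, by rw [← hk, map_mul, map_mul, map_inv]⟩
  have toRep : ∀ {i : ℕ}, i < 8 → (∃ m, IsInv m ∧ tag m = i ∧ ∃ h ∈ H, h * z * h⁻¹ = S.em m) →
      ∀ g : G, g * z * g⁻¹ = S.em (rep i) → g ∈ H := by
    rintro i hi ⟨m, hm, ht, h, hh, he⟩ g hg
    obtain ⟨k, hk, hke⟩ := same hm (isInv_rep hi) (by rw [ht, tag_rep hi])
    have hc : (k * h)⁻¹ * g ∈ centralizer ({z} : Set G) := by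
      rw [mem_centralizer_singleton_iff, ← mul_inv_eq_iff_eq_mul]
      calc (k * h)⁻¹ * g * z * ((k * h)⁻¹ * g)⁻¹ = (k * h)⁻¹ * (g * z * g⁻¹) * (k * h) := by group
        _ = (k * h)⁻¹ * (k * (h * z * h⁻¹) * k⁻¹) * (k * h) := by rw [hg, he, hke]
        _ = z := by group
    rw [show g = (k * h) * ((k * h)⁻¹ * g) by group]
    exact mul_mem (mul_mem hk hh) (hC hc)
  have hg1 : O1.g ∈ H := toRep (by norm_num) h1 _ O1.gz
  have hg2 : O2.g ∈ H := toRep (by norm_num) h2 _ O2.gz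
  obtain ⟨m, rfl⟩ := S.exists_em (mem_centralizer_singleton_iff.1 hx)
  have hm : IsInv m := by
    refine ⟨S.em_injective ?_, fun e => ?_⟩
    · have h := pow_orderOf_eq_one (S.em m)
      rw [hx2, pow_two] at h
      rw [map_mul, map_one]
      exact h
    · rw [e, map_one, orderOf_one] at hx2
      omega
  have fromH : ∀ {a : Mdl}, IsInv a → (∃ h ∈ H, h * z * h⁻¹ = S.em a) → tag m = tag a →
      ∃ h ∈ H, h * S.em m * h⁻¹ = z := by
    rintro a ha ⟨h, hh, he⟩ ht
    obtain ⟨k, hk, hke⟩ := same hm ha ht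
    refine ⟨h⁻¹ * k, mul_mem (inv_mem hh) hk, ?_⟩
    rw [show h⁻¹ * k * S.em m * (h⁻¹ * k)⁻¹ = h⁻¹ * (k * S.em m * k⁻¹) * h by group, hke, ← he]
    group
  have step : ∀ {a : Mdl} {g : G} {b : Mdl}, g ∈ H → IsInv a → IsInv b → g * S.em a * g⁻¹ = S.em b →
      tag m = tag b → ∀ {t : ℕ}, tag a = t →
      (∀ c, IsInv c → tag c = t → ∃ h ∈ H, h * S.em c * h⁻¹ = z) → ∃ h ∈ H, h * S.em m * h⁻¹ = z := by
    intro a g b hg ha hb he ht t hta hall
    obtain ⟨k, hk, hke⟩ := same hm hb ht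
    obtain ⟨h, hh, hhe⟩ := hall a ha hta
    refine ⟨h * g⁻¹ * k, mul_mem (mul_mem hh (inv_mem hg)) hk, ?_⟩
    rw [show h * g⁻¹ * k * S.em m * (h * g⁻¹ * k)⁻¹ = h * (g⁻¹ * (k * S.em m * k⁻¹) * g) * h⁻¹ by group,
      hke, ← he, show g⁻¹ * (g * S.em a * g⁻¹) * g = S.em a by group, hhe]
  have low' : ∀ c, IsInv c → ∀ {i : ℕ}, tag c = i →
      (∃ a, IsInv a ∧ tag a = i ∧ ∃ h ∈ H, h * z * h⁻¹ = S.em a) → ∃ h ∈ H, h * S.em c * h⁻¹ = z := by
    rintro c hc i hci ⟨a, ha, hai, h, hh, he⟩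
    obtain ⟨k, hk, hke⟩ := same hc ha (by rw [hci, hai])
    refine ⟨h⁻¹ * k, mul_mem (inv_mem hh) hk, ?_⟩
    rw [show h⁻¹ * k * S.em c * (h⁻¹ * k)⁻¹ = h⁻¹ * (k * S.em c * k⁻¹) * h by group, hke, ← he]
    group
  have h8 := tag_lt hm
  rcases (show tag m = 0 ∨ tag m = 1 ∨ tag m = 2 ∨ tag m = 3 ∨ tag m = 4 ∨ tag m = 5 ∨ tag m = 6 ∨ tag m = 7
    by omega) with e | e | e | e | e | e | e | e
  · obtain ⟨h, hh, he⟩ := fromH (isInv_rep (i := 0) (by norm_num))
      ⟨1, one_mem _, by rw [one_mul, inv_one, mul_one]; exact S.em_zc.symm⟩ (by rw [e, tag_rep (by norm_num)])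
    exact ⟨h, hh, Or.inl he⟩
  · obtain ⟨h, hh, he⟩ := low' m hm e h1
    exact ⟨h, hh, Or.inl he⟩
  · obtain ⟨h, hh, he⟩ := low' m hm e h2
    exact ⟨h, hh, Or.inl he⟩
  · obtain ⟨k, hk, hke⟩ := same hm (isInv_rep (i := 3) (by norm_num)) (by rw [e, tag_rep (by norm_num)])
    exact ⟨k, hk, Or.inr hke⟩
  · obtain ⟨a, b, ha, hb, hta, htb, he⟩ := O1.t4
    obtain ⟨h, hh, he'⟩ := step hg1 ha hb he (by rw [e, htb]) hta fun c hc htc => low' c hc htc h2
    exact ⟨h, hh, Or.inl he'⟩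
  · obtain ⟨a, b, ha, hb, hta, htb, he⟩ := O1.t3
    obtain ⟨k, hk, hke⟩ := same hm hb (by rw [e, htb])
    obtain ⟨j, hj, hje⟩ := same ha (isInv_rep (i := 3) (by norm_num)) (by rw [hta, tag_rep (by norm_num)])
    refine ⟨j * O1.g⁻¹ * k, mul_mem (mul_mem hj (inv_mem hg1)) hk, Or.inr ?_⟩
    rw [show j * O1.g⁻¹ * k * S.em m * (j * O1.g⁻¹ * k)⁻¹
      = j * (O1.g⁻¹ * (k * S.em m * k⁻¹) * O1.g) * j⁻¹ by group, hke, ← he,
      show O1.g⁻¹ * (O1.g * S.em a * O1.g⁻¹) * O1.g = S.em a by group, hje]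
  · obtain ⟨a, b, ha, hb, hta, htb, he⟩ := O1.tg
    obtain ⟨h, hh, he'⟩ := step hg1 ha hb he (by rw [e, htb]; rfl) hta fun c hc htc => low' c hc htc h1
    exact ⟨h, hh, Or.inl he'⟩
  · obtain ⟨a, b, ha, hb, hta, htb, he⟩ := O2.tg
    obtain ⟨h, hh, he'⟩ := step hg2 ha hb he (by rw [e, htb]; rfl) hta fun c hc htc => low' c hc htc h2
    exact ⟨h, hh, Or.inl he'⟩

end GraphHyp

end Cfsg.Agent.HeLocal
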