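import Cfsg.Agent.Lib.Involutions.StronglyEmbedded
import Cfsg.Agent.S0215

/-!
The end of the recognition without the order of the group: the centralizer of the involution of the
second class, and a subgroup containing both centralizers is the whole group.
-/

set_option autoImplicit false
set_option linter.unusedSectionVars false

namespace Cfsg.Agent.HeLocal.Finish

open Subgroup Cfsg.Agent.Involutions.Basic
open scoped Pointwise

variable {G : Type*} [Group G] [Finite G]

/-- An odd order subgroup normalized by two commuting involutions, each centralizing only a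
2-group in it together with their product, is trivial. -/
theorem odd_eq_bot {N : Subgroup G} (hN : Odd (Nat.card N)) {z z' : G} (hz : z * z = 1) (hz' : z' * z' = 1)
    (hzN : ∀ n ∈ N, z * n * z⁻¹ ∈ N) (hz'N : ∀ n ∈ N, z' * n * z'⁻¹ ∈ N)
    (h1 : ∀ n ∈ N, z * n = n * z → n = 1) (h2 : ∀ n ∈ N, z' * n = n * z' → n = 1)
    (h3 : ∀ n ∈ N, (z * z') * n = n * (z * z') → n = 1) : N = ⊥ := by
  have inv : ∀ w : G, w * w = 1 → (∀ n ∈ N, w * n * w⁻¹ ∈ N) → (∀ n ∈ N, w * n = n * w → n = 1) →
      ∀ n ∈ N, w * n * w⁻¹ = n⁻¹ := by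
    intro w hw hwN hfix n hn
    let f : N →* N :=
      { toFun := fun u => ⟨w * u * w⁻¹, hwN u u.2⟩
        map_one' := Subtype.ext (by simp)
        map_mul' := fun u v => Subtype.ext (by simp [mul_assoc]) }
    have hff : MonoidHom.FixedPointFree f := fun u hu => Subtype.ext
      (hfix u u.2 (mul_inv_eq_iff_eq_mul.1 (congrArg Subtype.val hu)))
    have hinv : Function.Involutive f := fun u => Subtype.ext (by
      show w * (w * (u : G) * w⁻¹) * w⁻¹ = u
      rw [show w * (w * (u : G) * w⁻¹) * w⁻¹ = (w * w) * u * (w * w)⁻¹ by group, hw]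
      simp)
    have := congrArg (fun u : N => (u : G))
      (congrFun (MonoidHom.FixedPointFree.coe_eq_inv_of_involutive hff hinv) ⟨n, hn⟩)
    exact this
  rw [eq_bot_iff]
  intro n hn
  rw [mem_bot]
  refine h3 n hn (mul_inv_eq_iff_eq_mul.1 ?_)
  rw [show z * z' * n * (z * z')⁻¹ = z * (z' * n * z'⁻¹) * z⁻¹ by group, inv z' hz' hz'N h2 n hn,
    inv z hz hzN h1 _ (inv_mem hn), inv_inv]

/-- The centralizer of `a` normalizes the four group of `a` and `x`. -/
theorem normalizes_four {a x z z' : G} (ha : orderOf a = 2) (hx : orderOf x = 2) (hax : a * x = x * a)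
    (hza : z * a = a * z) (hzx : z * x = x * z) (hz'a : z' * a = a * z')
    (hz : z * z = 1) (hz' : z' * z' = 1) (hzz' : z * z' = z' * z)
    (h2z : IsPGroup 2 ↥(centralizer ({z, a} : Set G)))
    (h2z' : IsPGroup 2 ↥(centralizer ({z', a} : Set G)))
    (h2zz' : IsPGroup 2 ↥(centralizer ({z * z', a} : Set G)))
    (hsyl : ∀ P : Subgroup G, IsPGroup 2 P → centralizer ({z, a} : Set G) ≤ P → P ≤ centralizer ({a} : Set G) →
      P ≤ centralizer ({z, a} : Set G))
    (huniq : ∀ g : G, g * a * g⁻¹ = a → g * x * g⁻¹ ∈ centralizer ({z, a} : Set G) →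
      g * x * g⁻¹ = x ∨ g * x * g⁻¹ = a * x) :
    ∀ g : G, g * a = a * g → g * x * g⁻¹ = x ∨ g * x * g⁻¹ = a * x := by
  classical
  haveI : Fact (Nat.Prime 2) := ⟨Nat.prime_two⟩
  set Y := centralizer ({a} : Set G) with hY
  have hca : ∀ y : Y, (y : G) * a * (y : G)⁻¹ = a := fun y => by
    rw [mem_centralizer_singleton_iff.1 y.2, mul_inv_cancel_right]
  have haY : a ∈ Y := mem_centralizer_singleton_iff.2 rfl
  have hxY : x ∈ Y := mem_centralizer_singleton_iff.2 hax.symm
  let aY : Y := ⟨a, haY⟩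
  haveI hn : (zpowers aY).Normal := by
    refine ⟨fun m hm y => ?_⟩
    obtain ⟨i, rfl⟩ := hm
    refine ⟨i, ?_⟩
    show aY ^ i = y * aY ^ i * y⁻¹
    rw [← conj_zpow]
    congr 1
    exact Subtype.ext (hca y).symm
  let q := QuotientGroup.mk' (zpowers aY)
  have hcases : ∀ m : Y, q m = 1 → (m : G) = 1 ∨ (m : G) = a := by
    intro m hm
    obtain ⟨i, rfl⟩ := (QuotientGroup.eq_one_iff m).1 hm
    rcases Int.even_or_odd i with ⟨k, hk⟩ | ⟨k, hk⟩
    · left
      show ((aY ^ i : Y) : G) = 1
      have h2 : a ^ (2 : ℤ) = 1 := by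
        rw [zpow_two, ← pow_two, ← ha, pow_orderOf_eq_one]
      rw [coe_zpow, show i = 2 * k by omega, zpow_mul, h2, one_zpow]
    · right
      show ((aY ^ i : Y) : G) = a
      have h2 : a ^ (2 : ℤ) = 1 := by
        rw [zpow_two, ← pow_two, ← ha, pow_orderOf_eq_one]
      rw [coe_zpow, show i = 2 * k + 1 from hk, zpow_add_one, zpow_mul, h2, one_zpow, one_mul]
  -- the Sylow subgroup
  set S := (centralizer ({z, a} : Set G)).subgroupOf Y with hS
  have hSY : centralizer ({z, a} : Set G) ≤ Y := centralizer_le (by simp)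
  have hS2 : IsPGroup 2 S := h2z.comap_of_injective Y.subtype Subtype.val_injective
  let P : Sylow 2 Y := ⟨S, hS2, fun {T} hT hle => by
    refine le_antisymm (fun t ht => ?_) hle
    have h := hsyl (T.map Y.subtype) (hT.map _) (fun u hu => ⟨⟨u, hSY hu⟩, hle hu, rfl⟩)
      (map_subtype_le _)
    exact Subgroup.mem_subgroupOf.2 (h ⟨t, ht, rfl⟩)⟩
  let P' : Sylow 2 (Y ⧸ zpowers aY) := P.mapSurjective (QuotientGroup.mk'_surjective _)
  let xY : Y := ⟨x, hxY⟩
  have hxS : xY ∈ S := by
    refine Subgroup.mem_subgroupOf.2 (mem_centralizer_iff.2 ?_)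
    rintro u (rfl | rfl)
    · exact hzx
    · exact hax
  by_cases hxa : x = a
  · intro g hg
    left
    rw [hxa, hg, mul_inv_cancel_right]
  have hx1 : q xY ≠ 1 := by
    intro h
    rcases hcases _ h with h | h
    · rw [show x = 1 from h, orderOf_one] at hx; omega
    · exact hxa h
  have hxq : orderOf (q xY) = 2 := by
    refine orderOf_eq_prime ?_ hx1
    rw [← map_pow, show xY ^ 2 = 1 from Subtype.ext (by
      show x ^ 2 = 1
      rw [← hx, pow_orderOf_eq_one]), map_one]
  have hlift : ∀ y : Y, q y ∈ P' → y ∈ S := by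
    intro y hy
    obtain ⟨t, ht, hte⟩ := hy
    have h1 : q (t⁻¹ * y) = 1 := by rw [map_mul, map_inv, show q t = q y from hte, inv_mul_cancel]
    have haS : aY ∈ S := by
      refine Subgroup.mem_subgroupOf.2 (mem_centralizer_iff.2 ?_)
      rintro u (rfl | rfl)
      · exact hza
      · rfl
    rcases hcases _ h1 with h | h
    · have : t⁻¹ * y = 1 := Subtype.ext h
      rw [inv_mul_eq_one] at this
      exact this ▸ ht
    · have : t⁻¹ * y = aY := Subtype.ext h
      rw [inv_mul_eq_iff_eq_mul] at this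
      exact this ▸ mul_mem ht haS
  have hiso : ∀ g' : Y ⧸ zpowers aY, g' * q xY * g'⁻¹ ∈ P' → g' * q xY * g'⁻¹ = q xY := by
    intro g' hg'
    obtain ⟨y, rfl⟩ := QuotientGroup.mk'_surjective _ g'
    rw [← map_inv, ← map_mul, ← map_mul] at hg' ⊢
    rcases huniq y (hca y) (Subgroup.mem_subgroupOf.1 (hlift _ hg')) with h | h
    · exact congrArg q (Subtype.ext h)
    · have e1 : y * xY * y⁻¹ = aY * xY := Subtype.ext h
      rw [e1, map_mul, show q aY = 1 from (QuotientGroup.eq_one_iff _).2 (mem_zpowers _), one_mul]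
  obtain ⟨N, hNn, hNodd, hNc⟩ := Cfsg.Agent.S0215.result P' (q xY) hxq ⟨xY, hxS, rfl⟩ hiso
  -- its preimage elements of odd order form a trivial group
  have hN : N = ⊥ := by
    rw [eq_bot_iff]
    intro m hm
    obtain ⟨y, rfl⟩ := QuotientGroup.mk'_surjective _ m
    rw [mem_bot]
    have hZ : IsPGroup 2 (zpowers aY) := by
      refine IsPGroup.of_card (n := 1) ?_
      rw [Nat.card_zpowers, pow_one, ← Subgroup.orderOf_coe]
      exact ha
    obtain ⟨K, hK⟩ := Subgroup.exists_left_complement'_of_coprime (G := N.comap q)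
      (N := (zpowers aY).subgroupOf (N.comap q)) (by
        have hle : zpowers aY ≤ N.comap q := fun t ht => by
          show q t ∈ N
          rw [show q t = 1 from (QuotientGroup.eq_one_iff _).2 ht]
          exact one_mem _
        rw [Nat.card_congr (Subgroup.subgroupOfEquivOfLe hle).toEquiv, Nat.card_zpowers, ← Subgroup.orderOf_coe,
          show orderOf ((aY : Y) : G) = 2 from ha]
        refine (Nat.coprime_two_left).2 ?_
        have hidx : ((zpowers aY).subgroupOf (N.comap q)).index = Nat.card N := by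
          refine (congrArg (fun K : Subgroup Y => K.relIndex (N.comap q))
            (QuotientGroup.ker_mk' (zpowers aY))).symm.trans ?_
          rw [Subgroup.relIndex_ker, Subgroup.map_comap_eq_self_of_surjective (QuotientGroup.mk'_surjective _)]
        rw [hidx]
        exact hNodd)
    let J : Subgroup G := (K.map (N.comap q).subtype).map Y.subtype
    have hJc : Nat.card J = Nat.card K := by
      rw [Subgroup.card_map_of_injective Y.subtype_injective,
        Subgroup.card_map_of_injective (N.comap q).subtype_injective]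
    have hKodd : Odd (Nat.card K) := by
      have h := hK.card_mul
      have hidx : ((zpowers aY).subgroupOf (N.comap q)).index = Nat.card N := by
        refine (congrArg (fun K : Subgroup Y => K.relIndex (N.comap q))
          (QuotientGroup.ker_mk' (zpowers aY))).symm.trans ?_
        rw [Subgroup.relIndex_ker, Subgroup.map_comap_eq_self_of_surjective (QuotientGroup.mk'_surjective _)]
      rw [← hidx, Subgroup.IsComplement'.index_eq_card hK] at hNodd
      exact hNodd
    -- odd elements of the preimage are in the complement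
    have hmemJ : ∀ u : Y, q u ∈ N → ∃ k : Y, (k : G) ∈ J ∧ q k = q u := by
      intro u hu
      obtain ⟨⟨k, t⟩, hkt⟩ := hK.2 ⟨u, hu⟩
      refine ⟨(k : N.comap q), ⟨_, ⟨(k : N.comap q), k.2, rfl⟩, rfl⟩, ?_⟩
      have h1 : (((k : N.comap q) : Y)) * (((t : N.comap q) : Y)) = u := congrArg Subtype.val hkt
      rw [← h1, map_mul, show q ((t : N.comap q) : Y) = 1 from
        (QuotientGroup.eq_one_iff _).2 (Subgroup.mem_subgroupOf.1 t.2), mul_one]
    -- an odd order element with the same image is fixed by conjugation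
    have hJ : J = ⊥ := by
      have hnorm : ∀ w : G, w * a = a * w → ∀ n ∈ J, w * n * w⁻¹ ∈ J := by
        intro w hw n hn
        obtain ⟨_, ⟨k, hk, rfl⟩, rfl⟩ := hn
        have hwY : w ∈ Y := mem_centralizer_singleton_iff.2 hw
        let wY : Y := ⟨w, hwY⟩
        obtain ⟨k', hk', hq⟩ := hmemJ (wY * (k : Y) * wY⁻¹) (by
          rw [map_mul, map_mul, map_inv]
          exact hNn.conj_mem _ k.2 _)
        have hd : q (k'⁻¹ * (wY * (k : Y) * wY⁻¹)) = 1 := by rw [map_mul, map_inv, hq, inv_mul_cancel]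
        rcases hcases _ hd with h | h
        · have : k' = wY * (k : Y) * wY⁻¹ := inv_mul_eq_one.1 (Subtype.ext h)
          rw [this] at hk'
          exact hk'
        · exfalso
          have h1 : w * ((k : Y) : G) * w⁻¹ = (k' : G) * a := by
            rw [show (k' : G) * a = (k' : G) * ((k' : G)⁻¹ * (w * ((k : Y) : G) * w⁻¹)) from
              congrArg ((k' : G) * ·) h.symm]
            group
          have ho1 : Odd (orderOf (w * ((k : Y) : G) * w⁻¹)) := by
            rw [orderOf_conj]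
            have hmem : ((k : Y) : G) ∈ J := ⟨_, ⟨k, hk, rfl⟩, rfl⟩
            exact (hJc ▸ hKodd).of_dvd_nat (Subgroup.orderOf_dvd_natCard _ hmem)
          have ho2 : Odd (orderOf (k' : G)) :=
            (hJc ▸ hKodd).of_dvd_nat (Subgroup.orderOf_dvd_natCard _ hk')
          obtain ⟨r, hr⟩ := (ho1.mul ho2)
          have hcomm : Commute (k' : G) a := mem_centralizer_singleton_iff.1 k'.2
          have hp : (w * ((k : Y) : G) * w⁻¹) ^ (orderOf (w * ((k : Y) : G) * w⁻¹) * orderOf (k' : G)) = 1 := by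
            rw [pow_mul, pow_orderOf_eq_one, one_pow]
          have hp' : (k' : G) ^ (orderOf (w * ((k : Y) : G) * w⁻¹) * orderOf (k' : G)) = 1 := by
            rw [mul_comm, pow_mul, pow_orderOf_eq_one, one_pow]
          conv_lhs at hp => arg 1; rw [h1]
          rw [hcomm.mul_pow, hp', one_mul, hr, pow_add, pow_mul, show a ^ 2 = 1 by rw [← ha, pow_orderOf_eq_one],
            one_pow, one_mul, pow_one] at hp
          rw [hp, orderOf_one] at ha
          omega
      have hcent : ∀ w : G, IsPGroup 2 ↥(centralizer ({w, a} : Set G)) → ∀ n ∈ J, w * n = n * w → n = 1 := by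
        intro w hw n hn hwn
        have hna : n * a = a * n := by
          obtain ⟨t, -, rfl⟩ := hn
          exact mem_centralizer_singleton_iff.1 t.2
        have hmem : n ∈ centralizer ({w, a} : Set G) := by
          refine mem_centralizer_iff.2 ?_
          rintro u (rfl | rfl)
          exacts [hwn, hna.symm]
        obtain ⟨j, hj⟩ := hw ⟨n, hmem⟩
        have h2 : orderOf n ∣ 2 ^ j := orderOf_dvd_of_pow_eq_one (congrArg Subtype.val hj)
        have h3 : orderOf n ∣ Nat.card J := Subgroup.orderOf_dvd_natCard _ hn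
        have h4 : Nat.Coprime (2 ^ j) (Nat.card J) :=
          Nat.Coprime.pow_left _ (Nat.coprime_two_left.2 (hJc ▸ hKodd))
        exact orderOf_eq_one_iff.1 (Nat.eq_one_of_dvd_coprimes h4 h2 h3)
      exact odd_eq_bot (hJc ▸ hKodd) hz hz' (hnorm z hza) (hnorm z' hz'a) (hcent z h2z) (hcent z' h2z')
        (hcent (z * z') h2zz')
    obtain ⟨k, hk, hke⟩ := hmemJ y hm
    rw [hJ, mem_bot] at hk
    rw [← hke, show k = 1 from Subtype.ext hk, map_one]
  intro g hg
  have h1 := hNc (q ⟨g, mem_centralizer_singleton_iff.2 hg⟩)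
  rw [hN, mem_bot] at h1
  rw [← map_inv, ← map_mul, ← map_inv, ← map_mul, ← map_mul] at h1
  rcases hcases _ h1 with h | h
  · left
    change x * g * x⁻¹ * g⁻¹ = 1 at h
    rw [mul_inv_eq_one, mul_inv_eq_iff_eq_mul] at h
    rw [← h, mul_inv_cancel_right]
  · right
    change x * g * x⁻¹ * g⁻¹ = a at h
    rw [mul_inv_eq_iff_eq_mul, mul_inv_eq_iff_eq_mul] at h
    have hxi : x⁻¹ = x := inv_eq_of_mul_eq_one_right (by rw [← pow_two, ← hx, pow_orderOf_eq_one])
    calc g * x * g⁻¹ = a⁻¹ * (a * g * x) * g⁻¹ := by group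
      _ = a⁻¹ * (x * g) * g⁻¹ := by rw [h]
      _ = a⁻¹ * x := by group
      _ = a * x := by rw [inv_eq_of_mul_eq_one_right (show a * a = 1 by rw [← pow_two, ← ha, pow_orderOf_eq_one])]

/-- A subgroup containing both centralizers is everything. -/
theorem eq_top {H : Subgroup G} {w a : G} (hw2 : orderOf w = 2) (ha2 : orderOf a = 2)
    (hne : ¬ IsConj w a) (hw : centralizer ({w} : Set G) ≤ H) (ha : centralizer ({a} : Set G) ≤ H)
    (hloc : ∀ x ∈ centralizer ({w} : Set G), orderOf x = 2 → ∃ h ∈ H, h * x * h⁻¹ = w ∨ h * x * h⁻¹ = a)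
    (hsyl : ∀ P : Subgroup G, IsPGroup 2 P → P ≤ H → ∃ h ∈ H, ∀ x ∈ P, h * x * h⁻¹ ∈ centralizer ({w} : Set G)) :
    H = ⊤ := by
  classical
  haveI : Fact (Nat.Prime 2) := ⟨Nat.prime_two⟩
  by_contra htop
  have hwH : w ∈ H := hw (mem_centralizer_singleton_iff.2 rfl)
  have hev : Even (Nat.card H) := by
    rw [even_iff_two_dvd, ← hw2]
    exact Subgroup.orderOf_dvd_natCard _ hwH
  have hclass : ∀ t ∈ H, orderOf t = 2 → ∃ h ∈ H, h * t * h⁻¹ = w ∨ h * t * h⁻¹ = a := by
    intro t ht ht2
    obtain ⟨h, hh, hP⟩ := hsyl (zpowers t) (IsPGroup.of_card (n := 1) (by rw [Nat.card_zpowers, ht2, pow_one]))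
      (zpowers_le.2 ht)
    obtain ⟨k, hk, hkc⟩ := hloc _ (hP t (mem_zpowers t)) (by rw [orderOf_conj, ht2])
    refine ⟨k * h, mul_mem hk hh, ?_⟩
    rwa [show k * h * t * (k * h)⁻¹ = k * (h * t * h⁻¹) * k⁻¹ by group]
  have hse : Cfsg.IsStronglyEmbedded H := by
    refine Cfsg.Agent.Involutions.StronglyEmbedded.of_conj htop hev fun t ht ht2 g hg => ?_
    obtain ⟨h, hh, hht⟩ := hclass t ht ht2
    obtain ⟨k, hk, hkt⟩ := hclass _ hg (by rw [orderOf_conj, ht2])
    have key : ∀ v : G, centralizer ({v} : Set G) ≤ H → h * t * h⁻¹ = v → k * (g * t * g⁻¹) * k⁻¹ = v → g ∈ H := by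
      intro v hv h1 h2
      have h3 : k * g * h⁻¹ ∈ centralizer ({v} : Set G) := by
        rw [mem_centralizer_singleton_iff, ← mul_inv_eq_iff_eq_mul]
        calc k * g * h⁻¹ * v * (k * g * h⁻¹)⁻¹ = k * g * h⁻¹ * (h * t * h⁻¹) * (k * g * h⁻¹)⁻¹ := by rw [h1]
          _ = k * (g * t * g⁻¹) * k⁻¹ := by group
          _ = v := h2
      rw [show g = k⁻¹ * (k * g * h⁻¹) * h by group]
      exact mul_mem (mul_mem (inv_mem hk) (hv h3)) hh
    rcases hht with e1 | e1 <;> rcases hkt with e2 | e2
    · exact key w hw e1 e2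
    · exfalso
      refine hne (isConj_iff.2 ⟨k * g * h⁻¹, ?_⟩)
      calc k * g * h⁻¹ * w * (k * g * h⁻¹)⁻¹ = k * g * h⁻¹ * (h * t * h⁻¹) * (k * g * h⁻¹)⁻¹ := by rw [e1]
        _ = k * (g * t * g⁻¹) * k⁻¹ := by group
        _ = a := e2
    · exfalso
      refine hne (IsConj.symm (isConj_iff.2 ⟨k * g * h⁻¹, ?_⟩))
      calc k * g * h⁻¹ * a * (k * g * h⁻¹)⁻¹ = k * g * h⁻¹ * (h * t * h⁻¹) * (k * g * h⁻¹)⁻¹ := by rw [e1]
        _ = k * (g * t * g⁻¹) * k⁻¹ := by group
        _ = w := e2
    · exact key a ha e1 e2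
  exact hne (Cfsg.Agent.Involutions.StronglyEmbedded.isConj_involutions hse hw2 ha2)

end Cfsg.Agent.HeLocal.Finish
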