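import Cfsg.Agent.InvChar.Coset.HeOrder
import Cfsg.Agent.InvChar.Coset.HeCentIso
import Cfsg.Agent.Lib.HeLocal.Finish

/-!
Orders inside the presented Held group, and the criterion for a homomorphism from it to be bijective
without knowing the order of the target.
-/

set_option autoImplicit false
set_option maxRecDepth 100000
set_option linter.unusedSectionVars false

namespace Cfsg.Agent.HeLocal.HeFacts

open Subgroup Cfsg.Agent.CosetCert
open Cfsg.Agent.InvChar.Coset (He.data He.table He.relCde He.gen_relCde He.simple_and_card He120.closed He672.closed HeNine.closed)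

/-- The generators, numbered in the order a, b, c, d, e, f, g. -/
noncomputable abbrev gen (i : ℕ) : Cfsg.Spor.He := He.data.gen i

/-- The subgroup on all generators but the second. -/
noncomputable abbrev five : Subgroup Cfsg.Spor.He := subg gen [0, 2, 3, 4, 5, 6]

theorem card_five : Nat.card five = 80640 := by
  have hV := He.gen_relCde
  have h0 : Bdd (subg He.data.gen ([].map (nthNat [0, 2, 3, 4]))) 1 := bdd_subg_nil He.data.gen
  have h1 := bdd_subg He120.closed He.data.gen He.data.gen_sq He.relCde hV [0, 2, 3, 4] [] (by decide +kernel)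
    (by decide +kernel) (by decide +kernel) (by decide +kernel) (by decide +kernel) h0
  have h2 := bdd_subg He672.closed He.data.gen He.data.gen_sq He.relCde hV [0, 2, 3, 4, 5, 6] [0, 1, 2, 3]
    (by decide +kernel) (by decide +kernel) (by decide +kernel) (by decide +kernel) (by decide +kernel) h1
  have hn1 : InvChar.Coset.He120.table.n = 120 := by decide +kernel
  have hn2 : InvChar.Coset.He672.table.n = 672 := by decide +kernel
  have hn3 : InvChar.Coset.HeNine.table.n = 49980 := by decide +kernel
  have hB : Bdd five (Nat.card five) := ⟨h2.1, le_rfl⟩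
  have h3 := bdd_subg HeNine.closed He.data.gen He.data.gen_sq He.relCde hV [0, 1, 2, 3, 4, 5, 6] [0, 2, 3, 4, 5, 6]
    (by decide +kernel) (by decide +kernel) (by decide +kernel) (by decide +kernel) (by decide +kernel) hB
  have hl : ∀ x < He.table.C.K, x ∈ [0, 1, 2, 3, 4, 5, 6] := by decide +kernel
  have ht := (Bdd.top_of_gen He.data.gen_top hl h3).2
  have hu := h2.2
  rw [Subgroup.card_top, He.simple_and_card.2, hn3] at ht
  rw [hn1, hn2] at hu
  change Nat.card five ≤ _ at hu
  omega

theorem card_centralizer : Nat.card (centralizer ({gen 3} : Set Cfsg.Spor.He)) = 21504 := by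
  open InvChar.Coset.HeCent in
  have hz : (gen 3 : Cfsg.Spor.He) = z := by
    show He.data.gen 3 = He.data.gen 3 * 1
    rw [mul_one]
  open InvChar.Coset.HeCent in
  exact le_antisymm (hz ▸ card_Cz) (by
    haveI := InvChar.Coset.HeSymp.finite_He
    have h2 : 21504 ≤ Nat.card PC :=
      snd_card.trans (Nat.card_le_card_of_surjective _
        ((MonoidHom.snd InvChar.Coset.HeSymp.HeG SL5).comp PC.subtype).rangeRestrict_surjective)
    let f : PC → Cz := fun p => ⟨((MonoidHom.fst InvChar.Coset.HeSymp.HeG SL5).comp PC.subtype) p, fst_le ⟨p, rfl⟩⟩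
    have hf : Function.Injective f := fun a b h => PC_fst_injective (congrArg Subtype.val h)
    rw [hz]
    exact h2.trans (Nat.card_le_card_of_injective f hf))

variable {G : Type*} [Group G] [Finite G]

/-- A homomorphism not killing the involution is injective. -/
theorem injective (φ : Cfsg.Spor.He →* G) (h : φ (gen 3) ≠ 1) : Function.Injective φ := by
  haveI := He.simple_and_card.1
  rcases IsSimpleGroup.eq_bot_or_eq_top_of_normal φ.ker inferInstance with hk | hk
  · exact (MonoidHom.ker_eq_bot_iff φ).mp hk
  · exact absurd (MonoidHom.mem_ker.mp (hk ▸ mem_top (gen 3))) h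

theorem centralizer_le_range (φ : Cfsg.Spor.He →* G) (h : φ (gen 3) ≠ 1)
    (hC : Nat.card (centralizer ({φ (gen 3)} : Set G)) = 21504) :
    centralizer ({φ (gen 3)} : Set G) ≤ φ.range := by
  have hle : (centralizer ({gen 3} : Set Cfsg.Spor.He)).map φ ≤ centralizer ({φ (gen 3)} : Set G) := by
    rintro _ ⟨y, hy, rfl⟩
    rw [mem_centralizer_singleton_iff, ← map_mul, ← map_mul, mem_centralizer_singleton_iff.1 hy]
  rw [← Subgroup.eq_of_le_of_card_ge hle (by
    rw [hC, Subgroup.card_map_of_injective (injective φ h), card_centralizer])]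
  exact map_le_range φ _

/-- If the centralizer of the four group is the image of the five-generator subgroup it lies in the range. -/
theorem four_le_range (φ : Cfsg.Spor.He →* G) (h : φ (gen 3) ≠ 1) {K : Subgroup G} (hK : Nat.card K = 80640)
    (hle : ∀ i ∈ ([0, 2, 3, 4, 5, 6] : List ℕ), φ (gen i) ∈ K) : K ≤ φ.range := by
  have hle' : five.map φ ≤ K := by
    rw [Subgroup.map_le_iff_le_comap]
    refine (Subgroup.closure_le _).2 ?_
    rintro _ ⟨i, hi, rfl⟩
    exact hle i hi
  rw [← Subgroup.eq_of_le_of_card_ge hle' (by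
    rw [hK, Subgroup.card_map_of_injective (injective φ h), card_five])]
  exact map_le_range φ _

/-- Every 2-subgroup of the range is conjugate in it into the centralizer of the involution. -/
theorem sylow_range (φ : Cfsg.Spor.He →* G) (h : φ (gen 3) ≠ 1) (P : Subgroup G) (hP : IsPGroup 2 P)
    (hle : P ≤ φ.range) : ∃ k ∈ φ.range, ∀ x ∈ P, k * x * k⁻¹ ∈ centralizer ({φ (gen 3)} : Set G) := by
  haveI : Fact (Nat.Prime 2) := ⟨Nat.prime_two⟩
  haveI := InvChar.Coset.HeSymp.finite_He
  have hinj := injective φ h
  obtain ⟨S, hPS⟩ := (hP.comap_of_injective φ hinj).exists_le_sylow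
  let T : Sylow 2 (centralizer ({gen 3} : Set Cfsg.Spor.He)) := default
  have hTc : Nat.card ((T : Subgroup (centralizer ({gen 3} : Set Cfsg.Spor.He))).map
      (centralizer ({gen 3} : Set Cfsg.Spor.He)).subtype) = 2 ^ (Nat.card Cfsg.Spor.He).factorization 2 := by
    rw [Subgroup.card_map_of_injective (centralizer ({gen 3} : Set Cfsg.Spor.He)).subtype_injective,
      T.card_eq_multiplicity, card_centralizer, He.simple_and_card.2]
    congr 1
    have h1 : (21504 : ℕ).factorization 2 = 10 := by
      rw [show (21504 : ℕ) = 2 ^ 10 * 21 by norm_num, Nat.factorization_mul (by norm_num) (by norm_num),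
        Finsupp.add_apply, Nat.Prime.factorization_pow Nat.prime_two, Finsupp.single_eq_same,
        Nat.factorization_eq_zero_of_not_dvd (by norm_num)]
    have h2 : (4030387200 : ℕ).factorization 2 = 10 := by
      rw [show (4030387200 : ℕ) = 2 ^ 10 * 3935925 by norm_num, Nat.factorization_mul (by norm_num) (by norm_num),
        Finsupp.add_apply, Nat.Prime.factorization_pow Nat.prime_two, Finsupp.single_eq_same,
        Nat.factorization_eq_zero_of_not_dvd (by norm_num)]
    rw [h1, h2]
  obtain ⟨k, hk⟩ := MulAction.exists_smul_eq Cfsg.Spor.He S (Sylow.ofCard _ hTc)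
  refine ⟨φ k, ⟨k, rfl⟩, fun x hx => ?_⟩
  obtain ⟨y, rfl⟩ := hle hx
  have hy : k * y * k⁻¹ ∈ (Sylow.ofCard _ hTc : Sylow 2 Cfsg.Spor.He) := by
    rw [← hk]
    exact Subgroup.smul_mem_pointwise_smul y (MulAut.conj k) _ (hPS hx)
  obtain ⟨c, -, hc⟩ := hy
  rw [mem_centralizer_singleton_iff, ← map_inv, ← map_mul, ← map_mul, ← map_mul, ← map_mul, ← hc]
  exact congrArg φ (mem_centralizer_singleton_iff.1 c.2)

end Cfsg.Agent.HeLocal.HeFacts
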