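import Cfsg.Agent.Lib.HeLocal.Witness
import Cfsg.Agent.Lib.HeLocal.FusionGraph
import Cfsg.Agent.Lib.HeLocal.HeFacts
import Cfsg.Agent.Lib.HeLocal.EndgameData

/-!
# A finite group with the local data of the Held group is the Held group

The generators give a homomorphism from `He`; its range contains the centralizers of the involutions
`z` and `a` of the two classes and is then everything. The order of the group is not used.
-/

set_option autoImplicit false
set_option maxRecDepth 100000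

namespace Cfsg.Agent.HeLocal

open Subgroup

namespace GensHyp

variable {G : Type*} [Group G] {z a x b c f g u : G} (H : GensHyp z a x b c f g u)

include H

/-- A conjugate of `z` in `C(E)` whose product with `a` is not conjugate to `z` moves to `z` inside `C(E)`. -/
theorem move_z [Finite G] {w : G} (hw : w ∈ centralizer ({a, x} : Set G)) (hwz : IsConj z w)
    (hwa : ¬ IsConj z (w * a)) :
    ∃ h ∈ centralizer ({a, x} : Set G), h * z * h⁻¹ = w := by
  have hnE : w ∉ H.plane.E := fun h => by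
    rcases H.plane.mem_E_cases.1 h with e | e | e | e <;> rw [e] at hwz
    · exact H.plane.z_nmem (H.plane.mem_E_cases.2 (Or.inl (isConj_one_left.1 hwz)))
    · exact H.plane.a_t hwz
    · exact H.plane.x_t hwz
    · exact H.plane.ax_t hwz
  have hw2 : w * w = 1 := by
    obtain ⟨k, hk⟩ := isConj_iff.1 hwz
    rw [← hk, show k * z * k⁻¹ * (k * z * k⁻¹) = k * (z * z) * k⁻¹ by group, H.plane.zz]
    group
  let W : H.plane.M := QuotientGroup.mk ⟨w, hw⟩
  have hW : orderOf W = 2 := by
    have : Fact (Nat.Prime 2) := ⟨Nat.prime_two⟩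
    refine orderOf_eq_prime ?_ fun e => hnE (H.plane.mk_eq_one.1 e)
    rw [pow_two, ← QuotientGroup.mk_mul, H.plane.mk_eq_one]
    show w * w ∈ H.plane.E
    rw [hw2]; exact one_mem _
  obtain ⟨k, hk⟩ := isConj_iff.1 (H.plane.isConj_bar hW)
  revert hk
  induction k using QuotientGroup.induction_on with
  | _ k =>
  intro hk
  rw [← QuotientGroup.mk_inv, ← QuotientGroup.mk_mul, ← QuotientGroup.mk_mul] at hk
  have he : ((k : G) * z * (k : G)⁻¹)⁻¹ * w ∈ H.plane.E := by
    have := mem_subgroupOf.1 (QuotientGroup.eq.1 hk)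
    simpa using this
  set v := ((k : G) * z * (k : G)⁻¹)⁻¹ * w with hv
  have hwv : w = (k : G) * z * (k : G)⁻¹ * v := by rw [hv, mul_inv_cancel_left]
  obtain ⟨kA, -⟩ := H.plane.mem_cent.1 k.2
  have haE : a ∈ H.plane.E := Or.inr (Or.inl rfl)
  have hinv : v⁻¹ = v := by
    rcases H.plane.mem_E_cases.1 he with e | e | e | e <;> rw [e]
    · exact inv_one
    · exact inv_eq_of_mul_eq_one_right H.plane.aa
    · exact inv_eq_of_mul_eq_one_right H.plane.xx
    · rw [mul_inv_rev, inv_eq_of_mul_eq_one_right H.plane.aa, inv_eq_of_mul_eq_one_right H.plane.xx, H.plane.ax]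
  have h1 : v * a = a := by
    have h2 : ¬ IsConj z (w * (v * a)) := fun h => H.plane.za_t (by
      refine h.trans (IsConj.symm (isConj_iff.2 ⟨(k : G), ?_⟩))
      calc (k : G) * (z * a) * (k : G)⁻¹ = k * z * (k : G)⁻¹ * ((k : G) * a * (k : G)⁻¹) := by group
        _ = w * v⁻¹ * ((k : G) * a * (k : G)⁻¹) := by rw [hwv, mul_inv_cancel_right]
        _ = w * (v * a) := by rw [kA, mul_inv_cancel_right, hinv, mul_assoc])
    exact H.t_unique hw hnE (by rw [hw2]; exact one_mem _) (mul_mem he haE) haE h2 hwa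
  refine ⟨k, k.2, ?_⟩
  rw [mul_eq_right] at h1
  rw [hwv, h1, mul_one]

end GensHyp

namespace Setting

open Code

variable {G : Type*} [Group G] [Finite G] {z : G} (S : Setting z)

theorem emb_comm (m : Mdl) : S.emb m * z = z * S.emb m := mem_centralizer_singleton_iff.1 (S.e m).2

include S in
theorem z_sq : z * z = 1 := by
  rw [← S.emb_zc, ← map_mul, (show IsInv zc from isInv_rep (i := 0) (by norm_num)).1, map_one]

include S in
theorem z_ne_one : z ≠ 1 := fun e => (show IsInv zc from isInv_rep (i := 0) (by norm_num)).2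
  (S.emb_injective (by rw [S.emb_zc, map_one]; exact e))

theorem conj_iff' {m : Mdl} (h : zT (code m) = true) : IsConj z (S.emb m) := by
  simp only [zT, Bool.and_eq_true, Bool.not_eq_true', Bool.or_eq_false_iff] at h
  refine (S.conj_iff (isInv_iff.2 h.1)).2 ⟨?_, ?_⟩
  · intro e; rw [show tagc (code m) = 3 from e] at h; simp at h
  · intro e; rw [show tagc (code m) = 5 from e] at h; simp at h

theorem not_conj {m : Mdl} (h : tT (code m) = true) : ¬ IsConj z (S.emb m) := by
  simp only [tT, Bool.and_eq_true, Bool.or_eq_true] at h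
  intro hc
  obtain ⟨h3, h5⟩ := (S.conj_iff (isInv_iff.2 h.1)).1 hc
  rcases h.2 with e | e
  · exact h3 (Nat.eq_of_beq_eq_true e)
  · exact h5 (Nat.eq_of_beq_eq_true e)

include S in
/-- Every involution of `C(z)` is conjugate to `z` or `a` inside every subgroup containing `C(z)` and `C(⟨a, x⟩)`. -/
theorem local_two {H : Subgroup G} (hC : centralizer ({z} : Set G) ≤ H)
    (hE : centralizer ({S.emb Wit.a, S.emb Wit.x} : Set G) ≤ H) {x : G}
    (hx : x ∈ centralizer ({z} : Set G)) (hx2 : orderOf x = 2) :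
    ∃ h ∈ H, h * x * h⁻¹ = z ∨ h * x * h⁻¹ = S.emb Wit.a := by
  obtain ⟨hW, hall, ⟨w5, hw5, hw5t⟩, hza⟩ := cW_ok
  have move : ∀ w ∈ cW, IsInv (el w) ∧ code (el w) = w ∧
      ∃ h ∈ H, h * z * h⁻¹ = S.emb (el w) ∧ h * S.emb Wit.a * h⁻¹ = S.emb Wit.a := by
    intro w hw
    have h0 := List.all_eq_true.1 hW w hw
    simp only [Bool.and_eq_true] at h0
    obtain ⟨⟨⟨⟨hk, hz⟩, ha⟩, hxx⟩, ht⟩ := h0
    have hc : code (el w) = w := code_el hk
    have hi : IsInv (el w) := by
      simp only [zT, Bool.and_eq_true] at hz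
      exact isInv_iff.2 (by rw [hc]; exact hz.1)
    refine ⟨hi, hc, ?_⟩
    have hmem : S.emb (el w) ∈ centralizer ({S.emb Wit.a, S.emb Wit.x} : Set G) := by
      rw [mem_centralizer_iff]
      rintro v (rfl | rfl)
      · rw [← map_mul, ← map_mul, (Wit.cm_iff.1 (by rw [hc, Wit.code_a]; exact ha) : el w * Wit.a = Wit.a * el w)]
      · rw [← map_mul, ← map_mul, (Wit.cm_iff.1 (by rw [hc, Wit.code_x]; exact hxx) : el w * Wit.x = Wit.x * el w)]
    obtain ⟨h, hh, hhe⟩ := S.gensHyp.move_z hmem (S.conj_iff' (by rw [hc]; exact hz)) (by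
      rw [← map_mul]
      exact S.not_conj (by rw [code_mul, hc, Wit.code_a]; exact ht))
    refine ⟨h, hE hh, hhe, ?_⟩
    rw [mul_inv_eq_iff_eq_mul]
    exact ((mem_centralizer_iff.1 hh) _ (Or.inl rfl)).symm
  have same : ∀ {p q : Mdl}, IsInv p → IsInv q → tag p = tag q → ∃ h ∈ H, h * S.emb p * h⁻¹ = S.emb q := by
    intro p q hp hq he
    obtain ⟨k, hk⟩ := exists_conj_of_tag_eq hp hq he
    exact ⟨S.emb k, hC (S.e k).2, by rw [← hk, map_mul, map_mul, map_inv]⟩
  obtain ⟨m, rfl⟩ := S.exists_emb (mem_centralizer_singleton_iff.1 hx)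
  have hm : IsInv m := by
    refine ⟨S.emb_injective ?_, fun e => ?_⟩
    · have h := pow_orderOf_eq_one (S.emb m)
      rw [hx2, pow_two] at h
      rw [map_mul, map_one]
      exact h
    · rw [e, map_one, orderOf_one] at hx2
      omega
  have hA : IsInv Wit.a := isInv_iff.2 (by rw [Wit.code_a]; exact wit_tags.2.2.2.1)
  have hA3 : tag Wit.a = 3 := by
    show tagc (code Wit.a) = 3
    rw [Wit.code_a]; exact wit_tags.1
  have hZA : tag (zc * Wit.a) = 3 := by
    show tagc (code (zc * Wit.a)) = 3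
    rw [code_mul, Wit.code_zc, Wit.code_a]; exact Nat.eq_of_beq_eq_true hza
  have hZAi : IsInv (zc * Wit.a) := by
    refine ⟨S.emb_injective ?_, fun e => ?_⟩
    · rw [map_mul, map_mul, map_one, S.emb_zc,
        show z * S.emb Wit.a * (z * S.emb Wit.a) = z * (S.emb Wit.a * z) * S.emb Wit.a by group,
        S.emb_comm, show z * (z * S.emb Wit.a) * S.emb Wit.a = z * z * (S.emb Wit.a * S.emb Wit.a) by group,
        ← map_mul, hA.1, map_one, S.z_sq, one_mul]
    · rw [e, tag, code_one, show tagc Cfsg.Agent.InvChar.Coset.HeCent.idP = 0 by decide +kernel] at hZA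
      omega
  rcases (show tag m = 3 ∨ tag m = 5 ∨ (tag m ≠ 3 ∧ tag m ≠ 5) by omega) with e | e | ⟨e3, e5⟩
  · obtain ⟨h, hh, he⟩ := same hm hA (e.trans hA3.symm)
    exact ⟨h, hh, Or.inr he⟩
  · obtain ⟨hi, hc, h, hh, hhz, hha⟩ := move w5 hw5
    have ht : tT (mulF w5 cA) = true := ((Bool.and_eq_true_iff.1 (List.all_eq_true.1 hW w5 hw5)).2)
    simp only [tT, Bool.and_eq_true] at ht
    have hwa : IsInv (el w5 * Wit.a) := isInv_iff.2 (by rw [code_mul, hc, Wit.code_a]; exact ht.1)
    have hwt : tag (el w5 * Wit.a) = 5 := by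
      show tagc (code (el w5 * Wit.a)) = 5
      rw [code_mul, hc, Wit.code_a]; exact Nat.eq_of_beq_eq_true hw5t
    obtain ⟨k, hk, hke⟩ := same hm hwa (e.trans hwt.symm)
    obtain ⟨l, hl, hle⟩ := same hZAi hA (hZA.trans hA3.symm)
    refine ⟨l * h⁻¹ * k, mul_mem (mul_mem hl (inv_mem hh)) hk, Or.inr ?_⟩
    rw [show l * h⁻¹ * k * S.emb m * (l * h⁻¹ * k)⁻¹ = l * (h⁻¹ * (k * S.emb m * k⁻¹) * h) * l⁻¹ by group,
      hke, ← hle, map_mul, map_mul, S.emb_zc]
    congr 2
    rw [← hhz]
    conv_lhs => arg 1; arg 2; arg 2; rw [← hha]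
    group
  · rcases hall (tag m) (tag_lt hm) with h | h | h
    · exact absurd h e3
    · exact absurd h e5
    rw [List.any_eq_true] at h
    obtain ⟨w, hw, hwt⟩ := h
    obtain ⟨hi, hc, h, hh, hhz, -⟩ := move w hw
    obtain ⟨k, hk, hke⟩ := same hm hi (by
      show tag m = tagc (code (el w))
      rw [hc]; exact (Nat.eq_of_beq_eq_true hwt).symm)
    refine ⟨h⁻¹ * k, mul_mem (inv_mem hh) hk, Or.inl ?_⟩
    rw [show h⁻¹ * k * S.emb m * (h⁻¹ * k)⁻¹ = h⁻¹ * (k * S.emb m * k⁻¹) * h by group, hke, ← hhz]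
    group

theorem za_cent : centralizer ({z, S.emb Wit.a} : Set G) = (centralizer ({Wit.a} : Set Mdl)).map S.emb := by
  ext w
  rw [mem_map]
  constructor
  · intro hw
    simp only [mem_centralizer_iff, Set.mem_insert_iff, Set.mem_singleton_iff, forall_eq_or_imp, forall_eq] at hw
    obtain ⟨m, rfl⟩ := S.exists_emb hw.1.symm
    refine ⟨m, mem_centralizer_singleton_iff.2 (S.emb_injective ?_), rfl⟩
    rw [map_mul, map_mul]
    exact hw.2.symm
  · rintro ⟨m, hm, rfl⟩
    simp only [mem_centralizer_iff, Set.mem_insert_iff, Set.mem_singleton_iff, forall_eq_or_imp, forall_eq]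
    exact ⟨(S.emb_comm m).symm, by rw [← map_mul, ← map_mul, mem_centralizer_singleton_iff.1 hm]⟩

theorem za_pgroup : IsPGroup 2 ↥(centralizer ({z, S.emb Wit.a} : Set G)) := by
  have hi : IsInv Wit.a := isInv_iff.2 (by rw [Wit.code_a]; exact wit_tags.2.2.2.1)
  have ht : tag Wit.a = 3 := by
    show tagc (code Wit.a) = 3
    rw [Wit.code_a]; exact wit_tags.1
  have h := card_cent hi
  rw [ht, show sizes.getD 3 0 = 42 from rfl] at h
  refine IsPGroup.of_card (n := 9) ?_
  rw [za_cent S, card_map_of_injective S.emb_injective]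
  norm_num
  omega

/-- Conjugating the first involution inside `C(a)` keeps the centralizer a 2-group. -/
theorem conj_pgroup {k : G} (hk : k * S.emb Wit.a = S.emb Wit.a * k) {w : G} (hw : k * z * k⁻¹ = w) :
    IsPGroup 2 ↥(centralizer ({w, S.emb Wit.a} : Set G)) := by
  refine IsPGroup.to_le (S.za_pgroup.map (MulAut.conj k).toMonoidHom) fun n hn => ?_
  simp only [mem_centralizer_iff, Set.mem_insert_iff, Set.mem_singleton_iff, forall_eq_or_imp, forall_eq] at hn
  refine ⟨k⁻¹ * n * k, ?_, by simp [mul_assoc]⟩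
  rw [SetLike.mem_coe, mem_centralizer_iff]
  intro v hv
  rcases hv with rfl | rfl
  · calc v * (k⁻¹ * n * k) = k⁻¹ * (k * v * k⁻¹ * n) * k := by group
      _ = k⁻¹ * (n * (k * v * k⁻¹)) * k := by rw [hw, hn.1]
      _ = k⁻¹ * n * k * v := by group
  · have h1 : Commute (S.emb Wit.a) (k⁻¹ * n * k) :=
      ((Commute.inv_right (show Commute (S.emb Wit.a) k from hk.symm)).mul_right hn.2).mul_right hk.symm
    exact h1.eq

theorem za_sylow {P : Subgroup G} (hP : IsPGroup 2 P) (hT : centralizer ({z, S.emb Wit.a} : Set G) ≤ P)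
    (hPa : P ≤ centralizer ({S.emb Wit.a} : Set G)) : P ≤ centralizer ({z, S.emb Wit.a} : Set G) := by
  set T := centralizer ({z, S.emb Wit.a} : Set G) with hTdef
  have : Fact (Nat.Prime 2) := ⟨Nat.prime_two⟩
  by_contra hne
  have : Group.IsNilpotent ↥P := hP.isNilpotent
  have hlt : T.subgroupOf P < ⊤ := lt_top_iff_ne_top.2 fun h => hne (subgroupOf_eq_top.1 h)
  obtain ⟨n, hn, hnT⟩ := SetLike.exists_of_lt (Group.normalizerCondition_of_isNilpotent (T.subgroupOf P) hlt)
  refine hnT (mem_subgroupOf.2 ?_)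
  set nG : G := (n : G) with hnG
  have hna : nG * S.emb Wit.a = S.emb Wit.a * nG := mem_centralizer_singleton_iff.1 (hPa n.2)
  have hback : ∀ t ∈ T, nG⁻¹ * t * nG ∈ T := fun t ht => by
    have h := ((mem_normalizer_iff.1 (inv_mem hn)) ⟨t, hT ht⟩).1 (mem_subgroupOf.2 ht)
    simpa [mem_subgroupOf] using h
  have hzT : z ∈ T := by
    rw [hTdef, mem_centralizer_iff]
    rintro v (rfl | rfl)
    · rfl
    · exact (S.emb_comm Wit.a)
  set w := nG * z * nG⁻¹ with hw
  have hcomm : ∀ t ∈ T, w * t = t * w := fun t ht => by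
    have h := mem_centralizer_iff.1 (hback t ht) z (Or.inl rfl)
    calc w * t = nG * (z * (nG⁻¹ * t * nG)) * nG⁻¹ := by rw [hw]; group
      _ = nG * (nG⁻¹ * t * nG * z) * nG⁻¹ := by rw [h]
      _ = t * w := by rw [hw]; group
  obtain ⟨m, hm⟩ := S.exists_emb (hcomm z hzT)
  have hTm : ∀ p : Mdl, p * Wit.a = Wit.a * p → m * p = p * m := fun p hp => S.emb_injective (by
    rw [map_mul, map_mul, hm]
    refine hcomm _ ?_
    rw [hTdef, za_cent S]
    exact ⟨p, mem_centralizer_singleton_iff.2 hp, rfl⟩)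
  have hok := forall_codes centre_ok m
  have h1 : wcm (code m) cA = true := by
    rw [← Wit.code_a, Wit.cm_iff]
    exact hTm Wit.a rfl
  have h2 : cP.all (fun p => wcm (code m) p) = true := List.all_eq_true.2 fun p hp => by
    obtain ⟨hk, hc⟩ := Bool.and_eq_true_iff.1 (List.all_eq_true.1 cP_ok p hp)
    rw [← code_el hk, ← Wit.code_a, Wit.cm_iff] at hc
    rw [← code_el hk, Wit.cm_iff]
    exact hTm _ hc
  rw [centreOK, h1, h2, Bool.and_self, Bool.not_true, Bool.false_or, Wit.memB_iff] at hok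
  have hwz : IsConj z (S.emb m) := hm.symm ▸ isConj_iff.2 ⟨nG, rfl⟩
  have hne1 : ∀ {p : Mdl}, code m = code p → m = p := fun {p} h => code_inj h
  have hH := S.gensHyp.plane
  simp only [List.mem_cons, List.not_mem_nil, or_false] at hok
  have hmz : S.emb m = z := by
    rcases hok with e | e | e | e
    · rw [← code_one] at e
      rw [hne1 e, map_one] at hwz
      exact absurd (isConj_one_left.1 hwz) S.z_ne_one
    · rw [← Wit.code_zc] at e
      rw [hne1 e, S.emb_zc]
    · rw [← Wit.code_a] at e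
      rw [hne1 e] at hwz
      exact absurd hwz hH.a_t
    · rw [← Wit.code_zc, ← Wit.code_a, ← code_mul] at e
      rw [hne1 e, map_mul, S.emb_zc, S.emb_comm] at hwz
      exact absurd hwz hH.za_t
  rw [hTdef, mem_centralizer_iff]
  rintro v (rfl | rfl)
  · rw [hm, hw, mul_inv_eq_iff_eq_mul] at hmz
    exact hmz.symm
  · exact hna.symm

theorem orbit_x {m : Mdl} (hm : m * Wit.a = Wit.a * m) :
    m * Wit.x * m⁻¹ = Wit.x ∨ m * Wit.x * m⁻¹ = Wit.a * Wit.x := by
  have h := forall_codes orbit_ok m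
  have h1 : wcm (code m) cA = true := by rw [← Wit.code_a]; exact Wit.cm_iff.2 hm
  have e1 : code (m * Wit.x) = mulF (code m) cX := by rw [code_mul, Wit.code_x]
  have e2 : code (Wit.x * m) = mulF cX (code m) := by rw [code_mul, Wit.code_x]
  have e3 : code (Wit.a * Wit.x * m) = mulF (mulF cA cX) (code m) := by
    rw [code_mul, code_mul, Wit.code_x, Wit.code_a]
  rw [orbitOK, h1, Bool.not_true, Bool.false_or, Bool.or_eq_true, ← e1, ← e2, ← e3] at h
  rcases h with h | h
  · left
    have hh : m * Wit.x = Wit.x * m := code_inj (Nat.eq_of_beq_eq_true h)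
    rw [hh, mul_inv_cancel_right]
  · right
    have hh : m * Wit.x = Wit.a * Wit.x * m := code_inj (Nat.eq_of_beq_eq_true h)
    rw [hh, mul_inv_cancel_right]

include S in
/-- The recognition of the Held group. -/
theorem isoHe : Cfsg.Spor.IsoHe G := by
  classical
  have hH := S.gensHyp
  obtain ⟨d, ψ, hψ, hdE, hdz⟩ := hH.exists_hom
  set A := S.emb Wit.a with hA
  set X := S.emb Wit.x with hX
  set F := S.emb Wit.f with hF
  set J := S.emb Wit.g with hJ
  set R := ψ.range with hR
  have hd : ψ (HeFacts.gen 3) = d := by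
    show ψ (InvChar.Coset.He.data.gen (InvChar.Coset.He.idx .d)) = d
    rw [show InvChar.Coset.He.data.gen (InvChar.Coset.He.idx .d) = PresentedGroup.of .d from
      InvChar.Coset.He.data.gen_idx .d, hψ]
    rfl
  have himg : ∀ i, GensHyp.image z A (S.emb Wit.b) (S.emb Wit.c) d F J i ∈ R := fun i => ⟨_, hψ i⟩
  have hdR : d ∈ R := ⟨_, hψ .d⟩
  have hzR : z ∈ R := ⟨_, hψ .e⟩
  have hAR : A ∈ R := ⟨_, hψ .a⟩
  have hFR : F ∈ R := ⟨_, hψ .f⟩
  have hJR : J ∈ R := ⟨_, hψ .g⟩
  have hd1 : d ≠ 1 := fun e => S.z_ne_one (by rw [e] at hdz; exact isConj_one_left.1 hdz)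
  have hrel : ∀ p q : Cfsg.Spor.He.Gen, Cfsg.Spor.coxLabel Cfsg.Spor.He.edges p q = 3 →
      (GensHyp.image z A (S.emb Wit.b) (S.emb Wit.c) d F J p *
        GensHyp.image z A (S.emb Wit.b) (S.emb Wit.c) d F J q) ^ 3 = 1 := by
    intro p q hl
    have h : PresentedGroup.mk (Cfsg.Spor.coxRelators Cfsg.Spor.He.edges ∪ {r | r ∈ Cfsg.Spor.He.extra})
        ((FreeGroup.of p * FreeGroup.of q) ^ Cfsg.Spor.coxLabel Cfsg.Spor.He.edges p q) = 1 :=
      PresentedGroup.one_of_mem (Or.inl ⟨p, InvChar.Coset.He.data.node p, q, InvChar.Coset.He.data.node q, rfl⟩)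
    have h' := congrArg ψ h
    rw [map_pow, map_mul, map_pow, map_mul, map_one, hl] at h'
    rw [← hψ, ← hψ]
    exact h'
  have dd : d * d = 1 := by
    rw [show d = ψ (PresentedGroup.of .d) from (hψ .d).symm, ← map_mul,
      InvChar.Coset.He.data.of_sq, map_one]
  have zz : z * z = 1 := S.z_sq
  -- the conjugacies inside the range
  have conj3 : ∀ {p q : G}, p * p = 1 → q * q = 1 → (p * q) ^ 3 = 1 → p * q * p * (p * q)⁻¹ = q := by
    intro p q pp qq h
    have h' : p * q * p * q * p * q = 1 := by rw [← h]; simp only [pow_succ, pow_zero, one_mul, mul_assoc]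
    rw [mul_inv_rev, inv_eq_of_mul_eq_one_right pp, inv_eq_of_mul_eq_one_right qq, ← mul_assoc,
      eq_inv_of_mul_eq_one_left h', inv_eq_of_mul_eq_one_right qq]
  have hz' : d * z * d * (d * z)⁻¹ = z := conj3 dd zz (hrel .d .e (by decide))
  have hF' : d * F * d * (d * F)⁻¹ = F := conj3 dd hH.ff (hrel .d .f (by decide))
  have hJ' : d * J * d * (d * J)⁻¹ = J := conj3 dd hH.gg (hrel .d .g (by decide))
  have hFz : (d * F) * (d * z)⁻¹ * z * ((d * F) * (d * z)⁻¹)⁻¹ = F := by
    conv_lhs => arg 1; arg 2; rw [← hz']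
    conv_rhs => rw [← hF']
    group
  have hJz : (d * J) * (d * z)⁻¹ * z * ((d * J) * (d * z)⁻¹)⁻¹ = J := by
    conv_lhs => arg 1; arg 2; rw [← hz']
    conv_rhs => rw [← hJ']
    group
  -- the centralizer of `z`
  have hdne : ψ (HeFacts.gen 3) ≠ 1 := hd.symm ▸ hd1
  have hk : d * z ∈ R := mul_mem hdR hzR
  have hCd : centralizer ({d} : Set G) ≤ R := by
    rw [← hd]
    refine HeFacts.centralizer_le_range ψ hdne ?_
    rw [hd, ← card_mdl, Nat.card_congr S.e.toEquiv]
    refine Nat.card_congr (Equiv.subtypeEquiv (MulAut.conj (d * z)).toEquiv fun n => ?_)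
    simp only [mem_centralizer_singleton_iff, MulEquiv.toEquiv_eq_coe, EquivLike.coe_coe, MulAut.conj_apply]
    have key : ∀ {p q r : G}, r * p * r⁻¹ = q → (n * p = p * n ↔ r * n * r⁻¹ * q = q * (r * n * r⁻¹)) := by
      rintro p q r rfl
      rw [show r * n * r⁻¹ * (r * p * r⁻¹) = r * (n * p) * r⁻¹ by group,
        show r * p * r⁻¹ * (r * n * r⁻¹) = r * (p * n) * r⁻¹ by group, mul_left_inj, mul_right_inj]
    exact key hz'
  have hCz : centralizer ({z} : Set G) ≤ R := fun n hn => by
    have h : (d * z)⁻¹ * n * (d * z) ∈ centralizer ({d} : Set G) := by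
      rw [mem_centralizer_singleton_iff]
      calc (d * z)⁻¹ * n * (d * z) * d = (d * z)⁻¹ * (n * (d * z * d * (d * z)⁻¹)) * (d * z) := by group
        _ = (d * z)⁻¹ * ((d * z * d * (d * z)⁻¹) * n) * (d * z) := by
          rw [hz', mem_centralizer_singleton_iff.1 hn]
        _ = d * ((d * z)⁻¹ * n * (d * z)) := by group
    rw [show n = d * z * ((d * z)⁻¹ * n * (d * z)) * (d * z)⁻¹ by group]
    exact mul_mem (mul_mem hk (hCd h)) (inv_mem hk)
  -- the centralizer of the four group
  have hzE : z ∈ centralizer ({A, X} : Set G) := hH.plane.cent3_le hH.plane.z_mem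
  have hFE : F ∈ centralizer ({A, X} : Set G) := hH.plane.cent3_le hH.f_mem
  have hJE : J ∈ centralizer ({A, X} : Set G) := hH.plane.cent3_le hH.g_mem
  have hAE : A ∈ centralizer ({A, X} : Set G) :=
    hH.plane.cent3_le (hH.plane.E_le_cent3 (Or.inr (Or.inl rfl)))
  have hCE : centralizer ({A, X} : Set G) ≤ R := by
    refine HeFacts.four_le_range ψ hdne hH.plane.card_cent ?_
    have key : ∀ p : Cfsg.Spor.He.Gen, p ≠ .b →
        ψ (InvChar.Coset.He.data.gen (InvChar.Coset.He.idx p)) ∈ centralizer ({A, X} : Set G) := by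
      intro p hp
      rw [show InvChar.Coset.He.data.gen (InvChar.Coset.He.idx p) = PresentedGroup.of p from
        InvChar.Coset.He.data.gen_idx p, hψ]
      cases p
      exacts [hAE, absurd rfl hp, hH.plane.cent3_le hH.c_mem, hdE, hzE, hFE, hJE]
    intro i hi
    fin_cases hi
    exacts [key .a (by decide), key .c (by decide), key .d (by decide), key .e (by decide), key .f (by decide),
      key .g (by decide)]
  -- the centralizer of `a`
  set k := d * F * (d * z)⁻¹ with hkdef
  have hkA : k * A = A * k := by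
    obtain ⟨hdA, -⟩ := hH.plane.mem_cent.1 hdE
    have h1 : Commute d A := hdA
    have h2 : Commute z A := hH.plane.za
    have h3 : Commute F A := hH.af.symm
    exact ((h1.mul_left h3).mul_left (h1.mul_left h2).inv_left).eq
  have hJA : (J * k) * A = A * (J * k) := ((show Commute J A from hH.ag.symm).mul_left hkA).eq
  have hzF : F * z = z * F := S.emb_comm Wit.f
  have hGzF : J * k * z * (J * k)⁻¹ = z * F := by
    have e : J * F * J = F * z := by
      have h : Wit.g * Wit.f * Wit.g = Wit.f * zc := code_inj (by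
        simp only [code_mul, Wit.code_f, Wit.code_g, Wit.code_zc]
        exact wit_tags.2.2.2.2.2.2.1)
      have h' := congrArg S.emb h
      rwa [map_mul, map_mul, map_mul, S.emb_zc] at h'
    calc J * k * z * (J * k)⁻¹ = J * (k * z * k⁻¹) * J⁻¹ := by group
      _ = J * F * J := by rw [hFz, inv_eq_of_mul_eq_one_right hH.gg]
      _ = z * F := by rw [e, hzF]
  have hao : orderOf A = 2 := by
    have : Fact (Nat.Prime 2) := ⟨Nat.prime_two⟩
    exact orderOf_eq_prime (by rw [pow_two]; exact hH.plane.aa) hH.plane.a_ne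
  have hxo : orderOf X = 2 := by
    have : Fact (Nat.Prime 2) := ⟨Nat.prime_two⟩
    exact orderOf_eq_prime (by rw [pow_two]; exact hH.plane.xx) hH.plane.x_ne
  have hfour : ∀ n : G, n * A = A * n → n * X * n⁻¹ = X ∨ n * X * n⁻¹ = A * X := by
    refine Finish.normalizes_four hao hxo hH.plane.ax hH.plane.za hH.plane.zx hH.af.symm zz hH.ff hzF.symm
      S.za_pgroup (S.conj_pgroup hkA hFz) (S.conj_pgroup hJA hGzF) (fun P => S.za_sylow) ?_
    intro n hn hnX
    obtain ⟨hzx', hax'⟩ : z * (n * X * n⁻¹) = n * X * n⁻¹ * z ∧ A * (n * X * n⁻¹) = n * X * n⁻¹ * A := by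
      simpa only [mem_centralizer_iff, Set.mem_insert_iff, Set.mem_singleton_iff, forall_eq_or_imp, forall_eq]
        using hnX
    set w := n⁻¹ * z * n with hw
    have hnA : n⁻¹ * A * n = A := by
      conv_lhs => rw [← hn]
      group
    have hwE : w ∈ centralizer ({A, X} : Set G) := hH.plane.mem_cent.2 ⟨by
      calc w * A = n⁻¹ * z * n * (n⁻¹ * A * n) := by rw [hw, hnA]
        _ = n⁻¹ * (z * A) * n := by group
        _ = n⁻¹ * A * n * (n⁻¹ * z * n) := by rw [hH.plane.za]; group
        _ = A * w := by rw [hnA], by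
      calc w * X = n⁻¹ * (z * (n * X * n⁻¹)) * n := by rw [hw]; group
        _ = n⁻¹ * (n * X * n⁻¹ * z) * n := by rw [hzx']
        _ = X * w := by rw [hw]; group⟩
    have hwz : IsConj z w := isConj_iff.2 ⟨n⁻¹, by rw [hw, inv_inv]⟩
    have hwa : ¬ IsConj z (w * A) := fun h => hH.plane.za_t (h.trans (isConj_iff.2 ⟨n, by
      calc n * (w * A) * n⁻¹ = z * (n * A * n⁻¹) := by rw [hw]; group
        _ = z * A := by rw [hn]⟩))
    obtain ⟨h, hh, hhw⟩ := hH.move_z hwE hwz hwa
    obtain ⟨hhA, hhX⟩ := hH.plane.mem_cent.1 hh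
    have hnh : (n * h) * z * (n * h)⁻¹ = z := by
      calc n * h * z * (n * h)⁻¹ = n * (h * z * h⁻¹) * n⁻¹ := by group
        _ = z := by rw [hhw, hw]; group
    obtain ⟨m, hm⟩ := S.exists_emb (mul_inv_eq_iff_eq_mul.1 hnh)
    have hmA : m * Wit.a = Wit.a * m := S.emb_injective (by
      rw [map_mul, map_mul, hm]
      exact (Commute.mul_left (show Commute n A from mul_inv_eq_iff_eq_mul.1 hn) hhA).eq)
    have hconj : n * h * X * (n * h)⁻¹ = n * X * n⁻¹ := by
      calc n * h * X * (n * h)⁻¹ = n * (h * X * h⁻¹) * n⁻¹ := by group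
        _ = _ := by rw [hhX, mul_inv_cancel_right]
    rw [← hconj, ← hm]
    rcases orbit_x hmA with e | e
    · left
      rw [hX, ← map_inv, ← map_mul, ← map_mul, e]
    · right
      rw [hA, hX, ← map_inv, ← map_mul, ← map_mul, ← map_mul, e]
  have hCa : centralizer ({A} : Set G) ≤ R := by
    intro n hn
    have hnA := mem_centralizer_singleton_iff.1 hn
    rcases hfour n hnA with e | e
    · exact hCE (hH.plane.mem_cent.2 ⟨hnA, mul_inv_eq_iff_eq_mul.1 e⟩)
    · have huR : S.emb Wit.u ∈ R := hCz (S.e Wit.u).2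
      have huA : Commute (S.emb Wit.u) A := hH.au.symm
      have h : S.emb Wit.u * n ∈ centralizer ({A, X} : Set G) := hH.plane.mem_cent.2
        ⟨(huA.mul_left (show Commute n A from hnA)).eq, by
          have h4 : S.emb Wit.u * (A * X) = X * S.emb Wit.u := by
            rw [← hH.ux, ← mul_assoc, ← mul_assoc, hH.uu, one_mul]
          rw [mul_assoc, mul_inv_eq_iff_eq_mul.1 e, ← mul_assoc, h4, mul_assoc]⟩
      rw [show n = (S.emb Wit.u)⁻¹ * (S.emb Wit.u * n) by group]
      exact mul_mem (inv_mem huR) (hCE h)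
  -- the range is everything
  have htop : R = ⊤ := by
    refine Finish.eq_top (orderOf_eq_prime (by rw [pow_two, S.z_sq]) S.z_ne_one) hao hH.plane.a_t hCz hCa (fun w hw hw2 => ?_) (fun P hP hle => ?_)
    · exact S.local_two hCz hCE hw hw2
    · obtain ⟨q, hq, hqc⟩ := HeFacts.sylow_range ψ hdne P hP hle
      refine ⟨d * z * q, mul_mem hk hq, fun p hp => ?_⟩
      have h := mem_centralizer_singleton_iff.1 (hqc p hp)
      rw [hd] at h
      rw [mem_centralizer_singleton_iff]
      calc d * z * q * p * (d * z * q)⁻¹ * z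
          = d * z * (q * p * q⁻¹) * (d * z)⁻¹ * (d * z * d * (d * z)⁻¹) := by rw [hz']; group
        _ = d * z * (q * p * q⁻¹ * d) * (d * z)⁻¹ := by group
        _ = d * z * (d * (q * p * q⁻¹)) * (d * z)⁻¹ := by rw [h]
        _ = d * z * d * (d * z)⁻¹ * (d * z * q * p * (d * z * q)⁻¹) := by group
        _ = z * (d * z * q * p * (d * z * q)⁻¹) := by rw [hz']
  exact ⟨(MulEquiv.ofBijective ψ ⟨HeFacts.injective ψ hdne, MonoidHom.range_eq_top.1 htop⟩).symm⟩

end Setting

/-- The recognition of the Held group from the graph property. -/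
theorem GraphHyp.isoHe {G : Type*} [Group G] [Finite G] {z : G} (S : GraphHyp z) : Cfsg.Spor.IsoHe G :=
  S.setting.isoHe

end Cfsg.Agent.HeLocal
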