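import Cfsg.Agent.Lib.HeLocal.Tag
import Mathlib.GroupTheory.SpecificGroups.Dihedral

/-!
# Finite facts about the model used for the fusion
-/

set_option autoImplicit false

namespace Cfsg.Agent.HeLocal

open Cfsg.Agent.InvChar.Coset.HeCent (M5 SL5 matOf idP)
open Code

namespace Code

def cm (a b : ℕ) : Bool := Nat.beq (mulF a b) (mulF b a)

def sqc (a b : ℕ) : Bool := Nat.beq (mulF a a) b

def memL (a : ℕ) : List ℕ → Bool
  | [] => false
  | b :: l => Nat.beq b a || memL a l

theorem memL_iff {a : ℕ} {l : List ℕ} : memL a l = true ↔ a ∈ l := by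
  induction l with
  | nil => simp [memL]
  | cons b l ih =>
    simp only [memL, Bool.or_eq_true, List.mem_cons, ih, Nat.beq_eq]
    constructor
    · rintro (h | h) <;> tauto
    · rintro (h | h) <;> tauto

/-- The classes other than `W`, `5`, and one more. -/
def good (t : ℕ) : Bool := memL t [0, 1, 2, 4, 7]

def invCodes : List ℕ := certs.map Prod.fst

end Code

theorem zc_comm (g : Mdl) : g * zc = zc * g := by
  have hz : ((zc : Mdl) : SL5) = tau := by
    refine Subtype.ext ?_
    rw [zc, rep, el_coe (inK_rep (by norm_num)), show repc 0 = mk 273 1 by decide +kernel, tau_mat]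
  refine Subtype.ext ?_
  rw [Subgroup.coe_mul, Subgroup.coe_mul, hz]
  exact Subgroup.mem_centralizer_singleton_iff.1 g.2

theorem zc_inv : IsInv zc := isInv_rep (by norm_num)

theorem tag_zc : tag zc = 0 := tag_rep (by norm_num)

theorem eq_zc_of_tag {g : Mdl} (hg : IsInv g) (h : tag g = 0) : g = zc := by
  obtain ⟨k, hk⟩ := exists_conj_rep hg
  rw [h] at hk
  rw [← hk, ← zc, zc_comm k, mul_inv_cancel_right]

theorem code_mem_invCodes {g : Mdl} (hg : IsInv g) : code g ∈ invCodes := by
  have h := forall_codes certs_cover g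
  rw [isInv_iff.1 hg, Bool.not_true, Bool.false_or, List.any_eq_true] at h
  obtain ⟨e, he, hea⟩ := h
  exact List.mem_map.2 ⟨e, he, Nat.eq_of_beq_eq_true hea⟩

theorem forall_inv {f : ℕ → Bool} (h : invCodes.all f = true) {g : Mdl} (hg : IsInv g) :
    f (code g) = true := List.all_eq_true.1 h _ (code_mem_invCodes hg)

theorem cm_code {g k : Mdl} : cm (code g) (code k) = true ↔ g * k = k * g := by
  rw [cm, ← code_mul, ← code_mul, beq_code]

theorem sqc_code {g k : Mdl} : sqc (code g) (code k) = true ↔ g * g = k := by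
  rw [sqc, ← code_mul, beq_code]

/-- The swap of the classes `4` and `5`. -/
def swap45 (i : ℕ) : ℕ := if i = 4 then 5 else if i = 5 then 4 else i

theorem zmul_reps : ∀ i < 8, i ≠ 0 → isInv (mulF (repc 0) (repc i)) = true ∧
    tagc (mulF (repc 0) (repc i)) = swap45 i := by decide +kernel

/-- Multiplication by the centre exchanges `4` and `5` and fixes the other classes. -/
theorem tag_zmul {g : Mdl} (hg : IsInv g) (h0 : tag g ≠ 0) :
    IsInv (zc * g) ∧ tag (zc * g) = swap45 (tag g) := by
  obtain ⟨k, hk⟩ := exists_conj_rep hg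
  obtain ⟨h1, h2⟩ := zmul_reps _ (tag_lt hg) h0
  have hc : code (zc * rep (tag g)) = mulF (repc 0) (repc (tag g)) := by
    rw [code_mul, zc, code_rep (by norm_num), code_rep (tag_lt hg)]
  have hi : IsInv (zc * rep (tag g)) := isInv_iff.2 (hc ▸ h1)
  have e : zc * g = k * (zc * rep (tag g)) * k⁻¹ := by
    rw [show k * (zc * rep (tag g)) = zc * (k * rep (tag g)) by rw [← mul_assoc, zc_comm, mul_assoc],
      mul_assoc, hk]
  rw [e]
  exact ⟨hi.conj k, by rw [tag_conj hi, tag, hc, h2]⟩

theorem size_list : sizes = [1, 14, 14, 42, 84, 84, 168, 168] := rfl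

/-- The orders of the centralizers of the involutions. -/
theorem card_cent_eq {g : Mdl} (hg : IsInv g) :
    Nat.card (Subgroup.centralizer ({g} : Set Mdl)) =
      [21504, 1536, 1536, 512, 256, 256, 128, 128].getD (tag g) 0 := by
  have h := card_cent hg
  have h8 := tag_lt hg
  generalize tag g = i at h h8
  interval_cases i <;> simp [sizes] at h ⊢ <;> omega

theorem card_eq_list {P : Mdl → Prop} {l : List ℕ} (hl : l.Nodup) (hK : ∀ a ∈ l, inK a = true)
    (h : ∀ g : Mdl, P g ↔ code g ∈ l) : Nat.card {g : Mdl // P g} = l.length := by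
  classical
  let e : {g : Mdl // P g} ≃ {a : ℕ // a ∈ l.toFinset} :=
    { toFun := fun g => ⟨code g.1, List.mem_toFinset.2 ((h g.1).1 g.2)⟩
      invFun := fun a => ⟨el a.1, (h _).2 (by
        rw [code_el (hK _ (List.mem_toFinset.1 a.2))]; exact List.mem_toFinset.1 a.2)⟩
      left_inv := fun g => Subtype.ext (el_code g.1)
      right_inv := fun a => Subtype.ext (code_el (hK _ (List.mem_toFinset.1 a.2))) }
  rw [Nat.card_congr e, Nat.card_eq_fintype_card, Fintype.card_coe, List.toFinset_card_of_nodup hl]

set_option maxHeartbeats 0 in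
-- a pass over the 21504 codes
theorem roots_pass : allC (fun q =>
    (!cm q (repc 5) || !sqc q (repc 5)) &&
    (!cm q (repc 3) || ((!sqc q (repc 0) || memL q rootsWz) && (!sqc q (repc 3) || memL q rootsWa))) &&
    (!cm q (repc 1) || !sqc q (repc 1) || memL q rootsU)) = true := by decide +kernel

theorem root_lists :
    (rootsWz.all fun q => inK q && cm q (repc 3) && sqc q (repc 0)) = true ∧
    (rootsWa.all fun q => inK q && cm q (repc 3) && sqc q (repc 3)) = true ∧
    rootsWz.Nodup ∧ rootsWa.Nodup ∧ rootsWz.length = 32 ∧ rootsWa.length = 16 ∧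
    (inK rootFive && cm rootFive (repc 5) && sqc rootFive (repc 0)) = true ∧
    (inK rootFour && cm rootFour (repc 4) && sqc rootFour (repc 0)) = true := by decide +kernel

/-- The sixth class has no square root in its centralizer. -/
theorem five_noroot {q : Mdl} (h : q * rep 5 = rep 5 * q) : q * q ≠ rep 5 := by
  intro e
  have := forall_codes roots_pass q
  rw [← code_rep (show (5 : ℕ) < 8 by norm_num), cm_code.2 h, sqc_code.2 e] at this
  simp at this

/-- The centre has a square root in the centralizer of every element of the fifth and sixth class. -/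
theorem root_four_five {g : Mdl} (hg : IsInv g) (h : tag g = 4 ∨ tag g = 5) :
    ∃ q : Mdl, q * g = g * q ∧ q * q = zc := by
  obtain ⟨k, hk⟩ := exists_conj_rep hg
  obtain ⟨q, hq, hq'⟩ : ∃ q : Mdl, q * rep (tag g) = rep (tag g) * q ∧ q * q = zc := by
    obtain ⟨-, -, -, -, -, -, h5, h4⟩ := root_lists
    simp only [Bool.and_eq_true] at h4 h5
    rcases h with h | h <;> rw [h]
    · exact ⟨el rootFour, cm_code.1 (by rw [code_el h4.1.1, code_rep (by norm_num)]; exact h4.1.2),
        sqc_code.1 (by rw [code_el h4.1.1, zc, code_rep (by norm_num)]; exact h4.2)⟩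
    · exact ⟨el rootFive, cm_code.1 (by rw [code_el h5.1.1, code_rep (by norm_num)]; exact h5.1.2),
        sqc_code.1 (by rw [code_el h5.1.1, zc, code_rep (by norm_num)]; exact h5.2)⟩
  refine ⟨k * q * k⁻¹, ?_, ?_⟩
  · rw [← hk, show k * q * k⁻¹ * (k * rep (tag g) * k⁻¹) = k * (q * rep (tag g)) * k⁻¹ by group, hq]
    group
  · rw [show k * q * k⁻¹ * (k * q * k⁻¹) = k * (q * q) * k⁻¹ by group, hq', zc_comm, mul_inv_cancel_right]

theorem card_W_roots_z : Nat.card {q : Mdl // q * rep 3 = rep 3 * q ∧ q * q = zc} = 32 := by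
  obtain ⟨h1, -, hn, -, hlen, -⟩ := root_lists
  rw [← hlen]
  refine card_eq_list hn (fun a ha => ?_) fun q => ?_
  · have := List.all_eq_true.1 h1 a ha
    simp only [Bool.and_eq_true] at this
    exact this.1.1
  · rw [← cm_code, ← sqc_code, zc, code_rep (by norm_num), code_rep (by norm_num)]
    refine ⟨fun h => ?_, fun h => ?_⟩
    · have := forall_codes roots_pass q
      rw [h.1, h.2] at this
      simp only [Bool.and_eq_true, Bool.not_true, Bool.false_or] at this
      exact memL_iff.1 this.1.2.1
    · have := List.all_eq_true.1 h1 _ h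
      simp only [Bool.and_eq_true] at this
      exact ⟨this.1.2, this.2⟩

theorem card_W_roots_self : Nat.card {q : Mdl // q * rep 3 = rep 3 * q ∧ q * q = rep 3} = 16 := by
  obtain ⟨-, h1, -, hn, -, hlen, -⟩ := root_lists
  rw [← hlen]
  refine card_eq_list hn (fun a ha => ?_) fun q => ?_
  · have := List.all_eq_true.1 h1 a ha
    simp only [Bool.and_eq_true] at this
    exact this.1.1
  · rw [← cm_code, ← sqc_code, code_rep (by norm_num)]
    refine ⟨fun h => ?_, fun h => ?_⟩
    · have := forall_codes roots_pass q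
      rw [h.1, h.2] at this
      simp only [Bool.and_eq_true, Bool.not_true, Bool.false_or] at this
      exact memL_iff.1 this.1.2.2
    · have := List.all_eq_true.1 h1 _ h
      simp only [Bool.and_eq_true] at this
      exact ⟨this.1.2, this.2⟩

theorem centre_W_check :
    (gensW.all fun g => inK g && cm g (repc 3)) = true ∧
    (invCodes.all fun y => !cm y (repc 3) || !(gensW.all fun g => cm y g) ||
      memL y [repc 0, repc 3, mulF (repc 0) (repc 3)]) = true := by decide +kernel

/-- The involutions in the centre of the centralizer of a representative of the fourth class. -/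
theorem centre_W {g : Mdl} (hg : IsInv g) (h3 : g * rep 3 = rep 3 * g)
    (hc : ∀ q : Mdl, q * rep 3 = rep 3 * q → g * q = q * g) :
    g = zc ∨ g = rep 3 ∨ g = zc * rep 3 := by
  have h := forall_inv centre_W_check.2 hg
  have h1 : cm (code g) (repc 3) = true := by
    rw [← code_rep (show (3 : ℕ) < 8 by norm_num)]; exact cm_code.2 h3
  have h2 : (gensW.all fun q => cm (code g) q) = true := by
    refine List.all_eq_true.2 fun a ha => ?_
    have := List.all_eq_true.1 centre_W_check.1 a ha
    simp only [Bool.and_eq_true] at this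
    rw [← code_el this.1]
    refine cm_code.2 (hc _ (cm_code.1 ?_))
    rw [code_el this.1, code_rep (by norm_num)]
    exact this.2
  rw [h1, h2] at h
  simp only [Bool.not_true, Bool.false_or, memL_iff, List.mem_cons, List.not_mem_nil, or_false] at h
  rcases h with h | h | h
  · exact Or.inl (code_inj (by rw [h, zc, code_rep (by norm_num)]))
  · exact Or.inr (Or.inl (code_inj (by rw [h, code_rep (by norm_num)])))
  · exact Or.inr (Or.inr (code_inj (by rw [h, code_mul, zc, code_rep (by norm_num), code_rep (by norm_num)])))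

theorem wit_check : inK witU = true ∧ isInv witU = true ∧ tagc witU = 2 ∧ cm witU (repc 1) = true ∧
    isInv (mulF witU (repc 1)) = true ∧ tagc (mulF witU (repc 1)) = 3 := by decide +kernel

/-- A witness for the fifth class. -/
theorem exists_witness : ∃ y : Mdl, IsInv y ∧ tag y = 2 ∧ y * rep 1 = rep 1 * y ∧
    IsInv (y * rep 1) ∧ tag (y * rep 1) = 3 := by
  obtain ⟨h0, h1, h2, h3, h4, h5⟩ := wit_check
  refine ⟨el witU, ?_, ?_, ?_, ?_, ?_⟩
  · exact isInv_iff.2 (by rwa [code_el h0])
  · rwa [tag, code_el h0]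
  · exact cm_code.1 (by rwa [code_el h0, code_rep (by norm_num)])
  · exact isInv_iff.2 (by rwa [code_mul, code_el h0, code_rep (by norm_num)])
  · rwa [tag, code_mul, code_el h0, code_rep (by norm_num)]

theorem four_check : (invCodes.all fun y => !cm y (repc 1) || memL y [repc 0, repc 1, mulF (repc 0) (repc 1)] ||
    !(good (tagc y) && good (tagc (mulF y (repc 0))) && good (tagc (mulF y (repc 1))) &&
      good (tagc (mulF y (mulF (repc 0) (repc 1))))) || Nat.ble (tagc y) 1 ||
    !(rootsU.any fun q => cm q y)) = true := by decide +kernel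

/-- In the centralizer of the second representative, the elements of the first group are recognized. -/
theorem tag_le_one_of_good {y : Mdl} (hy : IsInv y) (hc : y * rep 1 = rep 1 * y)
    (hne : y ≠ zc ∧ y ≠ rep 1 ∧ y ≠ zc * rep 1)
    (h0 : good (tag y) = true) (h1 : good (tag (y * zc)) = true) (h2 : good (tag (y * rep 1)) = true)
    (h3 : good (tag (y * (zc * rep 1))) = true)
    {q : Mdl} (hq1 : q * rep 1 = rep 1 * q) (hqy : q * y = y * q) (hqq : q * q = rep 1) : tag y ≤ 1 := by
  have h := forall_inv four_check hy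
  have e1 : cm (code y) (repc 1) = true := by
    rw [← code_rep (show (1 : ℕ) < 8 by norm_num)]; exact cm_code.2 hc
  have e2 : memL (code y) [repc 0, repc 1, mulF (repc 0) (repc 1)] = false := by
    rw [Bool.eq_false_iff]
    intro e
    simp only [memL_iff, List.mem_cons, List.not_mem_nil, or_false] at e
    rcases e with e | e | e
    · exact hne.1 (code_inj (by rw [e, zc, code_rep (by norm_num)]))
    · exact hne.2.1 (code_inj (by rw [e, code_rep (by norm_num)]))
    · exact hne.2.2 (code_inj (by rw [e, code_mul, zc, code_rep (by norm_num), code_rep (by norm_num)]))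
  have e3 : (rootsU.any fun r => cm r (code y)) = true := by
    have hp := forall_codes roots_pass q
    rw [← code_rep (show (1 : ℕ) < 8 by norm_num), cm_code.2 hq1, sqc_code.2 hqq] at hp
    simp only [Bool.and_eq_true, Bool.not_true, Bool.false_or] at hp
    exact List.any_eq_true.2 ⟨_, memL_iff.1 hp.2, cm_code.2 hqy⟩
  simp only [tag, code_mul, zc, code_rep (show (0 : ℕ) < 8 by norm_num),
    code_rep (show (1 : ℕ) < 8 by norm_num)] at h0 h1 h2 h3
  rw [e1, e2, e3, h0, h1, h2, h3] at h
  simpa [Nat.ble_eq, tag] using h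

/-- The first elementary abelian subgroup of order sixteen. -/
def inA (g : Mdl) : Prop := code g ∈ listA

theorem listA_check :
    (listA.all fun a => inK a && (listA.all fun b => memL (mulF a b) listA && cm a b) &&
      (Nat.beq a idP || (isInv a && Nat.ble (tagc a) 1))) = true ∧
    (invCodes.all fun y => !Nat.ble (tagc y) 1 || memL y listA) = true ∧
    listA.Nodup ∧ listA.length = 16 ∧ memL idP listA = true := by decide +kernel

theorem listA_spec {a : ℕ} (ha : a ∈ listA) : inK a = true ∧ (∀ b ∈ listA, mulF a b ∈ listA ∧ cm a b = true) ∧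
    (a = idP ∨ (isInv a = true ∧ tagc a ≤ 1)) := by
  have h := List.all_eq_true.1 listA_check.1 a ha
  simp only [Bool.and_eq_true, List.all_eq_true, Bool.or_eq_true, memL_iff, Nat.ble_eq] at h
  exact ⟨h.1.1, h.1.2, h.2.imp_left Nat.eq_of_beq_eq_true⟩

theorem inA_one : inA 1 := by
  rw [inA, code_one]; exact memL_iff.1 listA_check.2.2.2.2

theorem inA_mul {g k : Mdl} (hg : inA g) (hk : inA k) : inA (g * k) := by
  rw [inA, code_mul]; exact ((listA_spec hg).2.1 _ hk).1

theorem inA_comm {g k : Mdl} (hg : inA g) (hk : inA k) : g * k = k * g :=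
  cm_code.1 ((listA_spec hg).2.1 _ hk).2

/-- The involutions of the group are those of the first two classes. -/
theorem inA_iff {g : Mdl} : inA g ↔ g = 1 ∨ (IsInv g ∧ tag g ≤ 1) := by
  constructor
  · intro h
    rcases (listA_spec h).2.2 with e | e
    · exact Or.inl (code_inj (e.trans code_one.symm))
    · exact Or.inr ⟨isInv_iff.2 e.1, e.2⟩
  · rintro (rfl | ⟨h1, h2⟩)
    · exact inA_one
    · have h := forall_inv listA_check.2.1 h1
      rw [show Nat.ble (tagc (code g)) 1 = true by rw [Nat.ble_eq]; exact h2] at h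
      simpa [memL_iff, inA] using h

theorem inA_conj {g : Mdl} (hg : inA g) (k : Mdl) : inA (k * g * k⁻¹) := by
  rw [inA_iff] at hg ⊢
  rcases hg with rfl | ⟨h1, h2⟩
  · left; group
  · exact Or.inr ⟨h1.conj k, by rwa [tag_conj h1]⟩

theorem card_A : Nat.card {g : Mdl // inA g} = 16 := by
  rw [← listA_check.2.2.2.1]
  exact card_eq_list listA_check.2.2.1 (fun a ha => (listA_spec ha).1) fun _ => Iff.rfl

theorem gen_check : (listA.all fun a => listA.any fun b =>
    let c := mulF a b
    !memL b [idP, repc 0, repc 1, mulF (repc 0) (repc 1)] &&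
    !memL c [idP, repc 0, repc 1, mulF (repc 0) (repc 1)] && rootsUz.any (fun q => cm q b) &&
      rootsUz.any (fun q => cm q c)) = true ∧
    (rootsUz.all fun q => inK q && cm q (repc 1) && sqc q (repc 0)) = true := by decide +kernel

/-- An element of the group with a square root of the centre commuting with it, off the four group. -/
def Rooted (b : Mdl) : Prop :=
  inA b ∧ b ≠ 1 ∧ b ≠ zc ∧ b ≠ rep 1 ∧ b ≠ zc * rep 1 ∧
    ∃ q : Mdl, q * rep 1 = rep 1 * q ∧ q * b = b * q ∧ q * q = zc

/-- Every element of the group is a product of two rooted elements. -/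
theorem exists_rooted_mul {a : Mdl} (ha : inA a) : ∃ b c : Mdl, Rooted b ∧ Rooted c ∧ a = c * b := by
  have h := List.all_eq_true.1 gen_check.1 _ ha
  rw [List.any_eq_true] at h
  obtain ⟨b, hb, h⟩ := h
  simp only [Bool.and_eq_true, Bool.not_eq_true', List.any_eq_true] at h
  obtain ⟨⟨⟨h1, h2⟩, q, hq, hqb⟩, q', hq', hqc⟩ := h
  have hbK := (listA_spec hb).1
  have mk' : ∀ e : Mdl, inA e → memL (code e) [idP, repc 0, repc 1, mulF (repc 0) (repc 1)] = false →
      ∀ r ∈ rootsUz, cm r (code e) = true → Rooted e := by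
    intro e he hm r hr hre
    have hmem : code e ∉ [idP, repc 0, repc 1, mulF (repc 0) (repc 1)] := by
      rw [← memL_iff, hm]; simp
    simp only [List.mem_cons, List.not_mem_nil, or_false, not_or] at hmem
    have hrs := List.all_eq_true.1 gen_check.2 r hr
    simp only [Bool.and_eq_true] at hrs
    refine ⟨he, fun x => hmem.1 (by rw [x, code_one]), fun x => hmem.2.1 (by rw [x, zc, code_rep (by norm_num)]),
      fun x => hmem.2.2.1 (by rw [x, code_rep (by norm_num)]),
      fun x => hmem.2.2.2 (by rw [x, code_mul, zc, code_rep (by norm_num), code_rep (by norm_num)]),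
      el r, cm_code.1 (by rw [code_el hrs.1.1, code_rep (by norm_num)]; exact hrs.1.2),
      cm_code.1 (by rw [code_el hrs.1.1]; exact hre),
      sqc_code.1 (by rw [code_el hrs.1.1, zc, code_rep (by norm_num)]; exact hrs.2)⟩
  have hbA : inA (el b) := by rw [inA, code_el hbK]; exact hb
  have hcA : inA (a * el b) := inA_mul ha hbA
  have hcc : code (a * el b) = mulF (code a) b := by rw [code_mul, code_el hbK]
  refine ⟨el b, a * el b, mk' _ hbA (by rwa [code_el hbK]) q hq (by rwa [code_el hbK]),
    mk' _ hcA (by rwa [hcc]) q' hq' (by rwa [hcc]), ?_⟩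
  rw [mul_assoc]
  rcases inA_iff.1 hbA with e | e
  · rw [e, mul_one, mul_one]
  · rw [e.1.1, mul_one]

/-- A basis of the group. -/
def basisA : List ℕ := [listA.getD 1 0, listA.getD 2 0, listA.getD 4 0, listA.getD 8 0]

set_option maxHeartbeats 0 in
-- a pass over the 21504 codes
theorem centA_pass : allC (fun g => !(listA.all fun b => cm g b) || memL g listA) = true := by decide +kernel

/-- The group is its own centralizer. -/
theorem cent_A {g : Mdl} (h : ∀ a : Mdl, inA a → g * a = a * g) : inA g := by
  have hp := forall_codes centA_pass g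
  rw [List.all_eq_true.2 fun b hb => ?_] at hp
  · simpa [memL_iff, inA] using hp
  · rw [← code_el (listA_spec hb).1]
    refine cm_code.2 (h _ ?_)
    rw [inA, code_el (listA_spec hb).1]
    exact hb

theorem fix_check : ∀ i < 8, (listA.filter fun a => cm a (repc i)).length =
    [16, 16, 8, 8, 8, 8, 8, 4].getD i 0 := by decide +kernel

/-- The numbers of elements of the group centralized by an involution. -/
theorem card_fix_A {g : Mdl} (hg : IsInv g) :
    Nat.card {a : Mdl // inA a ∧ a * g = g * a} = [16, 16, 8, 8, 8, 8, 8, 4].getD (tag g) 0 := by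
  obtain ⟨k, hk⟩ := exists_conj_rep hg
  have e : {a : Mdl // inA a ∧ a * g = g * a} ≃ {a : Mdl // inA a ∧ a * rep (tag g) = rep (tag g) * a} :=
    ((MulAut.conj k).toEquiv.subtypeEquiv fun a => by
      refine and_congr ⟨fun h => inA_conj h k, fun h => ?_⟩ ?_
      · simpa [MulAut.conj_apply, mul_assoc] using inA_conj h k⁻¹
      · rw [← (MulAut.conj k).injective.eq_iff, map_mul, map_mul, show (MulAut.conj k) (rep (tag g)) = g from hk]
        exact Iff.rfl).symm
  rw [Nat.card_congr e, ← fix_check _ (tag_lt hg)]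
  refine card_eq_list (listA_check.2.2.1.filter _) (fun a ha => (listA_spec (List.mem_filter.1 ha).1).1) ?_
  intro a
  rw [List.mem_filter, ← cm_code, code_rep (tag_lt hg)]
  exact Iff.rfl

/-- An element of order three centralizing the second representative. -/
def hm : Mdl := el elH

set_option maxHeartbeats 0 in
-- a pass over the 21504 codes
theorem centH_pass : allC (fun g => !cm g elH || memL g centH) = true := by decide +kernel

theorem hm_check : inK elH = true ∧ Nat.beq elH idP = false ∧ Nat.beq (mulF elH (mulF elH elH)) idP = true ∧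
    cm elH (repc 1) = true ∧
    (centH.all fun g => inK g && (!isInv g || Nat.ble (tagc g) 2) &&
      (dihH.any fun d => Nat.beq g d || Nat.beq g (mulF elH d) || Nat.beq g (mulF (mulF elH elH) d))) = true ∧
    (dihH.all fun d => inK d && cm d elH) = true ∧ dihH.length = 8 ∧ dihH.Nodup := by decide +kernel

theorem hm_order : orderOf hm = 3 := by
  have : Fact (Nat.Prime 3) := ⟨Nat.prime_three⟩
  obtain ⟨h0, h1, h2, -⟩ := hm_check
  refine orderOf_eq_prime (code_inj ?_) fun e => ?_
  · rw [pow_succ', pow_two, code_mul, code_mul, hm, code_el h0, code_one, Nat.eq_of_beq_eq_true h2]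
  · have := congrArg code e
    rw [hm, code_el h0, code_one] at this
    rw [this, Nat.beq_refl] at h1
    exact Bool.noConfusion h1

theorem hm_comm : hm * rep 1 = rep 1 * hm := cm_code.1 (by
  rw [hm, code_el hm_check.1, code_rep (by norm_num)]; exact hm_check.2.2.2.1)

/-- The involutions centralizing the element of order three are of the first three classes. -/
theorem hm_cent_tag {g : Mdl} (hg : IsInv g) (hc : g * hm = hm * g) : tag g ≤ 2 := by
  have hp := forall_codes centH_pass g
  rw [show cm (code g) elH = true from by rw [← code_el hm_check.1]; exact cm_code.2 hc] at hp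
  have hm' : code g ∈ centH := memL_iff.1 (by simpa using hp)
  have h := List.all_eq_true.1 hm_check.2.2.2.2.1 _ hm'
  simp only [Bool.and_eq_true] at h
  rw [isInv_iff.1 hg] at h
  simpa [tag, Nat.ble_eq] using h.1.2

/-- The codes of the dihedral group. -/
def dcode : DihedralGroup 4 → ℕ
  | .r i => dihH.getD i.val 0
  | .sr i => dihH.getD (4 + i.val) 0

theorem dcode_table : (∀ x y : DihedralGroup 4, Nat.beq (mulF (dcode x) (dcode y)) (dcode (x * y)) = true) ∧
    dcode (.r 2) = repc 0 ∧ Nat.beq (dcode 1) idP = true ∧ (∀ x : DihedralGroup 4, dcode x ∈ dihH) ∧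
    (∀ d ∈ dihH, ∃ x : DihedralGroup 4, dcode x = d) ∧ Function.Injective dcode := by decide +kernel

theorem inK_dcode (x : DihedralGroup 4) : inK (dcode x) = true := by
  have := List.all_eq_true.1 hm_check.2.2.2.2.2.1 _ (dcode_table.2.2.2.1 x)
  simp only [Bool.and_eq_true] at this
  exact this.1

/-- The dihedral group in the centralizer of the element of order three. -/
def dih : DihedralGroup 4 →* Mdl where
  toFun x := el (dcode x)
  map_one' := by rw [Nat.eq_of_beq_eq_true dcode_table.2.2.1, el_id]
  map_mul' x y := by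
    rw [(el_mul (inK_dcode x) (inK_dcode y)).1, Nat.eq_of_beq_eq_true (dcode_table.1 x y)]

theorem dih_injective : Function.Injective dih := fun x y h =>
  dcode_table.2.2.2.2.2 (el_inj (inK_dcode x) (inK_dcode y) h)

theorem dih_comm (x : DihedralGroup 4) : dih x * hm = hm * dih x := cm_code.1 (by
  have := List.all_eq_true.1 hm_check.2.2.2.2.2.1 _ (dcode_table.2.2.2.1 x)
  simp only [Bool.and_eq_true] at this
  show cm (code (el (dcode x))) _ = true
  rw [code_el (inK_dcode x), hm, code_el hm_check.1]
  exact this.2)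

theorem dih_two : dih (.r 2) = zc := by
  show el (dcode (.r 2)) = zc
  rw [dcode_table.2.1]; rfl

/-- The centralizer of the element of order three. -/
theorem hm_cent {g : Mdl} (hc : g * hm = hm * g) :
    ∃ x : DihedralGroup 4, g = dih x ∨ g = hm * dih x ∨ g = hm * hm * dih x := by
  have hp := forall_codes centH_pass g
  rw [show cm (code g) elH = true from by rw [← code_el hm_check.1]; exact cm_code.2 hc] at hp
  have hm' : code g ∈ centH := memL_iff.1 (by simpa using hp)
  have h := List.all_eq_true.1 hm_check.2.2.2.2.1 _ hm'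
  simp only [Bool.and_eq_true, List.any_eq_true, Bool.or_eq_true] at h
  obtain ⟨-, d, hd, hd'⟩ := h
  obtain ⟨x, hx⟩ := dcode_table.2.2.2.2.1 d hd
  have hdx : code (dih x) = d := by
    show code (el (dcode x)) = d
    rw [code_el (inK_dcode x), hx]
  refine ⟨x, ?_⟩
  rcases hd' with (e | e) | e <;> have e := Nat.eq_of_beq_eq_true e
  · exact Or.inl (code_inj (e.trans hdx.symm))
  · exact Or.inr (Or.inl (code_inj (by rw [e, code_mul, hdx, hm, code_el hm_check.1])))
  · exact Or.inr (Or.inr (code_inj (by rw [e, code_mul, code_mul, hdx, hm, code_el hm_check.1])))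

/-- Every element of order three is conjugate to `hm` or to its inverse. -/
theorem conj_hm {g : Mdl} (hg : orderOf g = 3) :
    ∃ k : Mdl, k * g * k⁻¹ = hm ∨ k * g * k⁻¹ = hm⁻¹ := by
  have : Fact (Nat.Prime 3) := ⟨Nat.prime_three⟩
  have hf : (Nat.card Mdl).factorization 3 = 1 := by
    rw [card_mdl, show 21504 = 3 * 7168 by norm_num, Nat.factorization_mul (by norm_num) (by norm_num),
      Finsupp.add_apply, Nat.prime_three.factorization_self,
      Nat.factorization_eq_zero_of_not_dvd (by norm_num)]
  obtain ⟨P, hP⟩ : ∃ P : Sylow 3 Mdl, (P : Subgroup Mdl) = Subgroup.zpowers g :=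
    ⟨Sylow.ofCard (Subgroup.zpowers g) (by rw [Nat.card_zpowers, hg, hf, pow_one]), rfl⟩
  obtain ⟨R, hR⟩ : ∃ R : Sylow 3 Mdl, (R : Subgroup Mdl) = Subgroup.zpowers hm :=
    ⟨Sylow.ofCard (Subgroup.zpowers hm) (by rw [Nat.card_zpowers, hm_order, hf, pow_one]), rfl⟩
  obtain ⟨k, hk⟩ := MulAction.exists_smul_eq Mdl P R
  refine ⟨k, ?_⟩
  have hmem : k * g * k⁻¹ ∈ Subgroup.zpowers hm := by
    rw [← hR, ← hk, Sylow.coe_subgroup_smul]
    exact Subgroup.smul_mem_pointwise_smul g (MulAut.conj k) _ (hP ▸ Subgroup.mem_zpowers g)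
  obtain ⟨i, hi⟩ := Subgroup.mem_zpowers_iff.1 hmem
  rw [← zpow_mod_orderOf, hm_order] at hi
  have hne : k * g * k⁻¹ ≠ 1 := fun e => by
    rw [conj_eq_one_iff.1 e, orderOf_one] at hg; norm_num at hg
  have h1 := Int.emod_nonneg i (show ((3 : ℕ) : ℤ) ≠ 0 by norm_num)
  have h2 := Int.emod_lt_of_pos i (show (0 : ℤ) < ((3 : ℕ) : ℤ) by norm_num)
  rcases (show i % ((3 : ℕ) : ℤ) = 0 ∨ i % ((3 : ℕ) : ℤ) = 1 ∨ i % ((3 : ℕ) : ℤ) = 2 by omega) with e | e | e <;>
    rw [e] at hi
  · exact absurd hi.symm (by simpa using hne)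
  · exact Or.inl (by rw [← hi, zpow_one])
  · refine Or.inr (hi.symm.trans (eq_inv_of_mul_eq_one_left ?_))
    rw [← zpow_add_one, show (2 : ℤ) + 1 = ((3 : ℕ) : ℤ) by norm_num, zpow_natCast, ← hm_order,
      pow_orderOf_eq_one]

end Cfsg.Agent.HeLocal
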