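import Cfsg.Agent.Lib.HeLocal.FusionThree

/-!
# The fusion of involutions in a group of Held type
-/

set_option autoImplicit false

namespace Cfsg.Agent.HeLocal

namespace Iso

variable {G : Type*} [Group G] {z : G} (I : Iso z) [Finite G]

/-- The two-part of the order. -/
theorem factorization_two (hG : Nat.card G = 4030387200) : (Nat.card G).factorization 2 = 10 := by
  rw [hG, show 4030387200 = 2 ^ 10 * 3935925 by norm_num, Nat.factorization_mul (by norm_num) (by norm_num),
    Finsupp.add_apply, Nat.prime_two.factorization_pow, Finsupp.single_eq_same,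
    Nat.factorization_eq_zero_of_not_dvd (by norm_num)]

variable (hG : Nat.card G = 4030387200)
  (htwo : ∃ x y : G, orderOf x = 2 ∧ orderOf y = 2 ∧ ¬ IsConj x y ∧
    ∀ w : G, orderOf w = 2 → IsConj w x ∨ IsConj w y)
include I hG htwo

/-- The eighth class is conjugate to the centre. -/
theorem zType_seven : I.ZType (rep 7) := by
  have h := I.swap.zType_six (factorization_two hG) htwo hG
  rw [ZType, swap_ι] at h
  obtain ⟨hi, ht⟩ := Theta.equiv_rep (show 6 < 8 by norm_num)
  exact (I.zType_iff_of_tag hi (isInv_rep (show 7 < 8 by norm_num))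
    (by rw [ht, tag_rep (by norm_num)]; rfl)).1 h

/-- An involution is conjugate to the centre exactly outside the classes `W` and `5`. -/
theorem zType_iff {g : Mdl} (hg : IsInv g) : I.ZType g ↔ tag g ≠ 3 ∧ tag g ≠ 5 := by
  have hG2 := factorization_two hG
  refine ⟨fun h => ?_, fun h => ?_⟩
  · have hr := (I.zType_iff_rep hg).1 h
    exact ⟨fun e => I.not_zType_three (e ▸ hr), fun e => I.not_zType_five (e ▸ hr)⟩
  · have h8 := tag_lt hg
    by_cases e6 : tag g = 6
    · exact (I.zType_iff_rep hg).2 (e6 ▸ I.zType_six hG2 htwo hG)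
    by_cases e7 : tag g = 7
    · exact (I.zType_iff_rep hg).2 (e7 ▸ I.zType_seven hG htwo)
    exact I.zType_of_tag hG2 htwo hg (by omega)

/-- The local setting of a group of Held type. -/
theorem setting : Nonempty (Setting z) :=
  ⟨{ e := I.e, e_zc := I.e_zc, fusion := fun _ hg => I.zType_iff hG htwo hg }⟩

end Iso

end Cfsg.Agent.HeLocal
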