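import Cfsg.Agent.Lib.HeLocal.Tag

/-!
# The local setting of a group of Held type

An involution centralizer isomorphic to the model, and the class of every involution in it: conjugate to
the centre unless its class in the model is the fourth or the sixth (`tag` 3 or 5).
-/

set_option autoImplicit false

namespace Cfsg.Agent.HeLocal

variable {G : Type*} [Group G]

/-- The local data. -/
structure Setting (z : G) where
  e : Mdl ≃* ↥(Subgroup.centralizer ({z} : Set G))
  e_zc : (e zc : G) = z
  fusion : ∀ g : Mdl, IsInv g → (IsConj z (e g : G) ↔ tag g ≠ 3 ∧ tag g ≠ 5)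

namespace Setting

variable {z : G} (S : Setting z)

/-- The embedding of the model. -/
noncomputable def emb : Mdl →* G :=
  (Subgroup.centralizer ({z} : Set G)).subtype.comp S.e.toMonoidHom

theorem emb_apply (g : Mdl) : S.emb g = (S.e g : G) := rfl

theorem emb_zc : S.emb zc = z := S.e_zc

theorem emb_injective : Function.Injective S.emb :=
  Subtype.val_injective.comp S.e.injective

theorem exists_emb {x : G} (hx : x * z = z * x) : ∃ g : Mdl, S.emb g = x :=
  ⟨S.e.symm ⟨x, Subgroup.mem_centralizer_singleton_iff.2 hx⟩, by
    rw [emb_apply, MulEquiv.apply_symm_apply]⟩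

theorem conj_iff {g : Mdl} (hg : IsInv g) : IsConj z (S.emb g) ↔ tag g ≠ 3 ∧ tag g ≠ 5 := S.fusion g hg

end Setting

end Cfsg.Agent.HeLocal
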