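import Cfsg.Agent.Lib.HeLocal.Theta
import Cfsg.Agent.Lib.HeLocal.Setting
import Mathlib.GroupTheory.Sylow

/-!
# Fusion in a group of Held type: the classes `W`, `5`, the two sides and the class `4`
-/

set_option autoImplicit false

namespace Cfsg.Agent.HeLocal

variable {G : Type*} [Group G]

/-- An identification of the centralizer of `z` with the model. -/
structure Iso (z : G) where
  e : Mdl ≃* ↥(Subgroup.centralizer ({z} : Set G))
  e_zc : (e zc : G) = z

namespace Iso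

variable {z : G} (I : Iso z)

/-- The embedding. -/
noncomputable def ι : Mdl →* G :=
  (Subgroup.centralizer ({z} : Set G)).subtype.comp I.e.toMonoidHom

theorem ι_apply (g : Mdl) : I.ι g = (I.e g : G) := rfl

theorem ι_zc : I.ι zc = z := I.e_zc

theorem ι_inj : Function.Injective I.ι := Subtype.val_injective.comp I.e.injective

theorem exists_ι {x : G} (hx : x * z = z * x) : ∃ g : Mdl, I.ι g = x :=
  ⟨I.e.symm ⟨x, Subgroup.mem_centralizer_singleton_iff.2 hx⟩, by rw [ι_apply, MulEquiv.apply_symm_apply]⟩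

theorem ι_comm (g : Mdl) : I.ι g * z = z * I.ι g :=
  Subgroup.mem_centralizer_singleton_iff.1 (I.e g).2

theorem ι_comm_iff {g k : Mdl} : I.ι g * I.ι k = I.ι k * I.ι g ↔ g * k = k * g := by
  rw [← map_mul, ← map_mul, I.ι_inj.eq_iff]

theorem isInv_of {g : Mdl} (h : I.ι g * I.ι g = 1) (h1 : I.ι g ≠ 1) : IsInv g :=
  ⟨I.ι_inj (by rw [map_mul, h, map_one]), fun e => h1 (by rw [e, map_one])⟩

theorem ι_sq {g : Mdl} (h : IsInv g) : I.ι g * I.ι g = 1 := by rw [← map_mul, h.1, map_one]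

theorem ι_ne {g : Mdl} (h : IsInv g) : I.ι g ≠ 1 := fun e => h.2 (I.ι_inj (e.trans (map_one I.ι).symm))

/-- The identification after the exchange of the two sides. -/
noncomputable def swap : Iso z where
  e := Theta.equiv.trans I.e
  e_zc := by rw [MulEquiv.trans_apply, Theta.equiv_zc, I.e_zc]

theorem swap_ι (g : Mdl) : I.swap.ι g = I.ι (Theta.equiv g) := rfl

/-- Conjugate to the centre. -/
def ZType (g : Mdl) : Prop := IsConj z (I.ι g)

theorem zType_zc : I.ZType zc := by rw [ZType, ι_zc]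

theorem zType_conj {g : Mdl} (k : Mdl) : I.ZType (k * g * k⁻¹) ↔ I.ZType g := by
  have h : IsConj (I.ι g) (I.ι (k * g * k⁻¹)) := isConj_iff.2 ⟨I.ι k, by rw [map_mul, map_mul, map_inv]⟩
  exact ⟨fun e => e.trans h.symm, fun e => e.trans h⟩

theorem zType_iff_of_tag {g g' : Mdl} (hg : IsInv g) (hg' : IsInv g') (h : tag g = tag g') :
    I.ZType g ↔ I.ZType g' := by
  obtain ⟨k, rfl⟩ := exists_conj_of_tag_eq hg hg' h
  exact (I.zType_conj k).symm

theorem zType_iff_rep {g : Mdl} (hg : IsInv g) : I.ZType g ↔ I.ZType (rep (tag g)) :=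
  I.zType_iff_of_tag hg (isInv_rep (tag_lt hg)) (tag_rep (tag_lt hg)).symm

/-- Conjugation by an element, on the centralizer of `z`: the data of the reversal of a pair. -/
structure Rev (g g' : Mdl) (c : G) : Prop where
  fwd : c * z * c⁻¹ = I.ι g
  bwd : c⁻¹ * z * c = I.ι g'

theorem exists_rev {g : Mdl} (hg : IsInv g) (h0 : tag g ≠ 0) (hc : I.ZType g) :
    ∃ g' c, IsInv g' ∧ tag g' ≠ 0 ∧ I.Rev g g' c := by
  obtain ⟨c, hc⟩ := isConj_iff.1 hc
  have hcomm : c⁻¹ * z * c * z = z * (c⁻¹ * z * c) := by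
    calc c⁻¹ * z * c * z = c⁻¹ * (z * (c * z * c⁻¹)) * c := by group
      _ = c⁻¹ * (c * z * c⁻¹ * z) * c := by rw [hc, I.ι_comm g]
      _ = _ := by group
  obtain ⟨g', hg'⟩ := I.exists_ι hcomm
  have hz1 : z ≠ 1 := I.ι_zc ▸ I.ι_ne zc_inv
  have hzz : z * z = 1 := I.ι_zc ▸ I.ι_sq zc_inv
  have hi : IsInv g' := I.isInv_of
    (by rw [hg', show c⁻¹ * z * c * (c⁻¹ * z * c) = c⁻¹ * (z * z) * c by group, hzz]; group)
    (by rw [hg']; intro e; exact hz1 (by
      calc z = c * (c⁻¹ * z * c) * c⁻¹ := by group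
        _ = 1 := by rw [e]; group))
  refine ⟨g', c, hi, fun h => h0 ?_, ⟨hc, hg'.symm⟩⟩
  have e1 : c⁻¹ * z * c = z := by rw [← hg', eq_zc_of_tag hi h, ι_zc]
  have e2 : c * z * c⁻¹ = z := by
    calc c * z * c⁻¹ = c * (c⁻¹ * z * c) * c⁻¹ := by rw [e1]
      _ = z := by group
  have : g = zc := I.ι_inj (by rw [← hc, e2, ι_zc])
  rw [this, tag_zc]

variable {I}

theorem Rev.symm {g g' : Mdl} {c : G} (R : I.Rev g g' c) : I.Rev g' g c⁻¹ :=
  ⟨by rw [inv_inv]; exact R.bwd, by rw [inv_inv]; exact R.fwd⟩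

theorem Rev.zType {g g' : Mdl} {c : G} (R : I.Rev g g' c) : I.ZType g :=
  isConj_iff.2 ⟨c, R.fwd⟩

theorem Rev.conj_zc {g g' : Mdl} {c : G} (R : I.Rev g g' c) : c⁻¹ * I.ι g * c = z := by
  rw [← R.fwd]; group

/-- Two reversals of the same involution end in conjugate involutions. -/
theorem Rev.unique {g g' g'' : Mdl} {c d : G} (R : I.Rev g g' c) (R' : I.Rev g g'' d) :
    ∃ k : Mdl, k * g'' * k⁻¹ = g' := by
  have h : (c⁻¹ * d) * z = z * (c⁻¹ * d) := by
    calc c⁻¹ * d * z = c⁻¹ * (d * z * d⁻¹) * d := by group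
      _ = c⁻¹ * (c * z * c⁻¹) * d := by rw [R'.fwd, R.fwd]
      _ = _ := by group
  obtain ⟨k, hk⟩ := I.exists_ι h
  refine ⟨k, I.ι_inj ?_⟩
  rw [map_mul, map_mul, map_inv, hk, ← R.bwd, ← R'.bwd]
  group

/-- A conjugate of a reversal. -/
theorem Rev.conj {g g' : Mdl} {c : G} (R : I.Rev g g' c) (k : Mdl) :
    I.Rev (k * g * k⁻¹) g' (I.ι k * c) := by
  refine ⟨?_, ?_⟩
  · rw [map_mul, map_mul, map_inv, ← R.fwd]; group
  · rw [← R.bwd, show (I.ι k * c)⁻¹ * z * (I.ι k * c) = c⁻¹ * ((I.ι k)⁻¹ * (z * I.ι k)) * c by group,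
      ← I.ι_comm k]
    group

/-- Elements centralizing both move to elements centralizing both. -/
theorem Rev.transport {g g' : Mdl} {c : G} (R : I.Rev g g' c) {q : Mdl} (hq : q * g = g * q) :
    ∃ q' : Mdl, q' * g' = g' * q' ∧ I.ι q' = c⁻¹ * I.ι q * c := by
  obtain ⟨q', hq'⟩ := I.exists_ι (x := c⁻¹ * I.ι q * c) (by
    calc c⁻¹ * I.ι q * c * z = c⁻¹ * (I.ι q * (c * z * c⁻¹)) * c := by group
      _ = c⁻¹ * (c * z * c⁻¹ * I.ι q) * c := by rw [R.fwd, I.ι_comm_iff.2 hq]
      _ = _ := by group)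
  refine ⟨q', I.ι_comm_iff.1 ?_, hq'⟩
  rw [hq', ← R.bwd]
  calc c⁻¹ * I.ι q * c * (c⁻¹ * z * c) = c⁻¹ * (I.ι q * z) * c := by group
    _ = _ := by rw [I.ι_comm q]; group

/-- The centralizer of the involution and of its reversal have the same order. -/
theorem Rev.card_cent {g g' : Mdl} {c : G} (R : I.Rev g g' c) :
    Nat.card (Subgroup.centralizer ({g} : Set Mdl)) = Nat.card (Subgroup.centralizer ({g'} : Set Mdl)) := by
  classical
  have key : ∀ {g g' : Mdl} {c : G}, I.Rev g g' c →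
      Nat.card (Subgroup.centralizer ({g} : Set Mdl)) ≤ Nat.card (Subgroup.centralizer ({g'} : Set Mdl)) := by
    intro g g' c R
    choose f hf1 hf2 using fun q : Subgroup.centralizer ({g} : Set Mdl) =>
      R.transport (Subgroup.mem_centralizer_singleton_iff.1 q.2)
    refine Nat.card_le_card_of_injective
      (fun q => (⟨f q, Subgroup.mem_centralizer_singleton_iff.2 (hf1 q)⟩ : Subgroup.centralizer ({g'} : Set Mdl)))
      fun q r h => Subtype.ext (I.ι_inj ?_)
    have h' : I.ι (f q) = I.ι (f r) := congrArg (fun x : Subgroup.centralizer ({g'} : Set Mdl) => I.ι x) h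
    rw [hf2, hf2] at h'
    exact mul_left_cancel (mul_right_cancel h')
  exact le_antisymm (key R) (key R.symm)

/-- The possible classes of a reversal. -/
theorem Rev.tag_cent {g g' : Mdl} {c : G} (R : I.Rev g g' c) (hg : IsInv g) (hg' : IsInv g') :
    ([21504, 1536, 1536, 512, 256, 256, 128, 128] : List ℕ).getD (tag g) 0 =
      [21504, 1536, 1536, 512, 256, 256, 128, 128].getD (tag g') 0 := by
  rw [← card_cent_eq hg, ← card_cent_eq hg', R.card_cent]

variable (I)

/-- The fourth class is not conjugate to the centre. -/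
theorem not_zType_three : ¬ I.ZType (rep 3) := by
  intro h
  obtain ⟨g', c, hg', -, R⟩ := I.exists_rev (isInv_rep (by norm_num)) (by rw [tag_rep (by norm_num)]; norm_num) h
  have ht : tag g' = 3 := by
    have := R.tag_cent (isInv_rep (by norm_num)) hg'
    rw [tag_rep (by norm_num)] at this
    have h8 := tag_lt hg'
    generalize tag g' = i at this h8
    interval_cases i <;> simp_all
  obtain ⟨k, hk⟩ := exists_conj_of_tag_eq hg' (isInv_rep (show 3 < 8 by norm_num))
    (by rw [ht, tag_rep (by norm_num)])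
  -- the roots of the centre go to the roots of the reversed involution
  have key : ∀ q : {q : Mdl // q * rep 3 = rep 3 * q ∧ q * q = zc},
      ∃ r : {q : Mdl // q * rep 3 = rep 3 * q ∧ q * q = rep 3},
        I.ι r = I.ι k * (c⁻¹ * I.ι q * c) * (I.ι k)⁻¹ := by
    intro q
    obtain ⟨q', hq', hq''⟩ := R.transport q.2.1
    have hqq : q' * q' = g' := I.ι_inj (by
      rw [map_mul, hq'', show c⁻¹ * I.ι q * c * (c⁻¹ * I.ι q * c) = c⁻¹ * (I.ι q * I.ι q) * c by group,
        ← map_mul, q.2.2, ι_zc, R.bwd])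
    refine ⟨⟨k * q' * k⁻¹, ?_, ?_⟩, by rw [map_mul, map_mul, map_inv, hq'']⟩
    · rw [← hk, show k * q' * k⁻¹ * (k * g' * k⁻¹) = k * (q' * g') * k⁻¹ by group, hq']; group
    · rw [← hk, ← hqq]; group
  choose f hf using key
  have := Nat.card_le_card_of_injective f fun q r h => Subtype.ext (I.ι_inj (by
    have h' := congrArg (fun x : {q : Mdl // q * rep 3 = rep 3 * q ∧ q * q = rep 3} => I.ι x) h
    simp only [hf] at h'
    exact mul_left_cancel (mul_right_cancel (mul_left_cancel (mul_right_cancel h')))))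
  rw [card_W_roots_z, card_W_roots_self] at this
  omega

/-- The sixth class is not conjugate to the centre. -/
theorem not_zType_five : ¬ I.ZType (rep 5) := by
  intro h
  obtain ⟨g', c, hg', -, R⟩ := I.exists_rev (isInv_rep (by norm_num)) (by rw [tag_rep (by norm_num)]; norm_num) h
  have ht : tag g' = 4 ∨ tag g' = 5 := by
    have := R.tag_cent (isInv_rep (by norm_num)) hg'
    rw [tag_rep (by norm_num)] at this
    have h8 := tag_lt hg'
    generalize tag g' = i at this h8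
    interval_cases i <;> simp_all
  obtain ⟨q, hq, hqq⟩ := root_four_five hg' ht
  obtain ⟨r, hr, hr'⟩ := R.symm.transport hq
  refine five_noroot hr (I.ι_inj ?_)
  rw [map_mul, hr', inv_inv, show c * I.ι q * c⁻¹ * (c * I.ι q * c⁻¹) = c * (I.ι q * I.ι q) * c⁻¹ by group,
    ← map_mul, hqq, ι_zc, R.fwd]

/-- An element exchanging `z` and the second representative, if they are conjugate. -/
theorem exists_swap_of_zType (hz1 : I.ZType (rep 1)) : ∃ s : G, s * I.ι (rep 1) * s⁻¹ = z ∧ s * z * s⁻¹ = I.ι (rep 1) := by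
  have h1 := isInv_rep (show 1 < 8 by norm_num)
  have t1 : tag (rep 1) = 1 := tag_rep (by norm_num)
  obtain ⟨g', c, hg', -, R⟩ := I.exists_rev h1 (by omega) hz1
  have hY : tag g' = 1 ∨ tag g' = 2 := by
    have := R.tag_cent h1 hg'
    rw [t1] at this
    have h8 := tag_lt hg'
    generalize tag g' = i at this h8
    interval_cases i <;> simp_all
  obtain ⟨hzg, hzgt⟩ := tag_zmul hg' (by omega)
  obtain ⟨hzr, hzrt⟩ := tag_zmul h1 (by omega)
  obtain ⟨k, hk⟩ := exists_conj_of_tag_eq h1 hzr (by rw [hzrt, t1]; rfl)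
  have hkk : k⁻¹ * rep 1 * k = zc * rep 1 := by
    calc k⁻¹ * rep 1 * k = k⁻¹ * (zc * (zc * rep 1)) * k := by rw [← mul_assoc zc, zc_inv.1, one_mul]
      _ = k⁻¹ * (zc * (k * rep 1 * k⁻¹)) * k := by rw [hk]
      _ = _ := by rw [← mul_assoc zc, ← mul_assoc zc, ← zc_comm k]; group
  -- the reversal of `zc * g'`
  have R3 : I.Rev (zc * g') (zc * g') (c⁻¹ * I.ι k * c) := by
    constructor
    · calc c⁻¹ * I.ι k * c * z * (c⁻¹ * I.ι k * c)⁻¹
          = c⁻¹ * (I.ι k * (c * z * c⁻¹) * (I.ι k)⁻¹) * c := by group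
        _ = c⁻¹ * (z * (c * z * c⁻¹)) * c := by
          rw [R.fwd, ← map_inv, ← map_mul, ← map_mul, hk, map_mul, ι_zc]
        _ = c⁻¹ * z * c * z := by group
        _ = _ := by rw [R.bwd, map_mul, ι_zc, I.ι_comm g']
    · calc (c⁻¹ * I.ι k * c)⁻¹ * z * (c⁻¹ * I.ι k * c)
          = c⁻¹ * ((I.ι k)⁻¹ * (c * z * c⁻¹) * I.ι k) * c := by group
        _ = c⁻¹ * (z * (c * z * c⁻¹)) * c := by
          rw [R.fwd, ← map_inv, ← map_mul, ← map_mul, hkk, map_mul, ι_zc]
        _ = c⁻¹ * z * c * z := by group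
        _ = _ := by rw [R.bwd, map_mul, ι_zc, I.ι_comm g']
  obtain ⟨j, hj⟩ := exists_conj_of_tag_eq hg' hzg (by rw [hzgt]; rcases hY with h | h <;> rw [h] <;> rfl)
  obtain ⟨l, hl⟩ := Rev.unique R3 (hj ▸ Rev.conj R.symm j)
  have ht : tag g' = 1 := by
    have := tag_conj h1 l
    rw [hl, hzgt, t1] at this
    rcases hY with h | h
    · exact h
    · rw [h] at this; simp [swap45] at this
  obtain ⟨n, hn⟩ := exists_conj_of_tag_eq hg' h1 (by rw [ht, t1])
  refine ⟨I.ι n * c⁻¹, ?_, ?_⟩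
  · calc I.ι n * c⁻¹ * I.ι (rep 1) * (I.ι n * c⁻¹)⁻¹ = I.ι n * (c⁻¹ * I.ι (rep 1) * c) * (I.ι n)⁻¹ := by group
      _ = I.ι n * z * (I.ι n)⁻¹ := by rw [R.conj_zc]
      _ = _ := by rw [I.ι_comm n, mul_inv_cancel_right]
  · calc I.ι n * c⁻¹ * z * (I.ι n * c⁻¹)⁻¹ = I.ι n * (c⁻¹ * z * c) * (I.ι n)⁻¹ := by group
      _ = _ := by rw [R.bwd, ← map_inv, ← map_mul, ← map_mul, hn]

variable [Finite G] (hG2 : (Nat.card G).factorization 2 = 10)
include I hG2

/-- A Sylow subgroup of the model gives one of the group. -/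
theorem exists_sylow : ∃ (P : Sylow 2 Mdl) (S : Sylow 2 G), (S : Subgroup G) = (P : Subgroup Mdl).map I.ι ∧
    Nat.card (P : Subgroup Mdl) = 2 ^ 10 := by
  obtain ⟨P⟩ : Nonempty (Sylow 2 Mdl) := inferInstance
  have : Fact (Nat.Prime 2) := ⟨Nat.prime_two⟩
  have hP : Nat.card (P : Subgroup Mdl) = 2 ^ 10 := by
    rw [Sylow.card_eq_multiplicity, card_mdl, show 21504 = 2 ^ 10 * 21 by norm_num,
      Nat.factorization_mul (by norm_num) (by norm_num), Finsupp.add_apply,
      Nat.prime_two.factorization_pow, Finsupp.single_eq_same, Nat.factorization_eq_zero_of_not_dvd (by norm_num)]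
  refine ⟨P, Sylow.ofCard ((P : Subgroup Mdl).map I.ι) ?_, rfl, hP⟩
  rw [Subgroup.card_map_of_injective I.ι_inj, hP, hG2]

/-- A two-group centralizing an involution not conjugate to `z` has order at most `512`. -/
theorem card_two_le {t : G} (ht : t * t = 1) (ht1 : t ≠ 1) (hnz : ¬ IsConj z t) (P : Subgroup G)
    (hP : IsPGroup 2 P) (hPt : ∀ p ∈ P, p * t = t * p) : Nat.card P ≤ 512 := by
  classical
  have : Fact (Nat.Prime 2) := ⟨Nat.prime_two⟩
  obtain ⟨k, hk⟩ := IsPGroup.iff_card.1 hP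
  by_contra hgt
  have hk10 : k ≤ 10 := by
    have := Subgroup.card_subgroup_dvd_card P
    rw [hk, Nat.prime_two.pow_dvd_iff_le_factorization Nat.card_pos.ne', hG2] at this
    exact this
  have hk' : k = 10 := by
    by_contra hne
    exact hgt (by rw [hk]; exact (Nat.pow_le_pow_right two_pos (show k ≤ 9 by omega)).trans (by norm_num))
  subst hk'
  let S : Sylow 2 G := Sylow.ofCard P (by rw [hk, hG2])
  have htS : t ∈ P := by
    have hT : IsPGroup 2 ↥(Subgroup.zpowers t) := by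
      refine IsPGroup.of_card (n := 1) ?_
      rw [Nat.card_zpowers, pow_one]
      exact orderOf_eq_prime (by rw [pow_two, ht]) ht1
    have hnorm : Subgroup.zpowers t ≤ Subgroup.normalizer (P : Set G) := by
      rw [Subgroup.zpowers_le]
      refine Subgroup.mem_normalizer_iff.2 fun p => ⟨fun hp => ?_, fun hp => ?_⟩
      · show t * p * t⁻¹ ∈ P
        rwa [← hPt p hp, mul_inv_cancel_right]
      · have h := hPt _ hp
        have : t * p * t⁻¹ = p := by
          have h2 : t * p * t⁻¹ * t = t * (t * p * t⁻¹) := h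
          calc t * p * t⁻¹ = (t * t) * (t * p * t⁻¹) := by rw [ht, one_mul]
            _ = t * (t * (t * p * t⁻¹)) := by rw [mul_assoc t t]
            _ = t * (t * p * t⁻¹ * t) := by rw [← h2]
            _ = (t * t) * p := by group
            _ = p := by rw [ht, one_mul]
        rwa [this] at hp
    have hle := S.3 (hT.to_sup_of_normal_right' hP hnorm) le_sup_right
    exact hle.le (Subgroup.mem_sup_left (Subgroup.mem_zpowers t))
  obtain ⟨Q, S', hS', hQ⟩ := I.exists_sylow hG2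
  obtain ⟨d, hd⟩ := MulAction.exists_smul_eq G S S'
  have hdt : d * t * d⁻¹ ∈ (Q : Subgroup Mdl).map I.ι := by
    rw [← hS', ← hd, Sylow.coe_subgroup_smul]
    exact Subgroup.smul_mem_pointwise_smul t (MulAut.conj d) _ htS
  obtain ⟨g, hgQ, hg⟩ := Subgroup.mem_map.1 hdt
  have hle : (Q : Subgroup Mdl) ≤ Subgroup.centralizer ({g} : Set Mdl) := by
    intro q hq
    refine Subgroup.mem_centralizer_singleton_iff.2 (I.ι_comm_iff.1 ?_)
    have hmem : I.ι q ∈ ((S' : Sylow 2 G) : Subgroup G) := hS' ▸ Subgroup.mem_map_of_mem _ hq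
    rw [← hd, Sylow.coe_subgroup_smul, Subgroup.mem_pointwise_smul_iff_inv_smul_mem] at hmem
    have h := hPt _ hmem
    have e : ((MulAut.conj d)⁻¹ • I.ι q : G) = d⁻¹ * I.ι q * d := by
      rw [← map_inv]; simp [MulAut.smul_def, MulAut.conj_apply]
    rw [e] at h
    rw [hg]
    calc I.ι q * (d * t * d⁻¹) = d * (d⁻¹ * I.ι q * d * t) * d⁻¹ := by group
      _ = _ := by rw [h]; group
  have hgi : IsInv g := I.isInv_of
    (by rw [hg, show d * t * d⁻¹ * (d * t * d⁻¹) = d * (t * t) * d⁻¹ by group, ht]; group)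
    (by rw [hg]; exact fun e => ht1 (conj_eq_one_iff.1 e))
  have hdvd := Subgroup.card_dvd_of_le hle
  rw [hQ, card_cent_eq hgi] at hdvd
  have h8 := tag_lt hgi
  have : tag g = 0 := by
    generalize tag g = i at hdvd h8
    interval_cases i <;> simp_all
  refine hnz ((isConj_iff.2 ⟨d⁻¹, ?_⟩ : IsConj z t))
  rw [← I.ι_zc, ← eq_zc_of_tag hgi this, hg]
  group

variable (htwo : ∃ x y : G, orderOf x = 2 ∧ orderOf y = 2 ∧ ¬ IsConj x y ∧
  ∀ w : G, orderOf w = 2 → IsConj w x ∨ IsConj w y)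
include htwo

omit hG2 [Finite G] in
/-- The other class. -/
theorem isConj_of_not {s t : G} (hs : s * s = 1) (hs1 : s ≠ 1) (ht : t * t = 1) (ht1 : t ≠ 1)
    (hsz : ¬ IsConj z s) (htz : ¬ IsConj z t) : IsConj s t := by
  have : Fact (Nat.Prime 2) := ⟨Nat.prime_two⟩
  have ord : ∀ w : G, w * w = 1 → w ≠ 1 → orderOf w = 2 := fun w h h1 =>
    orderOf_eq_prime (by rw [pow_two, h]) h1
  obtain ⟨x, y, -, -, -, hall⟩ := htwo
  have hz := hall z (ord z (I.ι_zc ▸ I.ι_sq zc_inv) (I.ι_zc ▸ I.ι_ne zc_inv))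
  rcases hall s (ord s hs hs1) with hs' | hs' <;> rcases hall t (ord t ht ht1) with ht' | ht' <;>
    rcases hz with hz | hz
  all_goals first
    | exact hs'.trans ht'.symm
    | exact absurd (hz.trans hs'.symm) hsz
    | exact absurd (hz.trans ht'.symm) htz

/-- The two classes in `Q` with centralizers of order `1536` are conjugate to the centre. -/
theorem zType_side {i : ℕ} (hi : i = 1 ∨ i = 2) : I.ZType (rep i) := by
  classical
  have : Fact (Nat.Prime 2) := ⟨Nat.prime_two⟩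
  have hi8 : i < 8 := by omega
  by_contra hz
  have h3 := isInv_rep (show 3 < 8 by norm_num)
  have hir := isInv_rep hi8
  obtain ⟨c, hc⟩ := isConj_iff.1 (I.isConj_of_not htwo (I.ι_sq hir) (I.ι_ne hir) (I.ι_sq h3)
    (I.ι_ne h3) hz I.not_zType_three)
  set Y := Subgroup.centralizer ({I.ι (rep 3)} : Set G)
  set C3 := (Subgroup.centralizer ({rep 3} : Set Mdl)).map I.ι with hC3
  have hC3le : C3 ≤ Y := by
    rintro _ ⟨q, hq, rfl⟩
    exact Subgroup.mem_centralizer_singleton_iff.2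
      (I.ι_comm_iff.2 (Subgroup.mem_centralizer_singleton_iff.1 hq))
  have hC3card : Nat.card C3 = 512 := by
    rw [hC3, Subgroup.card_map_of_injective I.ι_inj, card_cent_eq h3, tag_rep (by norm_num)]
    rfl
  -- a subgroup of order `512` in the centralizer
  obtain ⟨P, hPcard⟩ : ∃ P : Subgroup (Subgroup.centralizer ({rep i} : Set Mdl)), Nat.card P = 2 ^ 9 := by
    refine Sylow.exists_subgroup_card_pow_prime 2 ?_
    rw [card_cent_eq hir, tag_rep hi8]
    rcases hi with rfl | rfl <;> exact ⟨3, rfl⟩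
  set P1 := ((P.map (Subgroup.centralizer ({rep i} : Set Mdl)).subtype).map I.ι).map (MulAut.conj c).toMonoidHom
  have hP1card : Nat.card P1 = 512 := by
    rw [Subgroup.card_map_of_injective (MulAut.conj c).injective, Subgroup.card_map_of_injective I.ι_inj,
      Subgroup.card_map_of_injective Subtype.val_injective, hPcard]
    rfl
  have hP1le : P1 ≤ Y := by
    rintro _ ⟨_, ⟨_, ⟨q, -, rfl⟩, rfl⟩, rfl⟩
    refine Subgroup.mem_centralizer_singleton_iff.2 ?_
    show c * I.ι q * c⁻¹ * I.ι (rep 3) = I.ι (rep 3) * (c * I.ι q * c⁻¹)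
    rw [← hc]
    calc c * I.ι q * c⁻¹ * (c * I.ι (rep i) * c⁻¹) = c * (I.ι q * I.ι (rep i)) * c⁻¹ := by group
      _ = _ := by rw [I.ι_comm_iff.2 (Subgroup.mem_centralizer_singleton_iff.1 q.2)]; group
  have hY9 : (Nat.card Y).factorization 2 = 9 := by
    apply le_antisymm
    · obtain ⟨T⟩ : Nonempty (Sylow 2 Y) := inferInstance
      have h := I.card_two_le hG2 (I.ι_sq h3) (I.ι_ne h3) I.not_zType_three ((T : Subgroup Y).map Y.subtype)
        (T.2.map _) (by
          rintro _ ⟨p, -, rfl⟩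
          exact Subgroup.mem_centralizer_singleton_iff.1 p.2)
      rw [Subgroup.card_map_of_injective Subtype.val_injective, T.card_eq_multiplicity] at h
      exact (Nat.pow_le_pow_iff_right (le_refl 2)).1 (h.trans (by norm_num : 512 ≤ 2 ^ 9))
    · rw [← Nat.prime_two.pow_dvd_iff_le_factorization Nat.card_pos.ne', show 2 ^ 9 = 512 from rfl, ← hC3card]
      exact Subgroup.card_dvd_of_le hC3le
  let S1 : Sylow 2 Y := Sylow.ofCard (P1.subgroupOf Y) (by
    rw [Nat.card_congr (Subgroup.subgroupOfEquivOfLe hP1le).toEquiv, hP1card, hY9]; rfl)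
  let S3 : Sylow 2 Y := Sylow.ofCard (C3.subgroupOf Y) (by
    rw [Nat.card_congr (Subgroup.subgroupOfEquivOfLe hC3le).toEquiv, hC3card, hY9]; rfl)
  obtain ⟨d, hd⟩ := MulAction.exists_smul_eq Y S1 S3
  have hsub : ∀ p ∈ P1, (d : G) * p * (d : G)⁻¹ ∈ C3 := by
    intro p hp
    have h : d * ⟨p, hP1le hp⟩ * d⁻¹ ∈ (S3 : Subgroup Y) := by
      rw [← hd, Sylow.coe_subgroup_smul]
      exact Subgroup.smul_mem_pointwise_smul (⟨p, hP1le hp⟩ : Y) (MulAut.conj d) _
        (show (⟨p, hP1le hp⟩ : Y) ∈ P1.subgroupOf Y from hp)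
    exact h
  set g : G := (d : G) * c with hgdef
  have hga : g * I.ι (rep i) * g⁻¹ = I.ι (rep 3) := by
    rw [hgdef, show (d : G) * c * I.ι (rep i) * ((d : G) * c)⁻¹ = d * (c * I.ι (rep i) * c⁻¹) * (d : G)⁻¹ by
      group, hc, Subgroup.mem_centralizer_singleton_iff.1 d.2, mul_inv_cancel_right]
  -- the centre of the model lies in the subgroup
  have hzP : zc ∈ P.map (Subgroup.centralizer ({rep i} : Set Mdl)).subtype := by
    have hmem : zc ∈ (Subgroup.centralizer ({rep i} : Set Mdl)) := Subgroup.mem_centralizer_singleton_iff.2 (zc_comm (rep i)).symm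
    refine ⟨⟨zc, hmem⟩, ?_, rfl⟩
    have hf : (Nat.card (Subgroup.centralizer ({rep i} : Set Mdl))).factorization 2 = 9 := by
      rw [card_cent_eq hir, tag_rep hi8]
      rcases hi with rfl | rfl <;>
        (show (1536 : ℕ).factorization 2 = 9
         rw [show 1536 = 2 ^ 9 * 3 by norm_num, Nat.factorization_mul (by norm_num) (by norm_num),
           Finsupp.add_apply, Nat.prime_two.factorization_pow, Finsupp.single_eq_same,
           Nat.factorization_eq_zero_of_not_dvd (by norm_num)])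
    let T : Sylow 2 (Subgroup.centralizer ({rep i} : Set Mdl)) := Sylow.ofCard P (hPcard.trans (by rw [hf]))
    set w : (Subgroup.centralizer ({rep i} : Set Mdl)) := ⟨zc, hmem⟩
    have hw2 : IsPGroup 2 ↥(Subgroup.zpowers w) := by
      refine IsPGroup.of_card (n := 1) ?_
      rw [Nat.card_zpowers, pow_one]
      exact orderOf_eq_prime (by rw [pow_two]; exact Subtype.ext zc_inv.1)
        fun e => zc_inv.2 (congrArg Subtype.val e)
    haveI : (Subgroup.zpowers w).Normal := ⟨fun m hm q => by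
      obtain ⟨j, rfl⟩ := hm
      exact ⟨j, by
        show w ^ j = q * w ^ j * q⁻¹
        rw [← conj_zpow, show q * w * q⁻¹ = w from Subtype.ext (by
          show (q : Mdl) * zc * (q : Mdl)⁻¹ = zc
          rw [zc_comm, mul_inv_cancel_right])]⟩⟩
    have hle := T.3 (hw2.to_sup_of_normal_left T.2) le_sup_right
    exact hle.le (Subgroup.mem_sup_left (Subgroup.mem_zpowers w))
  have hy : g * z * g⁻¹ ∈ C3 := by
    have := hsub (c * I.ι zc * c⁻¹) ⟨I.ι zc, ⟨zc, hzP, rfl⟩, rfl⟩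
    rw [ι_zc] at this
    rw [hgdef]
    rwa [show (d : G) * c * z * ((d : G) * c)⁻¹ = d * (c * z * c⁻¹) * (d : G)⁻¹ by group]
  obtain ⟨q, hq, hqe⟩ := hy
  have hqi : IsInv q := I.isInv_of
    (by rw [hqe, show g * z * g⁻¹ * (g * z * g⁻¹) = g * (z * z) * g⁻¹ by group, ← ι_zc I, I.ι_sq zc_inv]; group)
    (by rw [hqe]; exact fun e => I.ι_ne zc_inv (by rw [ι_zc]; exact conj_eq_one_iff.1 e))
  have hqz : I.ZType q := isConj_iff.2 ⟨g, hqe.symm⟩
  -- it commutes with the whole centralizer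
  have hC3eq : P1.map (MulAut.conj (d : G)).toMonoidHom = C3 := by
    refine Subgroup.eq_of_le_of_card_ge ?_ (le_of_eq ?_)
    · rintro _ ⟨p, hp, rfl⟩; exact hsub p hp
    · rw [← Nat.card_congr (P1.equivMapOfInjective (MulAut.conj (d : G)).toMonoidHom
        (MulAut.conj (d : G)).injective).toEquiv, hC3card, hP1card]
  have hcent : ∀ r : Mdl, r * rep 3 = rep 3 * r → q * r = r * q := by
    intro r hr
    have hr' : I.ι r ∈ C3 := ⟨r, Subgroup.mem_centralizer_singleton_iff.2 hr, rfl⟩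
    rw [← hC3eq] at hr'
    obtain ⟨_, ⟨_, ⟨s, -, rfl⟩, rfl⟩, hrs⟩ := hr'
    have e : I.ι r = g * I.ι s * g⁻¹ := by
      rw [← hrs]; show (d : G) * (c * I.ι s * c⁻¹) * (d : G)⁻¹ = _
      rw [hgdef]; group
    refine I.ι_comm_iff.1 ?_
    rw [hqe, e]
    calc g * z * g⁻¹ * (g * I.ι s * g⁻¹) = g * (z * I.ι s) * g⁻¹ := by group
      _ = _ := by rw [← I.ι_comm s]; group
  rcases centre_W hqi (Subgroup.mem_centralizer_singleton_iff.1 hq) hcent with rfl | rfl | rfl
  · have hcz : g * z = z * g := by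
      rw [ι_zc] at hqe
      exact mul_inv_eq_iff_eq_mul.1 hqe.symm
    obtain ⟨k, hk⟩ := I.exists_ι hcz
    have := tag_conj hir k
    rw [show k * rep i * k⁻¹ = rep 3 from I.ι_inj (by rw [map_mul, map_mul, map_inv, hk, hga]),
      tag_rep (by norm_num), tag_rep hi8] at this
    omega
  · exact I.not_zType_three hqz
  · obtain ⟨h1, h2⟩ := tag_zmul h3 (by rw [tag_rep (by norm_num)]; norm_num)
    rw [tag_rep (by norm_num)] at h2
    exact I.not_zType_three ((I.zType_iff_of_tag h1 h3 (by rw [h2, tag_rep (by norm_num)]; rfl)).1 hqz)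

/-- An element exchanging `z` and the second representative. -/
theorem exists_swap : ∃ s : G, s * I.ι (rep 1) * s⁻¹ = z ∧ s * z * s⁻¹ = I.ι (rep 1) :=
  I.exists_swap_of_zType (I.zType_side hG2 htwo (Or.inl rfl))

omit hG2 htwo [Finite G] in
/-- The exchange carries the common centralizer to itself. -/
theorem swap_transport {s : G} (hs : s * I.ι (rep 1) * s⁻¹ = z) (hs' : s * z * s⁻¹ = I.ι (rep 1)) {q : Mdl}
    (hq : q * rep 1 = rep 1 * q) : ∃ q' : Mdl, q' * rep 1 = rep 1 * q' ∧ I.ι q' = s * I.ι q * s⁻¹ := by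
  obtain ⟨q', hq'⟩ := I.exists_ι (x := s * I.ι q * s⁻¹) (by
    have key : s * I.ι q * s⁻¹ * (s * I.ι (rep 1) * s⁻¹) = s * I.ι (rep 1) * s⁻¹ * (s * I.ι q * s⁻¹) := by
      calc s * I.ι q * s⁻¹ * (s * I.ι (rep 1) * s⁻¹) = s * (I.ι q * I.ι (rep 1)) * s⁻¹ := by group
        _ = _ := by rw [I.ι_comm_iff.2 hq]; group
    rwa [hs] at key)
  refine ⟨q', I.ι_comm_iff.1 ?_, hq'⟩
  rw [hq', ← hs']
  calc s * I.ι q * s⁻¹ * (s * z * s⁻¹) = s * (I.ι q * z) * s⁻¹ := by group
    _ = _ := by rw [I.ι_comm q]; group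

/-- The fifth class is conjugate to the centre. -/
theorem zType_four : I.ZType (rep 4) := by
  obtain ⟨s, hs, hs'⟩ := I.exists_swap hG2 htwo
  obtain ⟨y, hy, hy2, hyc, hyr, hyr3⟩ := exists_witness
  obtain ⟨y', -, hy'⟩ := I.swap_transport hs hs' hyc
  have hyz : I.ZType y := (I.zType_iff_rep hy).2 (hy2 ▸ I.zType_side hG2 htwo (Or.inr rfl))
  have hy'i : IsInv y' := I.isInv_of
    (by rw [hy', show s * I.ι y * s⁻¹ * (s * I.ι y * s⁻¹) = s * (I.ι y * I.ι y) * s⁻¹ by group, I.ι_sq hy]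
        group)
    (by rw [hy']; exact fun e => I.ι_ne hy (conj_eq_one_iff.1 e))
  have hy'z : I.ZType y' := hyz.trans (isConj_iff.2 ⟨s, hy'.symm⟩)
  have hprod : I.ι (zc * y') = s * I.ι (y * rep 1) * s⁻¹ := by
    rw [map_mul, ι_zc, ← I.ι_comm y', hy', map_mul]
    calc s * I.ι y * s⁻¹ * z = s * I.ι y * s⁻¹ * (s * I.ι (rep 1) * s⁻¹) :=
          congrArg (s * I.ι y * s⁻¹ * ·) hs.symm
      _ = _ := by group
  have hnz : ¬ I.ZType (zc * y') := fun h => I.not_zType_three (by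
    have h' : I.ZType (y * rep 1) := h.trans (isConj_iff.2 ⟨s⁻¹, by rw [hprod]; group⟩)
    have := (I.zType_iff_rep hyr).1 h'
    rwa [hyr3] at this)
  by_contra h4
  have h8 := tag_lt hy'i
  have hrep := (I.zType_iff_rep hy'i).1 hy'z
  rcases eq_or_ne (tag y') 0 with h0 | h0
  · refine hyr.2 (I.ι_inj ?_)
    have e : I.ι (zc * y') = 1 := by rw [eq_zc_of_tag hy'i h0, zc_inv.1, map_one]
    rw [hprod] at e
    rw [map_one]; exact conj_eq_one_iff.1 e
  · obtain ⟨hzi, hzt⟩ := tag_zmul hy'i h0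
    have hne : tag y' ≠ 3 ∧ tag y' ≠ 5 ∧ tag y' ≠ 4 :=
      ⟨fun e => I.not_zType_three (e ▸ hrep), fun e => I.not_zType_five (e ▸ hrep), fun e => h4 (e ▸ hrep)⟩
    refine hnz ((I.zType_iff_of_tag hzi hy'i ?_).2 hy'z)
    rw [hzt, swap45, if_neg hne.2.2, if_neg hne.2.1]

end Iso

end Cfsg.Agent.HeLocal
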