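import Cfsg.Agent.Lib.HeLocal.FusionOct
import Mathlib.LinearAlgebra.Matrix.GeneralLinearGroup.Card
import Mathlib.Algebra.Module.ZMod

/-!
# The normalizer of the group of order sixteen induces its whole automorphism group

Two commuting elements of order three of the normalizer, each with a fixed point, whose product and quotient
are fixed-point-free and centralize an involution not conjugate to the centre.
-/

set_option autoImplicit false
set_option maxHeartbeats 400000

namespace Cfsg.Agent.HeLocal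

open Subgroup

namespace Coords

/-- Four-dimensional space. -/
abbrev V : Type := Fin 4 → ZMod 2

/-- Its linear group. -/
abbrev GLV : Type := Matrix.GeneralLinearGroup (Fin 4) (ZMod 2)

/-- An elementary abelian group of order sixteen is the four-dimensional space. -/
theorem nonempty_equiv_of_sq {A : Type*} [CommGroup A] (hA : ∀ a : A, a * a = 1) (hc : Nat.card A = 16) :
    Nonempty (Multiplicative V ≃* A) := by
  haveI : Finite A := Nat.finite_of_card_ne_zero (by omega)
  haveI : Finite (Additive A) := Finite.of_equiv A Additive.ofMul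
  letI : Module (ZMod 2) (Additive A) := AddCommGroup.zmodModule (fun x => by
    rw [two_nsmul]; exact congrArg Additive.ofMul (hA x.toMul))
  have h4 : Module.finrank (ZMod 2) (Additive A) = 4 := by
    have h := Module.natCard_eq_pow_finrank (K := ZMod 2) (V := Additive A)
    rw [Nat.card_congr (Additive.toMul (α := A)), hc, Nat.card_zmod] at h
    exact Nat.pow_right_injective (le_refl 2) (h.symm.trans (by norm_num))
  exact ⟨(AddEquiv.toMultiplicative
    (Module.finBasisOfFinrankEq (ZMod 2) (Additive A) h4).equivFun.symm.toAddEquiv).trans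
    (MulEquiv.multiplicativeAdditive A)⟩

/-- The linear map of an automorphism. -/
noncomputable def autLin : MulAut (Multiplicative V) →* LinearMap.GeneralLinearGroup (ZMod 2) V :=
  MonoidHom.toHomUnits
    { toFun := fun f => AddMonoidHom.toZModLinearMap 2
        { toFun := fun v : V => (f (Multiplicative.ofAdd v)).toAdd
          map_zero' := by rw [ofAdd_zero, map_one, toAdd_one]
          map_add' := fun v w => by rw [ofAdd_add, map_mul, toAdd_mul] }
      map_one' := rfl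
      map_mul' := fun _ _ => rfl }

theorem autLin_apply (f : MulAut (Multiplicative V)) (v : V) :
    (autLin f : V →ₗ[ZMod 2] V) v = (f (Multiplicative.ofAdd v)).toAdd := rfl

theorem autLin_injective : Function.Injective autLin := by
  intro f g h
  refine MulEquiv.ext fun v => Multiplicative.toAdd.injective ?_
  have := congrArg (fun u : LinearMap.GeneralLinearGroup (ZMod 2) V => (u : V →ₗ[ZMod 2] V) v.toAdd) h
  simpa only [autLin_apply, ofAdd_toAdd] using this

theorem card_GLV : Nat.card GLV = 20160 := by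
  rw [Matrix.card_GL_field, Fin.prod_univ_four, ZMod.card]
  rfl

/-- Units from a matrix and its inverse. -/
def mkGL (m m' : Matrix (Fin 4) (Fin 4) (ZMod 2)) (h : m * m' = 1 ∧ m' * m = 1) : GLV := ⟨m, m', h.1, h.2⟩

/-- A rotation of the first two coordinates. -/
def ga : GLV := mkGL !![0, 1, 0, 0; 1, 1, 0, 0; 0, 0, 1, 0; 0, 0, 0, 1]
  !![1, 1, 0, 0; 1, 0, 0, 0; 0, 0, 1, 0; 0, 0, 0, 1] (by decide +kernel)

/-- A rotation of the last two coordinates. -/
def gb : GLV := mkGL !![1, 0, 0, 0; 0, 1, 0, 0; 0, 0, 0, 1; 0, 0, 1, 1]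
  !![1, 0, 0, 0; 0, 1, 0, 0; 0, 0, 1, 1; 0, 0, 1, 0] (by decide +kernel)

/-- An involution centralizing the product. -/
def gs : GLV := mkGL !![0, 0, 1, 0; 0, 0, 0, 1; 1, 0, 0, 0; 0, 1, 0, 0]
  !![0, 0, 1, 0; 0, 0, 0, 1; 1, 0, 0, 0; 0, 1, 0, 0] (by decide +kernel)

/-- An involution centralizing the quotient. -/
def gs' : GLV := mkGL !![0, 0, 0, 1; 0, 0, 1, 0; 0, 1, 0, 0; 1, 0, 0, 0]
  !![0, 0, 0, 1; 0, 0, 1, 0; 0, 1, 0, 0; 1, 0, 0, 0] (by decide +kernel)

theorem gens_rel : ga * gb = gb * ga ∧ ga ^ 3 = 1 ∧ gb ^ 3 = 1 ∧ gs * gs = 1 ∧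
    gs * (ga * gb) = ga * gb * gs ∧ gs' * gs' = 1 ∧ gs' * (ga * gb⁻¹) = ga * gb⁻¹ * gs' := by
  decide +kernel

theorem gens_fix_a : ∃ v : V, v ≠ 0 ∧ ga.1.mulVec v = v := by decide +kernel

theorem gens_fix_b : ∃ v : V, v ≠ 0 ∧ gb.1.mulVec v = v := by decide +kernel

theorem gens_fpf : ∀ v : V, ((ga * gb).1.mulVec v = v → v = 0) ∧ ((ga * gb⁻¹).1.mulVec v = v → v = 0) := by
  decide +kernel

theorem gens_card : (Finset.univ.filter fun v : V => gs.1.mulVec v = v).card = 4 ∧
    (Finset.univ.filter fun v : V => gs'.1.mulVec v = v).card = 4 := by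
  decide +kernel

end Coords

open Coords

namespace Iso

variable {G : Type*} [Group G] {z : G} (I : Iso z)

theorem nonempty_vG : Nonempty (Multiplicative V ≃* ↥I.AG) :=
  letI : CommGroup ↥I.AG :=
    { (inferInstance : Group ↥I.AG) with mul_comm := fun a b => Subtype.ext (I.AG_comm a.2 b.2) }
  nonempty_equiv_of_sq (fun a => Subtype.ext (I.AG_sq a.2)) I.card_AG

/-- The vectors as elements of `G`. -/
noncomputable def vG : Multiplicative V ≃* ↥I.AG := I.nonempty_vG.some

/-- The automorphism of the space induced by an element of the normalizer. -/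
noncomputable def autV : ↥I.HN →* MulAut (Multiplicative V) :=
  (MulAut.congr I.vG.symm).toMonoidHom.comp I.AG.normalizerMonoidHom

/-- The linear action of the normalizer. -/
noncomputable def lin : ↥I.HN →* GLV :=
  (Matrix.GeneralLinearGroup.toLin (n := Fin 4) (R := ZMod 2)).symm.toMonoidHom.comp
    (autLin.comp I.autV)

theorem lin_apply (h : I.HN) (v : V) :
    ((I.vG (Multiplicative.ofAdd ((I.lin h).1.mulVec v)) : I.AG) : G) =
      h * (I.vG (Multiplicative.ofAdd v) : G) * (h : G)⁻¹ := by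
  have e : (I.lin h).1.mulVec v = (autLin (I.autV h) : V →ₗ[ZMod 2] V) v := by
    have := congrArg (fun u : LinearMap.GeneralLinearGroup (ZMod 2) V => (u : V →ₗ[ZMod 2] V) v)
      ((Matrix.GeneralLinearGroup.toLin (n := Fin 4) (R := ZMod 2)).apply_symm_apply (autLin (I.autV h)))
    exact this
  rw [e, autLin_apply, ofAdd_toAdd]
  show ((I.vG (I.vG.symm (I.AG.normalizerMonoidHom h (I.vG (Multiplicative.ofAdd v))))) : G) = _
  rw [MulEquiv.apply_symm_apply]
  rfl

theorem lin_eq_one_iff (h : I.HN) : I.lin h = 1 ↔ ∀ y ∈ I.AG, (h : G) * y = y * h := by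
  constructor
  · intro e y hy
    have := I.lin_apply h ((I.vG.symm ⟨y, hy⟩).toAdd)
    rw [e, Units.val_one, Matrix.one_mulVec, ofAdd_toAdd, MulEquiv.apply_symm_apply] at this
    exact mul_inv_eq_iff_eq_mul.1 this.symm
  · intro e
    refine Units.ext (Matrix.ext_of_mulVec_single fun i => ?_)
    refine Multiplicative.ofAdd.injective (I.vG.injective (Subtype.ext ?_))
    rw [I.lin_apply, Units.val_one, Matrix.one_mulVec, e _ (I.vG _).2, mul_inv_cancel_right]

/-- The fixed vectors of the image. -/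
theorem fixA_eq (h : I.HN) :
    I.fixA h = (Finset.univ.filter fun v : V => (I.lin h).1.mulVec v = v).card := by
  rw [← Fintype.card_subtype, ← Nat.card_eq_fintype_card, fixA]
  refine (Nat.card_congr (Equiv.ofBijective (fun v : {v : V // (I.lin h).1.mulVec v = v} =>
    (⟨I.vG (Multiplicative.ofAdd v.1), (I.vG _).2, by
      have := I.lin_apply h v.1
      rw [v.2] at this
      exact (mul_inv_eq_iff_eq_mul.1 this.symm).symm⟩ : {y : G // y ∈ I.AG ∧ y * (h : G) = (h : G) * y}))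
    ⟨fun a b e => ?_, ?_⟩)).symm
  · exact Subtype.ext (Multiplicative.ofAdd.injective (I.vG.injective (Subtype.ext (Subtype.mk_eq_mk.1 e))))
  · rintro ⟨y, hy, hc⟩
    refine ⟨⟨(I.vG.symm ⟨y, hy⟩).toAdd, Multiplicative.ofAdd.injective (I.vG.injective (Subtype.ext ?_))⟩,
      Subtype.ext ?_⟩
    · rw [I.lin_apply, ofAdd_toAdd, MulEquiv.apply_symm_apply]
      show (h : G) * y * (h : G)⁻¹ = y
      rw [← hc, mul_inv_cancel_right]
    · show ((I.vG (Multiplicative.ofAdd (I.vG.symm ⟨y, hy⟩).toAdd)) : G) = y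
      rw [ofAdd_toAdd, MulEquiv.apply_symm_apply]

variable [Finite G]

theorem cent_AG {h : G} (hz : ∀ y ∈ I.AG, h * y = y * h) : h ∈ I.AG := by
  obtain ⟨g, rfl⟩ := I.exists_ι (hz z I.z_mem_AG)
  exact I.ι_mem_AG.2 (cent_A fun a ha => I.ι_comm_iff.1 (hz _ (I.ι_mem_AG.2 ha)))

theorem mem_lin_ker {h : I.HN} : I.lin h = 1 ↔ (h : G) ∈ I.AG :=
  (I.lin_eq_one_iff h).trans ⟨I.cent_AG, fun hh y hy => I.AG_comm hh hy⟩

variable (hG2 : (Nat.card G).factorization 2 = 10)
  (htwo : ∃ x y : G, orderOf x = 2 ∧ orderOf y = 2 ∧ ¬ IsConj x y ∧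
    ∀ w : G, orderOf w = 2 → IsConj w x ∨ IsConj w y) (h6 : ¬ I.ZType (rep 6))
include hG2 htwo h6

theorem lin_surjective : Function.Surjective I.lin := by
  have hk : Nat.card I.lin.ker = 16 := by
    rw [show I.lin.ker = I.AG.subgroupOf I.HN from Subgroup.ext fun h => I.mem_lin_ker,
      Nat.card_congr (subgroupOfEquivOfLe I.AG_le_HN).toEquiv, I.card_AG]
  have h := I.lin.ker.card_mul_index
  rw [Subgroup.index_ker, hk, I.card_HN hG2 htwo h6] at h
  rw [← MonoidHom.range_eq_top]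
  refine Subgroup.eq_top_of_card_eq _ ?_
  rw [card_GLV]
  omega

/-- An element with a fixed vector moves into the centralizer of `z`. -/
theorem exists_conj_ι {h : I.HN} {v : V} (hv : v ≠ 0) (hf : (I.lin h).1.mulVec v = v) :
    ∃ (t : G) (g : Mdl), t * I.ι g * t⁻¹ = h := by
  obtain ⟨a, ha, hae⟩ := I.mem_AG.1 (I.vG (Multiplicative.ofAdd v)).2
  have ha1 : a ≠ 1 := fun e => hv (Multiplicative.ofAdd.injective (I.vG.injective (Subtype.ext (by
    rw [← hae, e, map_one, ofAdd_zero, map_one]; rfl))))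
  have := I.lin_apply h v
  rw [hf, ← hae] at this
  obtain ⟨t, -, g, -, hg⟩ := I.exists_to_ι hG2 htwo h6 ha ha1 (mul_inv_eq_iff_eq_mul.1 this.symm).symm
  exact ⟨t, g, hg⟩

/-- A fixed-point-free element whose image commutes with an involution fixing four vectors centralizes an
involution not conjugate to the centre. -/
theorem exists_cent_inv (h7 : ¬ I.ZType (rep 7)) {u : I.HN} {s : GLV}
    (hu : ∀ v : V, (I.lin u).1.mulVec v = v → v = 0) (hs : s * s = 1) (hsu : s * I.lin u = I.lin u * s)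
    (hcard : (Finset.univ.filter fun v : V => s.1.mulVec v = v).card = 4) :
    ∃ x : G, x * x = 1 ∧ x ≠ 1 ∧ x * (u : G) = u * x ∧ ¬ IsConj z x := by
  obtain ⟨x0, hx0⟩ := I.lin_surjective hG2 htwo h6 s
  let f : I.AG → I.AG := fun a =>
    ⟨(u : G)⁻¹ * a * u * a, mul_mem (by
      have := I.conj_mem_AG (inv_mem u.2) a.2
      rwa [inv_inv] at this) a.2⟩
  have fixed : ∀ y ∈ I.AG, (u : G) * y = y * u → y = 1 := by
    intro y hy hc
    have h := hu (I.vG.symm ⟨y, hy⟩).toAdd (Multiplicative.ofAdd.injective (I.vG.injective (Subtype.ext (by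
      rw [I.lin_apply, ofAdd_toAdd, MulEquiv.apply_symm_apply]
      show (u : G) * y * (u : G)⁻¹ = y
      rw [hc, mul_inv_cancel_right]))))
    have := congrArg (fun w : V => ((I.vG (Multiplicative.ofAdd w) : I.AG) : G)) h
    simpa using this
  have hfinj : Function.Injective f := by
    intro a b e
    have e' : (u : G)⁻¹ * a * u * a = (u : G)⁻¹ * b * u * b := congrArg Subtype.val e
    have conjU : ∀ w ∈ I.AG, (u : G)⁻¹ * w * u ∈ I.AG := fun w hw => by
      have := I.conj_mem_AG (inv_mem u.2) hw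
      rwa [inv_inv] at this
    have h2 : (u : G)⁻¹ * (a * b) * u * (a * b) = 1 := by
      calc (u : G)⁻¹ * (a * b) * u * (a * b)
          = ((u : G)⁻¹ * a * u * ((u : G)⁻¹ * b * u)) * (a * b) := by group
        _ = ((u : G)⁻¹ * a * u * a) * ((u : G)⁻¹ * b * u * b) :=
            Commute.mul_mul_mul_comm (I.AG_comm (conjU _ b.2) a.2) _ _
        _ = 1 := by
            rw [e', I.AG_sq (mul_mem (conjU _ b.2) b.2)]
    have this : (a : G) * b = 1 := fixed _ (mul_mem a.2 b.2) (by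
      have h1 : (u : G)⁻¹ * (a * b) * u = a * b :=
        (mul_eq_one_iff_eq_inv.1 h2).trans (inv_eq_of_mul_eq_one_right (I.AG_sq (mul_mem a.2 b.2)))
      calc (u : G) * (a * b) = (u : G) * ((u : G)⁻¹ * (a * b) * u) := by rw [h1]
        _ = _ := by group)
    exact Subtype.ext ((mul_eq_one_iff_eq_inv.1 this).trans (inv_eq_of_mul_eq_one_right (I.AG_sq b.2)))
  obtain ⟨α, hα⟩ := Finite.surjective_of_injective hfinj
    ⟨(u : G)⁻¹ * ((x0 : G) * u * (x0 : G)⁻¹), by
      have h1 : I.lin (u⁻¹ * (x0 * u * x0⁻¹)) = 1 := by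
        rw [map_mul, map_inv, map_mul, map_mul, map_inv, hx0, hsu]
        group
      exact I.mem_lin_ker.1 h1⟩
  have hα' : (u : G)⁻¹ * α * u * α = (u : G)⁻¹ * ((x0 : G) * u * (x0 : G)⁻¹) := congrArg Subtype.val hα
  set x : I.HN := ⟨(α : G), I.AG_le_HN α.2⟩ * x0 with hx
  have hlx : I.lin x = s := by
    rw [hx, map_mul, hx0, I.mem_lin_ker.2 α.2, one_mul]
  have hxu : (x : G) * u = u * x := by
    show (α : G) * x0 * u = u * ((α : G) * x0)
    calc (α : G) * x0 * u = α * u * ((u : G)⁻¹ * ((x0 : G) * u * (x0 : G)⁻¹)) * x0 := by group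
      _ = α * u * ((u : G)⁻¹ * α * u * α) * x0 := by rw [hα']
      _ = (α * α) * u * α * x0 := by group
      _ = _ := by rw [I.AG_sq α.2, one_mul, mul_assoc]
  have hxx : (x : G) * x = 1 := fixed _ (I.mem_lin_ker.1 (show I.lin (x * x) = 1 by rw [map_mul, hlx, hs])) (by
    rw [← mul_assoc, ← hxu, mul_assoc, ← hxu, ← mul_assoc])
  have hfix : I.fixA x = 4 := by rw [I.fixA_eq, hlx, hcard]
  have hx1 : (x : G) ≠ 1 := fun e => by
    have h16 : I.fixA (1 : G) = 16 := by
      rw [← I.card_AG, fixA]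
      exact Nat.card_congr (Equiv.subtypeEquivRight fun y => by simp)
    rw [e, h16] at hfix
    norm_num at hfix
  refine ⟨x, hxx, hx1, hxu, fun hz => ?_⟩
  obtain ⟨a, ha, ha1, hac⟩ := I.exists_fixed x.2 hxx
  obtain ⟨t, ht, g, -, hg⟩ := I.exists_to_ι hG2 htwo h6 ha ha1 hac
  have hgi : IsInv g := I.isInv_of
    (by rw [show I.ι g = t⁻¹ * x * t by rw [← hg]; group,
          show t⁻¹ * (x : G) * t * (t⁻¹ * x * t) = t⁻¹ * ((x : G) * x) * t by group, hxx]
        group)
    (fun e => hx1 (by rw [← hg, e, mul_one, mul_inv_cancel]))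
  rw [← hg, I.fixA_conj ht, I.fixA_ι hgi] at hfix
  have htag : tag g = 7 := by
    have h8 := tag_lt hgi
    generalize tag g = i at hfix h8
    interval_cases i <;> simp_all
  exact h7 (htag ▸ (I.zType_iff_rep hgi).1 (hz.trans (isConj_iff.2 ⟨t⁻¹, by rw [← hg]; group⟩)))

/-- Two commuting elements of order three with fixed points. -/
theorem exists_pair (h7 : ¬ I.ZType (rep 7)) :
    ∃ p q : G, p * q = q * p ∧ p ^ 3 = 1 ∧ q ^ 3 = 1 ∧
      (∀ i j : Fin 3, p ^ i.val * q ^ j.val = 1 → i = 0 ∧ j = 0) ∧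
      (∃ (t : G) (g : Mdl), t * I.ι g * t⁻¹ = p) ∧ (∃ (t : G) (g : Mdl), t * I.ι g * t⁻¹ = q) ∧
      (∃ x : G, x * x = 1 ∧ x ≠ 1 ∧ x * (p * q) = p * q * x ∧ ¬ IsConj z x) ∧
      (∃ x : G, x * x = 1 ∧ x ≠ 1 ∧ x * (p * q⁻¹) = p * q⁻¹ * x ∧ ¬ IsConj z x) := by
  classical
  haveI : Fact (Nat.Prime 3) := ⟨Nat.prime_three⟩
  obtain ⟨hab, ha3, hb3, hs, hsu, hs', hsu'⟩ := gens_rel
  obtain ⟨hc, hc'⟩ := gens_card
  have hfa := gens_fix_a
  have hfb := gens_fix_b
  have hu := fun v => (gens_fpf v).1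
  have hu' := fun v => (gens_fpf v).2
  have hindep : ∀ i j : Fin 3, ga ^ i.val * gb ^ j.val = 1 → i = 0 ∧ j = 0 := by decide +kernel
  set K := Subgroup.closure ({ga, gb} : Set GLV) with hK
  have hKp : IsPGroup 3 K := by
    have hcomm : ∀ x ∈ ({ga, gb} : Set GLV), ∀ y ∈ ({ga, gb} : Set GLV), x * y = y * x := by
      rintro x (rfl | rfl) y (rfl | rfl) <;> first | rfl | exact hab | exact hab.symm
    haveI : IsMulCommutative K := Subgroup.isMulCommutative_closure hcomm
    intro k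
    refine ⟨1, Subtype.ext ?_⟩
    show (k : GLV) ^ 3 ^ 1 = 1
    suffices H : ∀ (x : GLV) (hx : x ∈ K), x ^ 3 = 1 by simpa using H k k.2
    intro x hx
    induction hx using Subgroup.closure_induction with
    | mem x hx => rcases hx with rfl | rfl <;> assumption
    | one => exact one_pow 3
    | mul x y hx hy ihx ihy =>
      have hxy : Commute x y := congrArg Subtype.val
        ((inferInstance : IsMulCommutative K).is_comm.comm ⟨x, hx⟩ ⟨y, hy⟩)
      rw [hxy.mul_pow, ihx, ihy, one_mul]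
    | inv x hx ih => rw [inv_pow, ih, inv_one]
  obtain ⟨S, hS⟩ := hKp.exists_le_sylow
  obtain ⟨P⟩ : Nonempty (Sylow 3 I.HN) := inferInstance
  have hsurj := I.lin_surjective hG2 htwo h6
  obtain ⟨m, hm⟩ := MulAction.exists_smul_eq GLV (P.mapSurjective hsurj) S
  obtain ⟨n, hn⟩ := hsurj m
  have lift : ∀ w ∈ ({ga, gb} : Set GLV), ∃ y ∈ ((n • P : Sylow 3 I.HN) : Subgroup I.HN), I.lin y = w := by
    intro w hw
    have hwS : w ∈ (S : Subgroup GLV) := hS (Subgroup.subset_closure hw)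
    rw [← hm, Sylow.coe_subgroup_smul, Subgroup.mem_pointwise_smul_iff_inv_smul_mem] at hwS
    have hwS' : (MulAut.conj m)⁻¹ • w ∈ (P : Subgroup I.HN).map I.lin := hwS
    obtain ⟨y, hy, hye⟩ := Subgroup.mem_map.1 hwS'
    refine ⟨n * y * n⁻¹, ?_, ?_⟩
    · rw [Sylow.coe_subgroup_smul]; exact Subgroup.smul_mem_pointwise_smul y (MulAut.conj n) _ hy
    · rw [map_mul, map_mul, map_inv, hn, hye, ← map_inv]
      simp [MulAut.smul_def, MulAut.conj_apply, mul_assoc]
  obtain ⟨y1, hy1, hy1e⟩ := lift ga (by simp)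
  obtain ⟨y2, hy2, hy2e⟩ := lift gb (by simp)
  have inj : ∀ y ∈ ((n • P : Sylow 3 I.HN) : Subgroup I.HN), I.lin y = 1 → y = 1 := by
    intro y hy he
    obtain ⟨k, hk⟩ := (n • P).2 ⟨y, hy⟩
    have h3 : y ^ 3 ^ k = 1 := congrArg Subtype.val hk
    have h2 : y ^ 2 = 1 := Subtype.ext (by
      rw [Subgroup.coe_pow, pow_two, I.AG_sq (I.mem_lin_ker.1 he)]; rfl)
    refine orderOf_eq_one_iff.1 (Nat.eq_one_of_dvd_coprimes ?_ (orderOf_dvd_of_pow_eq_one h2)
      (orderOf_dvd_of_pow_eq_one h3))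
    exact Nat.Coprime.pow_right k (by norm_num)
  have hc12 : y1 * y2 = y2 * y1 := by
    refine commutatorElement_eq_one_iff_mul_comm.1 (inj _ ?_ ?_)
    · rw [commutatorElement_def]; exact mul_mem (mul_mem (mul_mem hy1 hy2) (inv_mem hy1)) (inv_mem hy2)
    · rw [map_commutatorElement, hy1e, hy2e, commutatorElement_eq_one_iff_mul_comm]; exact hab
  have e1 : y1 ^ 3 = 1 := inj _ (pow_mem hy1 3) (by rw [map_pow, hy1e, ha3])
  have e2 : y2 ^ 3 = 1 := inj _ (pow_mem hy2 3) (by rw [map_pow, hy2e, hb3])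
  refine ⟨(y1 : G), (y2 : G), congrArg Subtype.val hc12, by rw [← Subgroup.coe_pow, e1]; rfl,
    by rw [← Subgroup.coe_pow, e2]; rfl, fun i j h => hindep i j ?_, ?_, ?_, ?_, ?_⟩
  · have hy : y1 ^ i.val * y2 ^ j.val = 1 := Subtype.ext h
    have := congrArg I.lin hy
    rwa [map_mul, map_pow, map_pow, hy1e, hy2e, map_one] at this
  · obtain ⟨v, hv, hfv⟩ := hfa
    exact I.exists_conj_ι hG2 htwo h6 hv (by rw [hy1e]; exact hfv)
  · obtain ⟨v, hv, hfv⟩ := hfb
    exact I.exists_conj_ι hG2 htwo h6 hv (by rw [hy2e]; exact hfv)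
  · exact I.exists_cent_inv hG2 htwo h6 h7 (u := y1 * y2) (s := gs) (by rw [map_mul, hy1e, hy2e]; exact hu)
      hs (by rw [map_mul, hy1e, hy2e]; exact hsu) hc
  · exact I.exists_cent_inv hG2 htwo h6 h7 (u := y1 * y2⁻¹) (s := gs')
      (by rw [map_mul, map_inv, hy1e, hy2e]; exact hu')
      hs' (by rw [map_mul, map_inv, hy1e, hy2e]; exact hsu') hc'

end Iso

end Cfsg.Agent.HeLocal
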