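import Cfsg.Agent.Lib.HeLocal.FusionBase
import Mathlib.GroupTheory.GroupAction.CardCommute
import Mathlib.GroupTheory.GroupAction.Quotient

/-!
# Fusion: the normalizer of the elementary group of order sixteen, if the seventh class is not fused

Assume that the seventh class is not conjugate to the centre. Then the normalizer `H` of the group `A` has
order `15 * 21504`, and counting fixed points of `A` on the cosets of `H` shows that the eighth class is not
conjugate to the centre either.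
-/

set_option autoImplicit false

namespace Cfsg.Agent.HeLocal

open Subgroup

variable {G : Type*} [Group G]

/-- The group of order sixteen in the model. -/
def asub : Subgroup Mdl where
  carrier := {g | inA g}
  one_mem' := inA_one
  mul_mem' := inA_mul
  inv_mem' := by
    intro g hg
    rcases inA_iff.1 hg with rfl | ⟨h, -⟩
    · simpa using inA_one
    · simpa [h.inv] using hg

theorem mem_asub {g : Mdl} : g ∈ asub ↔ inA g := Iff.rfl

theorem inA_sq {g : Mdl} (hg : inA g) : g * g = 1 := by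
  rcases inA_iff.1 hg with rfl | ⟨h, -⟩
  · exact one_mul 1
  · exact h.1

theorem inA_zc : inA zc := inA_iff.2 (Or.inr ⟨zc_inv, by rw [tag_zc]; omega⟩)

theorem inA_rep_one : inA (rep 1) :=
  inA_iff.2 (Or.inr ⟨isInv_rep (by norm_num), by rw [tag_rep (by norm_num)]⟩)

namespace Iso

variable {z : G} (I : Iso z)

/-- The group of order sixteen. -/
noncomputable def AG : Subgroup G := asub.map I.ι

theorem mem_AG {x : G} : x ∈ I.AG ↔ ∃ a : Mdl, inA a ∧ I.ι a = x := Iff.rfl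

theorem ι_mem_AG {a : Mdl} : I.ι a ∈ I.AG ↔ inA a :=
  ⟨fun ⟨b, hb, e⟩ => I.ι_inj e ▸ hb, fun h => ⟨a, h, rfl⟩⟩

theorem z_mem_AG : z ∈ I.AG := ⟨zc, inA_zc, I.ι_zc⟩

theorem card_AG : Nat.card I.AG = 16 := by
  show Nat.card (asub.map I.ι) = 16
  rw [← Nat.card_congr (asub.equivMapOfInjective I.ι I.ι_inj).toEquiv]
  exact card_A

theorem AG_comm {x y : G} (hx : x ∈ I.AG) (hy : y ∈ I.AG) : x * y = y * x := by
  obtain ⟨a, ha, rfl⟩ := hx
  obtain ⟨b, hb, rfl⟩ := hy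
  exact I.ι_comm_iff.2 (inA_comm ha hb)

theorem AG_sq {x : G} (hx : x ∈ I.AG) : x * x = 1 := by
  obtain ⟨a, ha, rfl⟩ := hx
  rw [← map_mul, inA_sq ha, map_one]

/-- The normalizer. -/
noncomputable def HN : Subgroup G := Subgroup.normalizer (I.AG : Set G)

theorem conj_mem_AG {h x : G} (hh : h ∈ I.HN) (hx : x ∈ I.AG) : h * x * h⁻¹ ∈ I.AG :=
  (mem_normalizer_iff.1 hh x).1 hx

theorem mem_HN [Finite G] {h : G} (hh : ∀ a : Mdl, inA a → h * I.ι a * h⁻¹ ∈ I.AG) : h ∈ I.HN := by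
  have heq : I.AG.map (MulAut.conj h).toMonoidHom = I.AG := by
    refine Subgroup.eq_of_le_of_card_ge ?_ (le_of_eq ?_)
    · rintro _ ⟨x, ⟨a, ha, rfl⟩, rfl⟩; exact hh a ha
    · exact Nat.card_congr (I.AG.equivMapOfInjective _ (MulAut.conj h).injective).toEquiv
  refine mem_normalizer_iff.2 fun x => ⟨fun hx => heq.le ⟨x, hx, rfl⟩, fun hx => ?_⟩
  obtain ⟨y, hy, e⟩ := heq.ge hx
  rwa [← show y = x from (MulAut.conj h).injective e]

theorem ι_mem_HN [Finite G] (k : Mdl) : I.ι k ∈ I.HN := I.mem_HN fun a ha =>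
  ⟨k * a * k⁻¹, inA_conj ha k, by rw [map_mul, map_mul, map_inv]⟩

theorem AG_le_HN [Finite G] : I.AG ≤ I.HN := by
  rintro _ ⟨a, -, rfl⟩; exact I.ι_mem_HN a

/-- The number of elements of the group centralized by an element. -/
noncomputable def fixA (x : G) : ℕ := Nat.card {y : G // y ∈ I.AG ∧ y * x = x * y}

theorem fixA_conj {h : G} (hh : h ∈ I.HN) (x : G) : I.fixA (h * x * h⁻¹) = I.fixA x := by
  refine (Nat.card_congr ((MulAut.conj h).toEquiv.subtypeEquiv fun y => and_congr ?_ ?_)).symm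
  · exact ⟨fun hy => I.conj_mem_AG hh hy, fun hy => (mem_normalizer_iff.1 hh y).2 hy⟩
  · rw [← (MulAut.conj h).injective.eq_iff, map_mul, map_mul]; exact Iff.rfl

theorem fixA_ι {g : Mdl} (hg : IsInv g) :
    I.fixA (I.ι g) = [16, 16, 8, 8, 8, 8, 8, 4].getD (tag g) 0 := by
  rw [← card_fix_A hg]
  refine (Nat.card_congr (Equiv.ofBijective (fun a : {a : Mdl // inA a ∧ a * g = g * a} =>
    (⟨I.ι a, I.ι_mem_AG.2 a.2.1, I.ι_comm_iff.2 a.2.2⟩ : {y : G // y ∈ I.AG ∧ y * I.ι g = I.ι g * y}))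
    ⟨fun a b h => Subtype.ext (I.ι_inj (Subtype.mk_eq_mk.1 h)), ?_⟩)).symm
  rintro ⟨_, ⟨a, ha, rfl⟩, h⟩
  exact ⟨⟨a, ha, I.ι_comm_iff.1 h⟩, rfl⟩

/-- An involution of the normalizer centralizes an involution of the group. -/
theorem exists_fixed {x : G} (hx : x ∈ I.HN) (hx2 : x * x = 1) :
    ∃ a : Mdl, inA a ∧ a ≠ 1 ∧ I.ι a * x = x * I.ι a := by
  obtain ⟨b, hb, hbe⟩ := I.conj_mem_AG hx I.z_mem_AG
  have hxi : x⁻¹ = x := inv_eq_of_mul_eq_one_right hx2
  have e1 : x * z = I.ι b * x := by rw [hbe]; group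
  have e2 : x * I.ι b = z * x := by
    rw [hbe, hxi, show x * (x * z * x) = (x * x) * (z * x) by group, hx2, one_mul]
  by_cases h : zc * b = 1
  · refine ⟨zc, inA_zc, zc_inv.2, ?_⟩
    have hb' : b = zc := by rw [← zc_inv.inv]; exact eq_inv_of_mul_eq_one_right h
    rw [hb', ι_zc] at e1
    rw [ι_zc, e1]
  · refine ⟨zc * b, inA_mul inA_zc hb, h, ?_⟩
    rw [map_mul, ι_zc, mul_assoc, ← e1, ← mul_assoc, ← e2, mul_assoc, ← I.ι_comm b]

variable [Finite G] (hG2 : (Nat.card G).factorization 2 = 10)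
variable (htwo : ∃ x y : G, orderOf x = 2 ∧ orderOf y = 2 ∧ ¬ IsConj x y ∧
  ∀ w : G, orderOf w = 2 → IsConj w x ∨ IsConj w y) (h6 : ¬ I.ZType (rep 6))
include hG2 htwo

/-- The classes conjugate to the centre, except the seventh and the eighth. -/
theorem zType_of_tag {g : Mdl} (hg : IsInv g) (h : tag g = 0 ∨ tag g = 1 ∨ tag g = 2 ∨ tag g = 4) :
    I.ZType g := by
  refine (I.zType_iff_rep hg).2 ?_
  rcases h with h | h | h | h <;> rw [h]
  · exact I.zType_zc
  · exact I.zType_side hG2 htwo (Or.inl rfl)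
  · exact I.zType_side hG2 htwo (Or.inr rfl)
  · exact I.zType_four hG2 htwo

theorem zType_of_inA {g : Mdl} (hg : inA g) (h1 : g ≠ 1) : I.ZType g := by
  rcases inA_iff.1 hg with rfl | ⟨hi, ht⟩
  · exact absurd rfl h1
  · exact I.zType_of_tag hG2 htwo hi (by omega)

include h6

omit hG2 htwo [Finite G] in
theorem good_of_zType {g : Mdl} (hg : IsInv g) (h : I.ZType g) : Code.good (tag g) = true := by
  have hr := (I.zType_iff_rep hg).1 h
  have h3 : tag g ≠ 3 := fun e => I.not_zType_three (e ▸ hr)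
  have h5 : tag g ≠ 5 := fun e => I.not_zType_five (e ▸ hr)
  have h6' : tag g ≠ 6 := fun e => h6 (e ▸ hr)
  have h8 := tag_lt hg
  generalize tag g = i at h3 h5 h6' h8
  interval_cases i <;> simp_all [Code.good, Code.memL]

/-- An exchange of the pair lies in the normalizer. -/
theorem swap_mem_HN {s : G} (hs : s * I.ι (rep 1) * s⁻¹ = z) (hs' : s * z * s⁻¹ = I.ι (rep 1)) :
    s ∈ I.HN := by
  have hroot : ∀ b : Mdl, Rooted b → s * I.ι b * s⁻¹ ∈ I.AG := by
    rintro b ⟨hbA, hb1, hbz, hbr, hbzr, q, hq, hqb, hqq⟩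
    obtain ⟨y', hy'c, hy'⟩ := I.swap_transport hs hs' (inA_comm hbA inA_rep_one)
    have inj : ∀ u : Mdl, s * I.ι b * s⁻¹ = s * I.ι u * s⁻¹ → b = u :=
      fun u h => I.ι_inj (mul_left_cancel (mul_right_cancel h))
    -- the four products
    have prod : ∀ u v : Mdl, inA (b * v) → b * v ≠ 1 → I.ι u = s * I.ι (b * v) * s⁻¹ →
        IsInv u ∧ Code.good (tag u) = true := by
      intro u v hA h1 hu
      have hui : IsInv u := I.isInv_of
        (by rw [hu, show s * I.ι (b * v) * s⁻¹ * (s * I.ι (b * v) * s⁻¹) = s * (I.ι (b * v) * I.ι (b * v)) * s⁻¹ by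
              group, ← map_mul, inA_sq hA, map_one]
            group)
        (by rw [hu]; exact fun e => h1 (I.ι_inj ((conj_eq_one_iff.1 e).trans (map_one I.ι).symm)))
      exact ⟨hui, I.good_of_zType h6 hui ((I.zType_of_inA hG2 htwo hA h1).trans (isConj_iff.2 ⟨s, hu.symm⟩))⟩
    have ne : ∀ v : Mdl, b ≠ v → v * v = 1 → b * v ≠ 1 := fun v hne hv e =>
      hne (mul_right_cancel (e.trans hv.symm))
    have hr1 := isInv_rep (show 1 < 8 by norm_num)
    obtain ⟨hyi, g0⟩ := prod y' 1 (by rwa [mul_one]) (by rwa [mul_one]) (by rw [mul_one, hy'])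
    have e1 : I.ι zc = s * I.ι (rep 1) * s⁻¹ := by rw [hs, ι_zc]
    have e2 : I.ι (rep 1) = s * I.ι zc * s⁻¹ := by rw [ι_zc, hs']
    have e3 : I.ι (zc * rep 1) = s * I.ι (zc * rep 1) * s⁻¹ := by
      rw [map_mul, show s * (I.ι zc * I.ι (rep 1)) * s⁻¹ = s * I.ι zc * s⁻¹ * (s * I.ι (rep 1) * s⁻¹) by group,
        ← e1, ← e2]
      exact I.ι_comm_iff.2 (zc_comm (rep 1)).symm
    obtain ⟨-, g1⟩ := prod (y' * zc) (rep 1) (inA_mul hbA inA_rep_one) (ne _ hbr hr1.1) (by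
      rw [map_mul, hy', map_mul, e1]; group)
    obtain ⟨-, g2⟩ := prod (y' * rep 1) zc (inA_mul hbA inA_zc) (ne _ hbz zc_inv.1) (by
      rw [map_mul, hy', map_mul, e2]; group)
    obtain ⟨-, g3⟩ := prod (y' * (zc * rep 1)) (zc * rep 1) (inA_mul hbA (inA_mul inA_zc inA_rep_one))
      (ne _ hbzr (inA_sq (inA_mul inA_zc inA_rep_one))) (by
      rw [map_mul I.ι y', hy', e3, map_mul I.ι b]; group)
    obtain ⟨q', hq'c, hq'⟩ := I.swap_transport hs hs' hq
    refine ⟨y', ?_, hy'⟩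
    show inA y'
    refine inA_iff.2 (Or.inr ⟨hyi, tag_le_one_of_good hyi hy'c ⟨fun e => hbr (inj _ ?_), fun e => hbz (inj _ ?_),
      fun e => hbzr (inj _ ?_)⟩ g0 g1 g2 g3 hq'c (I.ι_comm_iff.1 ?_) (I.ι_inj ?_)⟩)
    · rw [← hy', e]; exact e1
    · rw [← hy', e]; exact e2
    · rw [← hy', e]; exact e3
    · rw [hq', hy', show s * I.ι q * s⁻¹ * (s * I.ι b * s⁻¹) = s * (I.ι q * I.ι b) * s⁻¹ by group,
        I.ι_comm_iff.2 hqb]
      group
    · rw [map_mul, hq', show s * I.ι q * s⁻¹ * (s * I.ι q * s⁻¹) = s * (I.ι q * I.ι q) * s⁻¹ by group,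
        ← map_mul, hqq, ι_zc, hs']
  refine I.mem_HN fun a ha => ?_
  obtain ⟨b, c, hb, hc, rfl⟩ := exists_rooted_mul ha
  rw [map_mul, show s * (I.ι c * I.ι b) * s⁻¹ = s * I.ι c * s⁻¹ * (s * I.ι b * s⁻¹) by group]
  exact mul_mem (hroot c hc) (hroot b hb)

/-- The normalizer is transitive on the involutions of the group. -/
theorem exists_to {a : Mdl} (ha : inA a) (h1 : a ≠ 1) : ∃ t ∈ I.HN, t * z * t⁻¹ = I.ι a := by
  rcases inA_iff.1 ha with rfl | ⟨hi, ht⟩
  · exact absurd rfl h1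
  rcases eq_or_ne (tag a) 0 with h0 | h0
  · exact ⟨1, one_mem _, by rw [eq_zc_of_tag hi h0, ι_zc]; group⟩
  · obtain ⟨s, hs, hs'⟩ := I.exists_swap hG2 htwo
    obtain ⟨k, hk⟩ := exists_conj_of_tag_eq (isInv_rep (show 1 < 8 by norm_num)) hi
      (by rw [tag_rep (by norm_num)]; omega)
    refine ⟨I.ι k * s, mul_mem (I.ι_mem_HN k) (I.swap_mem_HN hG2 htwo h6 hs hs'), ?_⟩
    rw [show I.ι k * s * z * (I.ι k * s)⁻¹ = I.ι k * (s * z * s⁻¹) * (I.ι k)⁻¹ by group, hs', ← hk,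
      map_mul, map_mul, map_inv]

omit hG2 htwo h6 [Finite G] in
/-- The involutions of the group. -/
theorem card_nontrivial : Nat.card {a : Mdl // inA a ∧ a ≠ 1} = 15 := by
  have hlen : (Code.listA.filter fun a => !Nat.beq a InvChar.Coset.HeCent.idP).length = 15 := by
    decide +kernel
  rw [← hlen]
  refine card_eq_list (listA_check.2.2.1.filter _) (fun a ha => (listA_spec (List.mem_filter.1 ha).1).1) ?_
  intro a
  rw [List.mem_filter, Bool.not_eq_true', ← Bool.not_eq_true, ← code_one, beq_code]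
  exact Iff.rfl

/-- An element of the normalizer commuting with an involution of the group moves into the centralizer. -/
theorem exists_to_ι {x : G} {a : Mdl} (ha : inA a) (h1 : a ≠ 1)
    (hc : I.ι a * x = x * I.ι a) : ∃ t ∈ I.HN, ∃ g : Mdl, t * z * t⁻¹ = I.ι a ∧ t * I.ι g * t⁻¹ = x := by
  obtain ⟨t, ht, htz⟩ := I.exists_to hG2 htwo h6 ha h1
  obtain ⟨g, hg⟩ := I.exists_ι (x := t⁻¹ * x * t) (by
    calc t⁻¹ * x * t * z = t⁻¹ * (x * (t * z * t⁻¹)) * t := by group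
      _ = t⁻¹ * ((t * z * t⁻¹) * x) * t := by rw [htz, hc]
      _ = _ := by group)
  exact ⟨t, ht, g, htz, by rw [hg]; group⟩

/-- The order of the normalizer. -/
theorem card_HN : Nat.card I.HN = 322560 := by
  classical
  choose t ht htz using fun a : {a : Mdl // inA a ∧ a ≠ 1} => I.exists_to hG2 htwo h6 a.2.1 a.2.2
  let f : {a : Mdl // inA a ∧ a ≠ 1} × Mdl → I.HN :=
    fun p => ⟨t p.1 * I.ι p.2, mul_mem (ht _) (I.ι_mem_HN _)⟩
  have hz : ∀ p : {a : Mdl // inA a ∧ a ≠ 1} × Mdl, t p.1 * I.ι p.2 * z * (t p.1 * I.ι p.2)⁻¹ = I.ι p.1.1 := fun p => by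
    rw [← htz p.1, mul_assoc (t p.1), I.ι_comm p.2]; group
  have hf : Function.Bijective f := by
    constructor
    · intro p q h
      have h' : t p.1 * I.ι p.2 = t q.1 * I.ι q.2 := congrArg Subtype.val h
      have e1 : p.1 = q.1 := Subtype.ext (I.ι_inj (by rw [← hz p, h', hz q]))
      rw [e1] at h'
      exact Prod.ext e1 (I.ι_inj (mul_left_cancel h'))
    · rintro ⟨h, hh⟩
      obtain ⟨a, ha, hae⟩ := I.conj_mem_AG hh I.z_mem_AG
      have ha1 : a ≠ 1 := fun e => I.ι_ne zc_inv (by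
        rw [ι_zc]; rw [e, map_one] at hae; exact conj_eq_one_iff.1 hae.symm)
      set a' : {a : Mdl // inA a ∧ a ≠ 1} := ⟨a, ha, ha1⟩
      obtain ⟨k, hk⟩ := I.exists_ι (x := (t a')⁻¹ * h) (by
        calc (t a')⁻¹ * h * z = (t a')⁻¹ * (h * z * h⁻¹) * h := by group
          _ = (t a')⁻¹ * (t a' * z * (t a')⁻¹) * h := by rw [htz, ← hae]
          _ = _ := by group)
      refine ⟨(a', k), Subtype.ext ?_⟩
      show t a' * I.ι k = h
      rw [hk, mul_inv_cancel_left]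
  rw [← Nat.card_congr (Equiv.ofBijective f hf), Nat.card_prod, card_nontrivial, card_mdl]

/-- The incidences between involutions of the normalizer and of the group. -/
theorem count_pairs {v : ℕ} :
    (v - 1) * Nat.card {x : G // (x ∈ I.HN ∧ IsConj z x) ∧ I.fixA x = v} =
      15 * Nat.card {g : Mdl // IsInv g ∧ I.ZType g ∧ I.fixA (I.ι g) = v} := by
  classical
  choose t ht htz using fun a : {a : Mdl // inA a ∧ a ≠ 1} => I.exists_to hG2 htwo h6 a.2.1 a.2.2
  let X := {x : G // (x ∈ I.HN ∧ IsConj z x) ∧ I.fixA x = v}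
  let P := Σ x : X, {y : G // (y ∈ I.AG ∧ y * (x : G) = x * y) ∧ y ≠ 1}
  haveI : Fintype X := Fintype.ofFinite X
  have hfib : ∀ x : X, Nat.card {y : G // (y ∈ I.AG ∧ y * (x : G) = x * y) ∧ y ≠ 1} = v - 1 := by
    intro x
    have hv : ({y : G | y ∈ I.AG ∧ y * (x : G) = x * y}).ncard = v := x.2.2
    have hset : {y : G | (y ∈ I.AG ∧ y * (x : G) = x * y) ∧ y ≠ 1} =
        {y : G | y ∈ I.AG ∧ y * (x : G) = x * y} \ {1} := rfl
    show ({y : G | (y ∈ I.AG ∧ y * (x : G) = x * y) ∧ y ≠ 1}).ncard = v - 1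
    have h1 : (1 : G) ∈ {y : G | y ∈ I.AG ∧ y * (x : G) = x * y} := ⟨one_mem _, by rw [one_mul, mul_one]⟩
    rw [hset, Set.ncard_sdiff_singleton_of_mem h1, hv]
  have hP : Nat.card P = Nat.card X * (v - 1) := by
    rw [Nat.card_sigma, Finset.sum_congr rfl fun x _ => hfib x, Finset.sum_const, Finset.card_univ, smul_eq_mul,
      Nat.card_eq_fintype_card]
  let Y := {g : Mdl // IsInv g ∧ I.ZType g ∧ I.fixA (I.ι g) = v}
  have hZ : ∀ (a : {a : Mdl // inA a ∧ a ≠ 1}) (g : Y),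
      (t a * I.ι g * (t a)⁻¹ ∈ I.HN ∧ IsConj z (t a * I.ι g * (t a)⁻¹)) ∧
        I.fixA (t a * I.ι g * (t a)⁻¹) = v := fun a g =>
    ⟨⟨mul_mem (mul_mem (ht a) (I.ι_mem_HN _)) (inv_mem (ht a)),
      g.2.2.1.trans (isConj_iff.2 ⟨t a, rfl⟩)⟩, by rw [I.fixA_conj (ht a)]; exact g.2.2.2⟩
  let f : {a : Mdl // inA a ∧ a ≠ 1} × Y → P := fun p =>
    ⟨⟨_, hZ p.1 p.2⟩, ⟨I.ι p.1.1, ⟨I.ι_mem_AG.2 p.1.2.1, by
      show I.ι p.1.1 * (t p.1 * I.ι p.2 * (t p.1)⁻¹) = t p.1 * I.ι p.2 * (t p.1)⁻¹ * I.ι p.1.1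
      rw [← htz p.1]
      calc t p.1 * z * (t p.1)⁻¹ * (t p.1 * I.ι p.2 * (t p.1)⁻¹) = t p.1 * (z * I.ι p.2) * (t p.1)⁻¹ := by group
        _ = _ := by rw [← I.ι_comm]; group⟩,
      fun e => p.1.2.2 (I.ι_inj (e.trans (map_one I.ι).symm))⟩⟩
  have hf : Function.Bijective f := by
    constructor
    · intro p q h
      have e1 : p.1 = q.1 := Subtype.ext (I.ι_inj (congrArg (fun w : P => (w.2 : G)) h))
      have e2 : t p.1 * I.ι p.2 * (t p.1)⁻¹ = t q.1 * I.ι q.2 * (t q.1)⁻¹ :=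
        congrArg (fun w : P => (w.1 : G)) h
      rw [e1] at e2
      exact Prod.ext e1 (Subtype.ext (I.ι_inj (mul_left_cancel (mul_right_cancel e2))))
    · rintro ⟨⟨x, ⟨hx, hxz⟩, hxv⟩, ⟨y, ⟨⟨a, ha, rfl⟩, hyc⟩, hy1⟩⟩
      have ha1 : a ≠ 1 := fun e => hy1 (by rw [e, map_one])
      set a' : {a : Mdl // inA a ∧ a ≠ 1} := ⟨a, ha, ha1⟩
      obtain ⟨g, hg⟩ := I.exists_ι (x := (t a')⁻¹ * x * t a') (by
        calc (t a')⁻¹ * x * t a' * z = (t a')⁻¹ * (x * (t a' * z * (t a')⁻¹)) * t a' := by group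
          _ = (t a')⁻¹ * ((t a' * z * (t a')⁻¹) * x) * t a' := by rw [htz, show x * I.ι a'.1 = I.ι a'.1 * x from hyc.symm]
          _ = _ := by group)
      have hgx : t a' * I.ι g * (t a')⁻¹ = x := by rw [hg]; group
      have hgz : I.ZType g := hxz.trans (isConj_iff.2 ⟨(t a')⁻¹, by rw [hg]; group⟩)
      obtain ⟨c, hc⟩ := isConj_iff.1 hgz
      have hgi : IsInv g := I.isInv_of
        (by rw [← hc, show c * z * c⁻¹ * (c * z * c⁻¹) = c * (z * z) * c⁻¹ by group, ← I.ι_zc, I.ι_sq zc_inv]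
            group)
        (by rw [← hc]; exact fun e => I.ι_ne zc_inv (by rw [ι_zc]; exact conj_eq_one_iff.1 e))
      refine ⟨(a', ⟨g, hgi, hgz, by rw [← I.fixA_conj (ht a'), hgx]; exact hxv⟩), ?_⟩
      exact Sigma.subtype_ext (Subtype.ext hgx) rfl
  rw [mul_comm (v - 1), ← hP, ← Nat.card_congr (Equiv.ofBijective f hf), Nat.card_prod, card_nontrivial]

theorem fixA_mem {x : G} (hx : x ∈ I.HN) (hz : IsConj z x) :
    I.fixA x = 16 ∨ I.fixA x = 8 ∨ I.fixA x = 4 := by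
  obtain ⟨c, hc⟩ := isConj_iff.1 hz
  have hx2 : x * x = 1 := by
    rw [← hc, show c * z * c⁻¹ * (c * z * c⁻¹) = c * (z * z) * c⁻¹ by group, ← I.ι_zc, I.ι_sq zc_inv]
    group
  obtain ⟨a, ha, ha1, hac⟩ := I.exists_fixed hx hx2
  obtain ⟨t, ht, g, -, hg⟩ := I.exists_to_ι hG2 htwo h6 ha ha1 hac
  have hgi : IsInv g := I.isInv_of
    (by rw [show I.ι g = t⁻¹ * x * t by rw [← hg]; group,
          show t⁻¹ * x * t * (t⁻¹ * x * t) = t⁻¹ * (x * x) * t by group, hx2]
        group)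
    (fun e => by
      rw [e, mul_one, mul_inv_cancel] at hg
      rw [← hg] at hc
      exact I.ι_ne zc_inv (by rw [ι_zc]; exact conj_eq_one_iff.1 hc))
  rw [← hg, I.fixA_conj ht, I.fixA_ι hgi]
  have h8 := tag_lt hgi
  generalize tag g = i at h8
  interval_cases i <;> simp

omit hG2 htwo h6 [Finite G] in
/-- The union of two classes of the model. -/
theorem card_two_classes {i j : ℕ} (hi : i < 8) (hj : j < 8) (hij : i ≠ j) :
    Nat.card {g : Mdl // IsInv g ∧ (tag g = i ∨ tag g = j)} =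
      Code.sizes.getD i 0 + Code.sizes.getD j 0 := by
  rw [← card_class hi, ← card_class hj]
  show ({g : Mdl | IsInv g ∧ (tag g = i ∨ tag g = j)}).ncard =
    ({g : Mdl | IsInv g ∧ tag g = i}).ncard + ({g : Mdl | IsInv g ∧ tag g = j}).ncard
  rw [← Set.ncard_union_eq (Set.disjoint_left.2 fun g h h' => hij (h.2.symm.trans h'.2))]
  congr 1
  ext g
  simp only [Set.mem_ofPred_eq, Set.mem_union, and_or_left]

theorem card_right (h7 : I.ZType (rep 7)) :
    Nat.card {g : Mdl // IsInv g ∧ I.ZType g ∧ I.fixA (I.ι g) = 16} = 15 ∧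
    Nat.card {g : Mdl // IsInv g ∧ I.ZType g ∧ I.fixA (I.ι g) = 8} = 98 ∧
    Nat.card {g : Mdl // IsInv g ∧ I.ZType g ∧ I.fixA (I.ι g) = 4} = 168 := by
  have key : ∀ g : Mdl, IsInv g → (I.ZType g ↔ tag g ≠ 3 ∧ tag g ≠ 5 ∧ tag g ≠ 6) := by
    intro g hg
    refine ⟨fun h => ?_, fun h => ?_⟩
    · have hr := (I.zType_iff_rep hg).1 h
      exact ⟨fun e => I.not_zType_three (e ▸ hr), fun e => I.not_zType_five (e ▸ hr), fun e => h6 (e ▸ hr)⟩
    · have h8 := tag_lt hg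
      by_cases e : tag g = 7
      · exact (I.zType_iff_rep hg).2 (e ▸ h7)
      · exact I.zType_of_tag hG2 htwo hg (by omega)
  have step : ∀ v i j, i < 8 → j < 8 → i ≠ j →
      (∀ k < 8, (k ≠ 3 ∧ k ≠ 5 ∧ k ≠ 6) ∧ [16, 16, 8, 8, 8, 8, 8, 4].getD k 0 = v ↔ k = i ∨ k = j) →
      Nat.card {g : Mdl // IsInv g ∧ I.ZType g ∧ I.fixA (I.ι g) = v} =
        Code.sizes.getD i 0 + Code.sizes.getD j 0 := by
    intro v i j hi hj hij h
    rw [← card_two_classes hi hj hij]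
    refine Nat.card_congr (Equiv.subtypeEquivRight fun g => and_congr_right fun hg => ?_)
    rw [key g hg, I.fixA_ι hg, h _ (tag_lt hg)]
  refine ⟨step 16 0 1 (by norm_num) (by norm_num) (by norm_num) (by decide),
    step 8 2 4 (by norm_num) (by norm_num) (by norm_num) (by decide), ?_⟩
  rw [← card_class (show 7 < 8 by norm_num) |>.trans (show Code.sizes.getD 7 0 = 168 from rfl)]
  refine Nat.card_congr (Equiv.subtypeEquivRight fun g => and_congr_right fun hg => ?_)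
  rw [key g hg, I.fixA_ι hg]
  have h8 := tag_lt hg
  generalize tag g = i at h8
  interval_cases i <;> simp

theorem card_class_HN (h7 : I.ZType (rep 7)) :
    ({x : G | x ∈ I.HN ∧ IsConj z x}).ncard = 1065 := by
  obtain ⟨r1, r2, r3⟩ := I.card_right hG2 htwo h6 h7
  have c1 := I.count_pairs hG2 htwo h6 (v := 16)
  have c2 := I.count_pairs hG2 htwo h6 (v := 8)
  have c3 := I.count_pairs hG2 htwo h6 (v := 4)
  rw [r1] at c1; rw [r2] at c2; rw [r3] at c3
  have hU : {x : G | x ∈ I.HN ∧ IsConj z x} =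
      ({x : G | (x ∈ I.HN ∧ IsConj z x) ∧ I.fixA x = 16} ∪ {x : G | (x ∈ I.HN ∧ IsConj z x) ∧ I.fixA x = 8}) ∪
        {x : G | (x ∈ I.HN ∧ IsConj z x) ∧ I.fixA x = 4} := by
    ext x
    simp only [Set.mem_ofPred_eq, Set.mem_union]
    refine ⟨fun h => ?_, fun h => ?_⟩
    · rcases I.fixA_mem hG2 htwo h6 h.1 h.2 with e | e | e
      · exact Or.inl (Or.inl ⟨h, e⟩)
      · exact Or.inl (Or.inr ⟨h, e⟩)
      · exact Or.inr ⟨h, e⟩
    · rcases h with (h | h) | h <;> exact h.1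
  rw [hU, Set.ncard_union_eq (Set.disjoint_left.2 fun x h h' => by
      rcases h with h | h <;> rw [Set.mem_ofPred_eq] at h h' <;> omega),
    Set.ncard_union_eq (Set.disjoint_left.2 fun x h h' => by
      rw [Set.mem_ofPred_eq] at h h'; omega)]
  have e : ∀ v, ({x : G | (x ∈ I.HN ∧ IsConj z x) ∧ I.fixA x = v}).ncard =
      Nat.card {x : G // (x ∈ I.HN ∧ IsConj z x) ∧ I.fixA x = v} := fun v => rfl
  rw [e, e, e]
  omega

/-- The cosets of the normalizer fixed by `z`. -/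
theorem card_fixed_z (h7 : I.ZType (rep 7)) :
    Nat.card {q : G ⧸ I.HN // z • q = q} = 71 := by
  classical
  let T := {g : G // g⁻¹ * z * g ∈ I.HN}
  let X := {x : G // x ∈ I.HN ∧ IsConj z x}
  choose c hc using fun x : X => (isConj_iff.1 x.2.2 : ∃ c : G, c * z * c⁻¹ = x)
  let f : Mdl × X → T := fun p => ⟨I.ι p.1 * (c p.2)⁻¹, by
    rw [show (I.ι p.1 * (c p.2)⁻¹)⁻¹ * z * (I.ι p.1 * (c p.2)⁻¹) =
      c p.2 * ((I.ι p.1)⁻¹ * (z * I.ι p.1)) * (c p.2)⁻¹ by group, ← I.ι_comm, inv_mul_cancel_left, hc]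
    exact p.2.2.1⟩
  have hf : Function.Bijective f := by
    constructor
    · intro p q h
      have h' : I.ι p.1 * (c p.2)⁻¹ = I.ι q.1 * (c q.2)⁻¹ := congrArg Subtype.val h
      have e : p.2 = q.2 := Subtype.ext (by
        rw [← hc p.2, ← hc q.2]
        calc c p.2 * z * (c p.2)⁻¹ = c p.2 * ((I.ι p.1)⁻¹ * (z * I.ι p.1)) * (c p.2)⁻¹ := by
              rw [← I.ι_comm, inv_mul_cancel_left]
          _ = (I.ι p.1 * (c p.2)⁻¹)⁻¹ * z * (I.ι p.1 * (c p.2)⁻¹) := by group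
          _ = (I.ι q.1 * (c q.2)⁻¹)⁻¹ * z * (I.ι q.1 * (c q.2)⁻¹) := by rw [h']
          _ = c q.2 * ((I.ι q.1)⁻¹ * (z * I.ι q.1)) * (c q.2)⁻¹ := by group
          _ = _ := by rw [← I.ι_comm, inv_mul_cancel_left])
      rw [e] at h'
      exact Prod.ext (I.ι_inj (mul_right_cancel h')) e
    · rintro ⟨g, hg⟩
      set x : X := ⟨g⁻¹ * z * g, hg, isConj_iff.2 ⟨g⁻¹, by group⟩⟩
      obtain ⟨k, hk⟩ := I.exists_ι (x := g * c x) (by
        calc g * c x * z = g * (c x * z * (c x)⁻¹) * c x := by group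
          _ = g * (g⁻¹ * z * g) * c x := by rw [hc]
          _ = _ := by group)
      refine ⟨(k, x), Subtype.ext ?_⟩
      show I.ι k * (c x)⁻¹ = g
      rw [hk, mul_inv_cancel_right]
  have hpre : {g : G | g⁻¹ * z * g ∈ I.HN} = QuotientGroup.mk ⁻¹' {q : G ⧸ I.HN | z • q = q} := by
    ext g
    rw [Set.mem_preimage, Set.mem_ofPred_eq, Set.mem_ofPred_eq, MulAction.Quotient.smul_mk, smul_eq_mul,
      QuotientGroup.eq, ← inv_mem_iff]
    refine iff_of_eq (congrArg (· ∈ I.HN) ?_)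
    group
  have hT : Nat.card T = Nat.card I.HN * Nat.card {q : G ⧸ I.HN // z • q = q} := by
    rw [← Nat.card_prod]
    exact Nat.card_congr ((Equiv.setCongr hpre).trans
      (QuotientGroup.preimageMkEquivSubgroupProdSet I.HN {q : G ⧸ I.HN | z • q = q}))
  have hX : Nat.card X = 1065 := I.card_class_HN hG2 htwo h6 h7
  rw [← Nat.card_congr (Equiv.ofBijective f hf), Nat.card_prod, card_mdl, hX, I.card_HN hG2 htwo h6] at hT
  omega

/-- The eighth class is not conjugate to the centre. -/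
theorem not_zType_seven (hG : Nat.card G = 4030387200) : ¬ I.ZType (rep 7) := by
  intro h7
  classical
  have hidx : Nat.card (G ⧸ I.HN) = 12495 := by
    have h := Subgroup.card_eq_card_quotient_mul_card_subgroup I.HN
    rw [hG, I.card_HN hG2 htwo h6] at h
    omega
  haveI : Fintype I.AG := Fintype.ofFinite _
  haveI : Fintype (G ⧸ I.HN) := Fintype.ofFinite _
  haveI : ∀ a : I.AG, Fintype (MulAction.fixedBy (G ⧸ I.HN) a) := fun a => Fintype.ofFinite _
  haveI : Fintype (MulAction.orbitRel.Quotient I.AG (G ⧸ I.HN)) := Fintype.ofFinite _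
  have hb := MulAction.sum_card_fixedBy_eq_card_orbits_mul_card_group I.AG (G ⧸ I.HN)
  have hfix : ∀ a : I.AG, Fintype.card (MulAction.fixedBy (G ⧸ I.HN) a) = if a = 1 then 12495 else 71 := by
    intro a
    rw [← Nat.card_eq_fintype_card]
    split_ifs with h1
    · subst h1
      rw [← hidx]
      exact Nat.card_congr (Equiv.subtypeUnivEquiv fun q => one_smul _ q)
    · obtain ⟨b, hb', hbe⟩ := I.mem_AG.1 a.2
      have hb1 : b ≠ 1 := fun e => h1 (Subtype.ext (by rw [← hbe, e, map_one]; rfl))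
      obtain ⟨t, -, htz⟩ := I.exists_to hG2 htwo h6 hb' hb1
      rw [← I.card_fixed_z hG2 htwo h6 h7]
      refine (Nat.card_congr ((MulAction.toPerm t).subtypeEquiv fun q => ?_)).symm
      show z • q = q ↔ (a : G) • (t • q) = t • q
      rw [← hbe, ← htz, smul_smul, inv_mul_cancel_right, ← smul_smul]
      exact (smul_left_cancel_iff t).symm
  rw [Finset.sum_congr rfl fun a _ => hfix a, Finset.sum_ite, Finset.sum_const, Finset.sum_const,
    Finset.filter_eq', if_pos (Finset.mem_univ _), Finset.card_singleton, Finset.filter_ne',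
    Finset.card_erase_of_mem (Finset.mem_univ _), Finset.card_univ, ← Nat.card_eq_fintype_card (α := I.AG),
    I.card_AG] at hb
  simp only [smul_eq_mul] at hb
  omega

end Iso

end Cfsg.Agent.HeLocal
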