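import Mathlib
import Cfsg.Agent.S0497

/-!
# An element of order four on a Sylow three subgroup of a simple group of order 360
-/

set_option autoImplicit false

namespace Cfsg.Agent.HeLocal.Six

open Subgroup

abbrev A6 : Type := ↥(alternatingGroup (Fin 6))

open Equiv in
/-- A three-cycle. -/
def pa : A6 := ⟨swap 0 1 * swap 1 2, Equiv.Perm.mem_alternatingGroup.mpr (by decide)⟩

open Equiv in
/-- A disjoint three-cycle. -/
def pb : A6 := ⟨swap 3 4 * swap 4 5, Equiv.Perm.mem_alternatingGroup.mpr (by decide)⟩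

open Equiv in
/-- An element exchanging the two three-cycles. -/
def pr : A6 := ⟨swap 0 3 * swap 3 1 * swap 1 4 * swap 2 5, Equiv.Perm.mem_alternatingGroup.mpr (by decide)⟩

theorem rels : pr ^ 4 = 1 ∧ pa ^ 3 = 1 ∧ pb ^ 3 = 1 ∧ pa * pb = pb * pa ∧
    (∀ i j : Fin 3, pa ^ i.val * pb ^ j.val = 1 → i = 0 ∧ j = 0) ∧
    (∀ i j : Fin 3, ∃ k l : Fin 3, pr * (pa ^ i.val * pb ^ j.val) * pr⁻¹ = pa ^ k.val * pb ^ l.val) ∧
    (∀ i j : Fin 3, pr * (pr * (pa ^ i.val * pb ^ j.val) * pr⁻¹) * pr⁻¹ = (pa ^ i.val * pb ^ j.val)⁻¹) := by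
  decide +kernel

theorem pow_mod_three {x : A6} (h : x ^ 3 = 1) (n : ℕ) : x ^ n = x ^ (n % 3) := by
  conv_lhs => rw [← Nat.mod_add_div n 3, pow_add, pow_mul, h, one_pow, mul_one]

/-- The group generated by the two three-cycles. -/
def P0 : Subgroup A6 where
  carrier := Set.range fun p : Fin 3 × Fin 3 => pa ^ p.1.val * pb ^ p.2.val
  one_mem' := ⟨(0, 0), by simp⟩
  mul_mem' := by
    rintro _ _ ⟨p, rfl⟩ ⟨q, rfl⟩
    refine ⟨(⟨(p.1.val + q.1.val) % 3, Nat.mod_lt _ (by norm_num)⟩,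
      ⟨(p.2.val + q.2.val) % 3, Nat.mod_lt _ (by norm_num)⟩), ?_⟩
    show pa ^ ((p.1.val + q.1.val) % 3) * pb ^ ((p.2.val + q.2.val) % 3) = _
    rw [← pow_mod_three rels.2.1, ← pow_mod_three rels.2.2.1, pow_add, pow_add]
    exact Commute.mul_mul_mul_comm ((show Commute pa pb from rels.2.2.2.1).pow_pow _ _) _ _
  inv_mem' := by
    rintro _ ⟨p, rfl⟩
    refine ⟨(⟨(3 - p.1.val) % 3, Nat.mod_lt _ (by norm_num)⟩,
      ⟨(3 - p.2.val) % 3, Nat.mod_lt _ (by norm_num)⟩), ?_⟩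
    show pa ^ ((3 - p.1.val) % 3) * pb ^ ((3 - p.2.val) % 3) = (pa ^ p.1.val * pb ^ p.2.val)⁻¹
    rw [← pow_mod_three rels.2.1, ← pow_mod_three rels.2.2.1]
    refine eq_inv_of_mul_eq_one_left ?_
    rw [Commute.mul_mul_mul_comm ((show Commute pa pb from rels.2.2.2.1).pow_pow _ _).symm, ← pow_add, ← pow_add,
      Nat.sub_add_cancel (by omega), Nat.sub_add_cancel (by omega), rels.2.1, rels.2.2.1, one_mul]

theorem card_P0 : Nat.card P0 = 9 := by
  rw [← Nat.card_congr (Equiv.ofBijective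
    (fun p : Fin 3 × Fin 3 => (⟨pa ^ p.1.val * pb ^ p.2.val, p, rfl⟩ : P0)) ⟨?_, ?_⟩)]
  · simp
  · intro p q h
    have h' : pa ^ p.1.val * pb ^ p.2.val = pa ^ q.1.val * pb ^ q.2.val := congrArg Subtype.val h
    revert h'
    revert p q
    have key : ∀ p q : Fin 3 × Fin 3, pa ^ p.1.val * pb ^ p.2.val = pa ^ q.1.val * pb ^ q.2.val → p = q := by
      decide +kernel
    intro p q _ h'
    exact key p q h'
  · rintro ⟨_, p, rfl⟩
    exact ⟨p, rfl⟩

/-- In a simple group of order 360 every Sylow three subgroup has an element of order four inverting it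
after squaring. -/
theorem exists_four {K : Type*} [Group K] [Finite K] [IsSimpleGroup K] (hK : Nat.card K = 360)
    (P : Subgroup K) (hP : Nat.card P = 9) :
    ∃ r : K, r ^ 4 = 1 ∧ (∀ p ∈ P, r * p * r⁻¹ ∈ P) ∧ ∀ p ∈ P, r * (r * p * r⁻¹) * r⁻¹ = p⁻¹ := by
  haveI : Fact (Nat.Prime 3) := ⟨Nat.prime_three⟩
  obtain ⟨e⟩ := Cfsg.Agent.S0497.result hK
  have hf : (Nat.card A6).factorization 3 = 2 := by
    rw [← Nat.card_congr e.toEquiv, hK, show (360 : ℕ) = 3 ^ 2 * 40 by norm_num,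
      Nat.factorization_mul (by norm_num) (by norm_num), Finsupp.add_apply,
      Nat.prime_three.factorization_pow, Finsupp.single_eq_same, Nat.factorization_eq_zero_of_not_dvd (by norm_num)]
  obtain ⟨S, hS⟩ : ∃ S : Sylow 3 A6, (S : Subgroup A6) = P.map e.toMonoidHom :=
    ⟨Sylow.ofCard (P.map e.toMonoidHom) (by rw [card_map_of_injective e.injective, hP, hf]; rfl), rfl⟩
  obtain ⟨S0, hS0⟩ : ∃ S0 : Sylow 3 A6, (S0 : Subgroup A6) = P0 :=
    ⟨Sylow.ofCard P0 (by rw [card_P0, hf]; rfl), rfl⟩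
  obtain ⟨g, hg⟩ := MulAction.exists_smul_eq A6 S S0
  set r : K := e.symm (g⁻¹ * pr * g) with hr
  have hmem : ∀ p ∈ P, ∃ i j : Fin 3, g * e p * g⁻¹ = pa ^ i.val * pb ^ j.val := by
    intro p hp
    have h : g * e p * g⁻¹ ∈ P0 := by
      rw [← hS0, ← hg, Sylow.coe_subgroup_smul]
      exact Subgroup.smul_mem_pointwise_smul _ (MulAut.conj g) _ (hS ▸ mem_map_of_mem _ hp)
    obtain ⟨q, hq⟩ := h
    exact ⟨q.1, q.2, hq.symm⟩
  have her : e r = g⁻¹ * pr * g := e.apply_symm_apply _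
  refine ⟨r, e.injective ?_, fun p hp => ?_, fun p hp => e.injective ?_⟩
  · rw [map_pow, her, show (g⁻¹ * pr * g) ^ 4 = g⁻¹ * pr ^ 4 * g by
      simp [pow_succ, mul_assoc], rels.1, mul_one, inv_mul_cancel, map_one]
  · obtain ⟨i, j, hij⟩ := hmem p hp
    obtain ⟨k, l, hkl⟩ := rels.2.2.2.2.2.1 i j
    have h0 : g * e (r * p * r⁻¹) * g⁻¹ ∈ P0 := by
      rw [map_mul, map_mul, map_inv, her,
        show g * (g⁻¹ * pr * g * e p * (g⁻¹ * pr * g)⁻¹) * g⁻¹ = pr * (g * e p * g⁻¹) * pr⁻¹ by group, hij]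
      exact ⟨(k, l), hkl.symm⟩
    rw [← hS0, ← hg, Sylow.coe_subgroup_smul, Subgroup.mem_pointwise_smul_iff_inv_smul_mem] at h0
    have h1 : e (r * p * r⁻¹) ∈ (S : Subgroup A6) := by
      simpa [MulAut.smul_def, mul_assoc] using h0
    rw [hS] at h1
    obtain ⟨w, hw, hwe⟩ := h1
    rwa [← e.injective hwe]
  · obtain ⟨i, j, hij⟩ := hmem p hp
    have hp' : e p = g⁻¹ * (pa ^ i.val * pb ^ j.val) * g := by rw [← hij]; group
    rw [map_mul, map_mul, map_inv, map_mul, map_mul, map_inv, her, map_inv, hp',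
      show g⁻¹ * pr * g * (g⁻¹ * pr * g * (g⁻¹ * (pa ^ i.val * pb ^ j.val) * g) * (g⁻¹ * pr * g)⁻¹) *
        (g⁻¹ * pr * g)⁻¹ = g⁻¹ * (pr * (pr * (pa ^ i.val * pb ^ j.val) * pr⁻¹) * pr⁻¹) * g by group,
      rels.2.2.2.2.2.2 i j]
    group

end Cfsg.Agent.HeLocal.Six
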