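import Mathlib
import Cfsg.Agent.InvChar.DihedralEightCentralizer

/-!
# Generic steps for the elements of order three in a group of Held type
-/

set_option autoImplicit false

namespace Cfsg.Agent.HeLocal.Three

open Subgroup

theorem d8_facts : (∀ x : DihedralGroup 4, x ^ 3 = 1 → x = 1) ∧ (DihedralGroup.r 1 : DihedralGroup 4) ^ 2 = .r 2 := by
  decide

/-- Two elements of order three of a group with a Sylow three subgroup of order three. -/
theorem conj_of_order_three {X : Type*} [Group X] [Finite X] (hf : (Nat.card X).factorization 3 = 1) {a b : X}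
    (ha : orderOf a = 3) (hb : orderOf b = 3) : ∃ k : X, k * a * k⁻¹ = b ∨ k * a * k⁻¹ = b⁻¹ := by
  haveI : Fact (Nat.Prime 3) := ⟨Nat.prime_three⟩
  obtain ⟨P, hP⟩ : ∃ P : Sylow 3 X, (P : Subgroup X) = zpowers a :=
    ⟨Sylow.ofCard (zpowers a) (by rw [Nat.card_zpowers, ha, hf, pow_one]), rfl⟩
  obtain ⟨R, hR⟩ : ∃ R : Sylow 3 X, (R : Subgroup X) = zpowers b :=
    ⟨Sylow.ofCard (zpowers b) (by rw [Nat.card_zpowers, hb, hf, pow_one]), rfl⟩
  obtain ⟨k, hk⟩ := MulAction.exists_smul_eq X P R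
  refine ⟨k, ?_⟩
  have hmem : k * a * k⁻¹ ∈ zpowers b := by
    rw [← hR, ← hk, Sylow.coe_subgroup_smul]
    exact Subgroup.smul_mem_pointwise_smul a (MulAut.conj k) _ (hP ▸ mem_zpowers a)
  rw [← IsOfFinOrder.mem_powers_iff_mem_zpowers (isOfFinOrder_of_finite b)] at hmem
  obtain ⟨n, hn⟩ := hmem
  have hn' : b ^ (n % 3) = k * a * k⁻¹ := by rw [← hb, pow_mod_orderOf]; exact hn
  have hb3 : b ^ 3 = 1 := hb ▸ pow_orderOf_eq_one b
  have ha1 : k * a * k⁻¹ ≠ 1 := fun e => by
    rw [conj_eq_one_iff.1 e, orderOf_one] at ha; norm_num at ha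
  rcases (show n % 3 = 0 ∨ n % 3 = 1 ∨ n % 3 = 2 by omega) with e | e | e <;> rw [e] at hn'
  · exact absurd (hn'.symm.trans (pow_zero b)) ha1
  · exact Or.inl (by rw [← hn', pow_one])
  · exact Or.inr (by rw [← hn']; exact eq_inv_of_mul_eq_one_left (by rw [← pow_succ, hb3]))

/-- The same inside a subgroup. -/
theorem conj_of_order_three_mem {X : Type*} [Group X] [Finite X] (H : Subgroup X)
    (hf : (Nat.card H).factorization 3 = 1) {a b : X} (ha : a ∈ H) (hb : b ∈ H) (oa : orderOf a = 3)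
    (ob : orderOf b = 3) : ∃ k ∈ H, k * a * k⁻¹ = b ∨ k * a * k⁻¹ = b⁻¹ := by
  obtain ⟨⟨k, hk⟩, hk'⟩ := conj_of_order_three hf (a := (⟨a, ha⟩ : H)) (b := ⟨b, hb⟩)
    ((Subgroup.orderOf_mk a ha).trans oa) ((Subgroup.orderOf_mk b hb).trans ob)
  refine ⟨k, hk, ?_⟩
  rcases hk' with e | e
  exacts [Or.inl (congrArg Subtype.val e), Or.inr (congrArg Subtype.val e)]

/-- A dihedral group of order eight as the centralizer of an involution, all its involutions conjugate to
the central one. -/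
theorem dihedral_conj {K : Type*} [Group K] [Finite K] (φ : DihedralGroup 4 →* K) (hφ : Function.Injective φ)
    (hcent : ∀ c : K, c * φ (.r 2) = φ (.r 2) * c → ∃ x, φ x = c)
    (hconj : ∀ x : DihedralGroup 4, x * x = 1 → x ≠ 1 → IsConj (φ (.r 2)) (φ x)) :
    (∀ w : K, w * w = 1 → w ≠ 1 → IsConj (φ (.r 2)) w) ∧
      IsSimpleGroup K ∧ (Nat.card K = 168 ∨ Nat.card K = 360) := by
  haveI : Fact (Nat.Prime 2) := ⟨Nat.prime_two⟩
  have h2r : ∀ x : DihedralGroup 4, DihedralGroup.r 2 * x = x * DihedralGroup.r 2 := by decide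
  have hcard : Nat.card φ.range = 8 := by
    rw [← Nat.card_congr (MonoidHom.ofInjective hφ).toEquiv, DihedralGroup.nat_card]
  obtain ⟨S, hS⟩ := (IsPGroup.of_card (p := 2) (n := 3) (G := φ.range) (by rw [hcard]; norm_num)).exists_le_sylow
  haveI : Nontrivial ↥(S : Subgroup K) :=
    ⟨⟨⟨φ (.r 2), hS ⟨_, rfl⟩⟩, 1, fun e => absurd (hφ ((congrArg Subtype.val e).trans (map_one φ).symm)) (by decide)⟩⟩
  haveI : Nontrivial (Subgroup.center ↥(S : Subgroup K)) := S.2.center_nontrivial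
  obtain ⟨⟨⟨c, hcS⟩, hc⟩, hc1⟩ := exists_ne (1 : Subgroup.center ↥(S : Subgroup K))
  have hcc : ∀ s ∈ (S : Subgroup K), s * c = c * s := fun s hs =>
    congrArg Subtype.val (Subgroup.mem_center_iff.1 hc ⟨s, hs⟩)
  obtain ⟨x, hx⟩ := hcent c (hcc _ (hS ⟨_, rfl⟩)).symm
  have hx2 : x = .r 2 := by
    refine InvChar.DihedralEightCentralizer.d4_center x (fun y => hφ ?_) (fun e => hc1 (Subtype.ext (Subtype.ext ?_)))
    · rw [map_mul, map_mul, hx]; exact (hcc _ (hS ⟨y, rfl⟩)).symm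
    · rw [e, map_one] at hx; exact hx.symm
  subst hx2
  subst hx
  have hle : (S : Subgroup K) ≤ φ.range := fun s hs => by
    obtain ⟨y, hy⟩ := hcent s (hcc s hs)
    exact ⟨y, hy⟩
  have hinv : ∀ w : K, w * w = 1 → w ≠ 1 → IsConj (φ (.r 2)) w := by
    intro w hw hw1
    have hp : IsPGroup 2 ↥(zpowers w) := by
      refine IsPGroup.of_card (n := 1) ?_
      rw [Nat.card_zpowers, pow_one]
      exact orderOf_eq_prime (by rw [pow_two, hw]) hw1
    obtain ⟨T, hT⟩ := hp.exists_le_sylow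
    obtain ⟨d, hd⟩ := MulAction.exists_smul_eq K T S
    have hmem : d * w * d⁻¹ ∈ (S : Subgroup K) := by
      rw [← hd, Sylow.coe_subgroup_smul]
      exact Subgroup.smul_mem_pointwise_smul w (MulAut.conj d) _ (hT (mem_zpowers w))
    obtain ⟨y, hy⟩ := hle hmem
    have hy2 : y * y = 1 := hφ (by
      rw [map_mul, hy, show d * w * d⁻¹ * (d * w * d⁻¹) = d * (w * w) * d⁻¹ by group, hw, map_one]; group)
    have hy1 : y ≠ 1 := fun e => hw1 (by
      rw [e, map_one] at hy; exact conj_eq_one_iff.1 hy.symm)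
    exact (hconj y hy2 hy1).trans (isConj_iff.2 ⟨d⁻¹, by rw [hy]; group⟩)
  refine ⟨hinv, InvChar.DihedralEightCentralizer.simple_order ?_ (φ (.r 2)) ?_ S hcc ?_⟩
  · intro H hH
    haveI : H.Normal := Subgroup.normal_of_index_eq_two hH
    have hz : φ (.r 2) ∈ H := by
      rw [← d8_facts.2, map_pow]; exact Subgroup.sq_mem_of_index_two hH _
    have hin : ∀ y : DihedralGroup 4, y * y = 1 → φ y ∈ H := by
      intro y hy
      rcases eq_or_ne y 1 with rfl | hy1
      · rw [map_one]; exact one_mem H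
      · obtain ⟨g, hg⟩ := isConj_iff.1 (hconj y hy hy1)
        rw [← hg]; exact ‹H.Normal›.conj_mem _ hz g
    have hSH : (S : Subgroup K) ≤ H := by
      intro s hs
      obtain ⟨y, rfl⟩ := hle hs
      obtain ⟨a, b, ha, hb, rfl⟩ := InvChar.DihedralEightCentralizer.d4_gen y
      rw [map_mul]
      exact mul_mem (hin a ha) (hin b hb)
    have := Subgroup.index_dvd_of_le hSH
    rw [hH] at this
    exact S.not_dvd_index this
  · exact orderOf_eq_prime (by rw [pow_two, ← map_mul, ← map_one φ]; exact congrArg φ (by decide))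
      fun e => absurd (hφ (e.trans (map_one φ).symm)) (by decide)
  · have heq : Subgroup.centralizer ({φ (.r 2)} : Set K) = φ.range := by
      ext c
      rw [Subgroup.mem_centralizer_singleton_iff]
      refine ⟨fun h => ?_, ?_⟩
      · obtain ⟨y, hy⟩ := hcent c h; exact ⟨y, hy⟩
      · rintro ⟨y, rfl⟩; rw [← map_mul, ← map_mul, h2r]
    exact (MulEquiv.subgroupCongr heq).trans (MonoidHom.ofInjective hφ).symm

theorem prime_of_dvd {r : ℕ} (hr : r.Prime) (h : r ∣ 4030387200) :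
    r = 2 ∨ r = 3 ∨ r = 5 ∨ r = 7 ∨ r = 17 := by
  rw [show 4030387200 = 2 ^ 10 * 3 ^ 3 * 5 ^ 2 * 7 ^ 3 * 17 by norm_num] at h
  rcases (Nat.Prime.dvd_mul hr).1 h with h | h
  · rcases (Nat.Prime.dvd_mul hr).1 h with h | h
    · rcases (Nat.Prime.dvd_mul hr).1 h with h | h
      · rcases (Nat.Prime.dvd_mul hr).1 h with h | h
        · exact Or.inl ((Nat.prime_dvd_prime_iff_eq hr Nat.prime_two).1 (hr.dvd_of_dvd_pow h))
        · exact Or.inr (Or.inl ((Nat.prime_dvd_prime_iff_eq hr Nat.prime_three).1 (hr.dvd_of_dvd_pow h)))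
      · exact Or.inr (Or.inr (Or.inl ((Nat.prime_dvd_prime_iff_eq hr (by norm_num)).1 (hr.dvd_of_dvd_pow h))))
    · exact Or.inr (Or.inr (Or.inr (Or.inl ((Nat.prime_dvd_prime_iff_eq hr (by norm_num)).1 (hr.dvd_of_dvd_pow h)))))
  · exact Or.inr (Or.inr (Or.inr (Or.inr ((Nat.prime_dvd_prime_iff_eq hr (by norm_num)).1 h))))

theorem pow_three_cases {G : Type*} [Group G] [Finite G] {h y : G} (h3 : h ^ 3 = 1) (hy : y ∈ zpowers h)
    (hy1 : y ≠ 1) : y = h ∨ y = h⁻¹ := by
  rw [← IsOfFinOrder.mem_powers_iff_mem_zpowers (isOfFinOrder_of_finite h)] at hy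
  obtain ⟨n, hn⟩ := hy
  have hn' : h ^ (n % 3) = y := by
    rw [← hn]
    conv_rhs => rw [show (fun i => h ^ i) n = h ^ n from rfl, ← Nat.mod_add_div n 3, pow_add, pow_mul, h3, one_pow,
      mul_one]
  rcases (show n % 3 = 0 ∨ n % 3 = 1 ∨ n % 3 = 2 by omega) with e | e | e <;> rw [e] at hn'
  · exact absurd (hn'.symm.trans (pow_zero h)) hy1
  · exact Or.inl (by rw [← hn', pow_one])
  · exact Or.inr (by rw [← hn']; exact eq_inv_of_mul_eq_one_left (by rw [← pow_succ, h3]))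

variable {G : Type*} [Group G] [Finite G]

/-- The stabilizer of a cyclic subgroup of order three in a subgroup. -/
def lineStab (N : Subgroup G) (h : G) : Subgroup N where
  carrier := {n | (n : G) * h * (n : G)⁻¹ = h ∨ (n : G) * h * (n : G)⁻¹ = h⁻¹}
  one_mem' := Or.inl (by simp)
  mul_mem' := by
    intro a b ha hb
    show (a : G) * b * h * ((a : G) * b)⁻¹ = h ∨ (a : G) * b * h * ((a : G) * b)⁻¹ = h⁻¹
    rw [show (a : G) * b * h * ((a : G) * b)⁻¹ = a * (b * h * (b : G)⁻¹) * (a : G)⁻¹ by group]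
    rcases hb with e | e <;> rw [e]
    · exact ha
    · rw [show (a : G) * h⁻¹ * (a : G)⁻¹ = (a * h * (a : G)⁻¹)⁻¹ by group]
      rcases ha with e' | e' <;> rw [e']
      · exact Or.inr rfl
      · exact Or.inl (inv_inv h)
  inv_mem' := by
    intro a ha
    show (a : G)⁻¹ * h * ((a : G)⁻¹)⁻¹ = h ∨ (a : G)⁻¹ * h * ((a : G)⁻¹)⁻¹ = h⁻¹
    rcases ha with e | e
    · refine Or.inl ?_
      nth_rewrite 1 [← e]
      group
    · refine Or.inr (inv_injective ?_)
      rw [show ((a : G)⁻¹ * h * ((a : G)⁻¹)⁻¹)⁻¹ = (a : G)⁻¹ * h⁻¹ * a by group, inv_inv, ← e]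
      group

/-- An element of order four fixing one line and inverting the rest after squaring excludes a further
line conjugate to the first. -/
theorem no_four (hG : Nat.card G = 4030387200) (S : Sylow 3 G) (hS27 : Nat.card (S : Subgroup G) = 27)
    (hab : ∀ a ∈ (S : Subgroup G), ∀ b ∈ (S : Subgroup G), a * b = b * a) {h x : G}
    (hh : h ∈ (S : Subgroup G)) (hxS : x ∈ (S : Subgroup G)) (h3 : h ^ 3 = 1) (hxh : x ∉ zpowers h)
    (hconj : ∃ t : G, t * h * t⁻¹ = x ∨ t * h * t⁻¹ = x⁻¹) (r : G) (hr4 : r ^ 4 = 1)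
    (hrh : r * h * r⁻¹ = h) (hrS : ∀ p ∈ (S : Subgroup G), r * p * r⁻¹ ∈ (S : Subgroup G))
    (hrinv : ∀ p ∈ (S : Subgroup G), r * (r * p * r⁻¹) * r⁻¹ * p ∈ zpowers h) : False := by
  haveI : Fact (Nat.Prime 3) := ⟨Nat.prime_three⟩
  haveI : Fact (Nat.Prime 2) := ⟨Nat.prime_two⟩
  haveI : IsMulCommutative ↥(S : Subgroup G) := ⟨⟨fun a b => Subtype.ext (hab a a.2 b b.2)⟩⟩
  have hh1 : h ≠ 1 := by
    rintro rfl
    obtain ⟨t, ht⟩ := hconj
    rw [mul_one, mul_inv_cancel] at ht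
    rcases ht with e | e
    · exact hxh (e ▸ one_mem _)
    · exact hxh (by rw [inv_eq_one.1 e.symm]; exact one_mem _)
  set N : Subgroup G := normalizer ((S : Subgroup G) : Set G) with hN
  set M : Subgroup N := lineStab N h
  have hrN : r ∈ N := by
    refine mem_normalizer_iff.2 fun p => ⟨hrS p, fun hp => ?_⟩
    have := hrS _ (hrS _ (hrS _ hp))
    rwa [show r * (r * (r * (r * p * r⁻¹) * r⁻¹) * r⁻¹) * r⁻¹ = r ^ 4 * p * (r ^ 4)⁻¹ by
      simp [pow_succ, mul_assoc], hr4, one_mul, inv_one, mul_one] at this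
  -- the element fixes one line only
  set R : Subgroup N := zpowers ⟨r, hrN⟩
  have hRp : IsPGroup 2 R := by
    obtain ⟨k, -, hk⟩ := (Nat.dvd_prime_pow Nat.prime_two).1
      (orderOf_dvd_of_pow_eq_one (x := (⟨r, hrN⟩ : N)) (n := 2 ^ 2) (Subtype.ext hr4))
    exact IsPGroup.of_card (n := k) (by rw [Nat.card_zpowers, hk])
  have hfix : ∀ q ∈ MulAction.fixedPoints R (N ⧸ M), q = ((1 : N) : N ⧸ M) := by
    intro q hq
    induction q using QuotientGroup.induction_on with
    | _ n =>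
      have e : (((⟨r, hrN⟩ : N) * n : N) : N ⧸ M) = (n : N ⧸ M) := hq ⟨⟨r, hrN⟩, mem_zpowers _⟩
      have hm := QuotientGroup.eq.1 e.symm
      set y : G := (n : G) * h * (n : G)⁻¹ with hy
      have hyS : y ∈ (S : Subgroup G) := (mem_normalizer_iff.1 n.2 h).1 hh
      have hy3 : y ^ 3 = 1 := by rw [hy, conj_pow, h3]; group
      have hry : r * y * r⁻¹ = y ∨ r * y * r⁻¹ = y⁻¹ := by
        have hm' : ((n : G)⁻¹ * (r * n)) * h * ((n : G)⁻¹ * (r * n))⁻¹ = h ∨
            ((n : G)⁻¹ * (r * n)) * h * ((n : G)⁻¹ * (r * n))⁻¹ = h⁻¹ := hm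
        rcases hm' with e' | e'
        · refine Or.inl ?_
          rw [hy]
          nth_rewrite 2 [← e']
          group
        · refine Or.inr ?_
          rw [hy, show ((n : G) * h * (n : G)⁻¹)⁻¹ = n * h⁻¹ * (n : G)⁻¹ by group, ← e']
          group
      have hrr : r * (r * y * r⁻¹) * r⁻¹ = y := by
        rcases hry with e' | e' <;> rw [e']
        · rw [e']
        · rw [show r * y⁻¹ * r⁻¹ = (r * y * r⁻¹)⁻¹ by group, e', inv_inv]
      have hyy : y * y ∈ zpowers h := by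
        have := hrinv y hyS
        rwa [hrr] at this
      have hyh : y ∈ zpowers h := by
        have := mul_mem hyy hyy
        rwa [show y * y * (y * y) = y ^ 3 * y by simp [pow_succ, mul_assoc], hy3, one_mul] at this
      have hnM : n ∈ M := pow_three_cases h3 hyh (fun e' => hh1 (conj_eq_one_iff.1 e'))
      rw [eq_comm, QuotientGroup.eq, inv_one, one_mul]
      exact hnM
  have hodd : M.index % 2 = 1 := by
    have h1 : Nat.card (MulAction.fixedPoints R (N ⧸ M)) = 1 := by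
      rw [Nat.card_eq_one_iff_unique]
      refine ⟨⟨fun a b => Subtype.ext ((hfix _ a.2).trans (hfix _ b.2).symm)⟩, ⟨⟨((1 : N) : N ⧸ M), fun g => ?_⟩⟩⟩
      obtain ⟨⟨g, hg⟩, hgR⟩ := g
      show (((⟨g, hg⟩ : N) * 1 : N) : N ⧸ M) = _
      rw [mul_one, eq_comm, QuotientGroup.eq, inv_one, one_mul]
      refine (zpowers_le.2 (show (⟨r, hrN⟩ : N) ∈ M from Or.inl hrh)) hgR
    have := hRp.card_modEq_card_fixedPoints (N ⧸ M)
    rw [h1] at this
    exact this
  have hne : M ≠ ⊤ := by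
    intro htop
    obtain ⟨t, ht⟩ := hconj
    have hmem : t * h * t⁻¹ ∈ (S : Subgroup G) := by
      rcases ht with e | e <;> rw [e]
      exacts [hxS, inv_mem hxS]
    obtain ⟨n, hn, hne⟩ := Sylow.conj_eq_normalizer_conj_of_mem S h t⁻¹ hh (by rwa [inv_inv])
    rw [inv_inv] at hne
    have hnM : (⟨n⁻¹, inv_mem hn⟩ : N) ∈ M := htop ▸ mem_top _
    have hmem' : t * h * t⁻¹ ∈ zpowers h := by
      have hnM' : n⁻¹ * h * n⁻¹⁻¹ = h ∨ n⁻¹ * h * n⁻¹⁻¹ = h⁻¹ := hnM
      rw [inv_inv] at hnM'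
      rw [hne]
      rcases hnM' with e | e <;> rw [e]
      exacts [mem_zpowers h, inv_mem (mem_zpowers h)]
    rcases ht with e | e <;> rw [e] at hmem'
    exacts [hxh hmem', hxh (inv_mem_iff.1 hmem')]
  obtain ⟨l, hl, hld⟩ := Nat.exists_prime_and_dvd (fun e => hne (index_eq_one.1 e))
  haveI : Fact l.Prime := ⟨hl⟩
  have hlG : l ∣ Nat.card G := hld.trans ((index_dvd_card M).trans (card_subgroup_dvd_card N))
  rw [hG] at hlG
  rcases prime_of_dvd hl hlG with rfl | rfl | hl'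
  · omega
  · have hSM : (S : Subgroup G).subgroupOf N ≤ M := by
      intro n hn
      refine Or.inl ?_
      rw [hab n hn h hh, mul_inv_cancel_right]
    exact S.not_dvd_index ((hld.trans (index_dvd_of_le hSM)).trans (relIndex_dvd_index_of_le le_normalizer))
  · obtain ⟨T⟩ : Nonempty (Sylow l N) := inferInstance
    refine T.not_dvd_index (hld.trans (index_dvd_of_le fun n hn => Or.inl ?_))
    let φ : (T : Subgroup N) →* MulAut ↥(S : Subgroup G) :=
      ((S : Subgroup G).normalizerMonoidHom).comp (T : Subgroup N).subtype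
    letI : MulAction (T : Subgroup N) ↥(S : Subgroup G) := MulAction.compHom _ φ
    let F : Subgroup ↥(S : Subgroup G) :=
      { carrier := {s | ∀ t, φ t s = s}
        one_mem' := fun t => map_one (φ t)
        mul_mem' := fun {a b} ha hb t => by rw [map_mul, ha t, hb t]
        inv_mem' := fun {a} ha t => by rw [map_inv, ha t] }
    have hmod : 27 ≡ Nat.card F [MOD l] := by
      have := T.2.card_modEq_card_fixedPoints ↥(S : Subgroup G)
      rw [hS27] at this
      exact this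
    have hd : Nat.card F ∣ 3 ^ 3 := by
      have := card_subgroup_dvd_card F
      rwa [hS27] at this
    obtain ⟨i, hi, hie⟩ := (Nat.dvd_prime_pow Nat.prime_three).1 hd
    have hF : F = ⊤ := by
      refine eq_top_of_card_eq _ ?_
      rw [hS27, hie]
      rw [hie] at hmod
      interval_cases i <;> rcases hl' with rfl | rfl | rfl <;>
        first | rfl | exact absurd hmod (by decide)
    have e : (n : G) * h * (n : G)⁻¹ = h :=
      congrArg Subtype.val ((hF ▸ mem_top (⟨h, hh⟩ : ↥(S : Subgroup G)) : (⟨h, hh⟩ : ↥(S : Subgroup G)) ∈ F) ⟨n, hn⟩)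
    exact e

end Cfsg.Agent.HeLocal.Three
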