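import Cfsg.Agent.Lib.HeLocal.FusionLinear
import Cfsg.Agent.Lib.HeLocal.FusionSix
import Cfsg.Agent.Lib.HeLocal.FusionThreeBase

/-!
# The seventh class is conjugate to the centre: the elements of order three
-/

set_option autoImplicit false

namespace Cfsg.Agent.HeLocal

open Subgroup Code

namespace Three

/-- A search over the fields. -/
def anyQ (f : ℕ → Bool) : ℕ → Bool
  | 0 => false
  | n + 1 => f n || anyQ f n

theorem anyQ_spec {f : ℕ → Bool} : ∀ {n : ℕ}, anyQ f n = true → ∃ i < n, f i = true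
  | 0, h => Bool.noConfusion h
  | n + 1, h => by
    rw [anyQ, Bool.or_eq_true] at h
    rcases h with h | h
    · exact ⟨n, n.lt_succ_self, h⟩
    · obtain ⟨i, hi, hf⟩ := anyQ_spec h
      exact ⟨i, hi.trans n.lt_succ_self, hf⟩

set_option maxHeartbeats 0 in
-- a search among the 21504 codes
theorem inverter_check : (mPairs.any fun p => anyQ (fun q => inK (mk p.1 q) &&
    Nat.beq (mulF (mk p.1 q) elH) (mulF (mulF elH elH) (mk p.1 q))) 128) = true := by decide +kernel

theorem exists_inverter : ∃ k : Mdl, k * hm * k⁻¹ = hm⁻¹ := by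
  obtain ⟨p, -, hp⟩ := List.any_eq_true.1 inverter_check
  obtain ⟨q, -, hq⟩ := anyQ_spec hp
  rw [Bool.and_eq_true] at hq
  obtain ⟨h0, h1⟩ := hq
  refine ⟨el (mk p.1 q), ?_⟩
  have he : el (mk p.1 q) * hm = hm * hm * el (mk p.1 q) := code_inj (by
    rw [code_mul, code_mul, code_mul, code_el h0, hm, code_el hm_check.1, Nat.eq_of_beq_eq_true h1])
  rw [he, mul_inv_cancel_right]
  refine eq_inv_of_mul_eq_one_left ?_
  rw [mul_assoc, ← pow_two, ← pow_succ']
  have := pow_orderOf_eq_one hm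
  rw [hm_order] at this
  exact this

variable {G : Type*} [Group G]

/-- The products of the powers of two commuting elements of order three. -/
def pairSub (p q : G) (hc : p * q = q * p) (hp : p ^ 3 = 1) (hq : q ^ 3 = 1) : Subgroup G where
  carrier := Set.range fun i : Fin 3 × Fin 3 => p ^ i.1.val * q ^ i.2.val
  one_mem' := ⟨(0, 0), by simp⟩
  mul_mem' := by
    rintro _ _ ⟨i, rfl⟩ ⟨j, rfl⟩
    refine ⟨(⟨(i.1.val + j.1.val) % 3, Nat.mod_lt _ (by norm_num)⟩,
      ⟨(i.2.val + j.2.val) % 3, Nat.mod_lt _ (by norm_num)⟩), ?_⟩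
    show p ^ ((i.1.val + j.1.val) % 3) * q ^ ((i.2.val + j.2.val) % 3) = _
    rw [← pow_eq_pow_mod _ hp, ← pow_eq_pow_mod _ hq, pow_add, pow_add]
    exact Commute.mul_mul_mul_comm ((show Commute p q from hc).pow_pow _ _) _ _
  inv_mem' := by
    rintro _ ⟨i, rfl⟩
    refine ⟨(⟨(3 - i.1.val) % 3, Nat.mod_lt _ (by norm_num)⟩,
      ⟨(3 - i.2.val) % 3, Nat.mod_lt _ (by norm_num)⟩), ?_⟩
    show p ^ ((3 - i.1.val) % 3) * q ^ ((3 - i.2.val) % 3) = (p ^ i.1.val * q ^ i.2.val)⁻¹
    rw [← pow_eq_pow_mod _ hp, ← pow_eq_pow_mod _ hq]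
    refine eq_inv_of_mul_eq_one_left ?_
    rw [Commute.mul_mul_mul_comm ((show Commute p q from hc).pow_pow _ _).symm, ← pow_add, ← pow_add,
      Nat.sub_add_cancel (by omega), Nat.sub_add_cancel (by omega), hp, hq, one_mul]

theorem card_pairSub (p q : G) (hc : p * q = q * p) (hp : p ^ 3 = 1) (hq : q ^ 3 = 1)
    (hind : ∀ i j : Fin 3, p ^ i.val * q ^ j.val = 1 → i = 0 ∧ j = 0) :
    Nat.card (pairSub p q hc hp hq) = 9 := by
  have key : Function.Injective fun i : Fin 3 × Fin 3 => p ^ i.1.val * q ^ i.2.val := by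
    intro i j h
    have h' : p ^ i.1.val * q ^ i.2.val = p ^ j.1.val * q ^ j.2.val := h
    have e := hind ⟨(i.1.val + (3 - j.1.val)) % 3, Nat.mod_lt _ (by norm_num)⟩
      ⟨(i.2.val + (3 - j.2.val)) % 3, Nat.mod_lt _ (by norm_num)⟩ (by
        show p ^ ((i.1.val + (3 - j.1.val)) % 3) * q ^ ((i.2.val + (3 - j.2.val)) % 3) = 1
        rw [← pow_eq_pow_mod _ hp, ← pow_eq_pow_mod _ hq, pow_add, pow_add,
          Commute.mul_mul_mul_comm ((show Commute p q from hc).pow_pow _ _), h',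
          Commute.mul_mul_mul_comm ((show Commute p q from hc).pow_pow _ _).symm, ← pow_add, ← pow_add,
          Nat.add_sub_cancel' (by omega), Nat.add_sub_cancel' (by omega), hp, hq, one_mul])
    simp only [Fin.ext_iff, Fin.val_zero] at e
    exact Prod.ext (Fin.ext (by omega)) (Fin.ext (by omega))
  rw [show Nat.card (pairSub p q hc hp hq) = Nat.card ↥(Set.range fun i : Fin 3 × Fin 3 => p ^ i.1.val * q ^ i.2.val)
    from rfl, Nat.card_range_of_injective key]
  simp

/-- An element of odd order permuting two inverse pairs fixes the first element. -/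
theorem fix_of_pairs {g p q : G} (hg : g ^ 27 = 1) (hpq : p ≠ q) (hpq' : p⁻¹ ≠ q)
    (h1 : g * p * g⁻¹ = p ∨ g * p * g⁻¹ = p⁻¹ ∨ g * p * g⁻¹ = q ∨ g * p * g⁻¹ = q⁻¹)
    (h2 : g * q * g⁻¹ = p ∨ g * q * g⁻¹ = p⁻¹ ∨ g * q * g⁻¹ = q ∨ g * q * g⁻¹ = q⁻¹) :
    g * p = p * g := by
  set f := MulAut.conj g with hf
  have e1 : f p = p ∨ f p = p⁻¹ ∨ f p = q ∨ f p = q⁻¹ := h1
  have e2 : f q = p ∨ f q = p⁻¹ ∨ f q = q ∨ f q = q⁻¹ := h2
  have h4 : f (f (f (f p))) = p := by
    rcases e1 with a | a | a | a <;> rcases e2 with b | b | b | b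
    all_goals first
      | exact absurd (f.injective (a.trans b.symm)) hpq
      | exact absurd (f.injective (((map_inv f p).trans (congrArg Inv.inv a)).trans b.symm)) hpq'
      | exact absurd (f.injective (((map_inv f p).trans (congrArg Inv.inv a)).trans ((inv_inv _).trans b.symm))) hpq'
      | simp only [a, b, map_inv, inv_inv]
  have hc : Commute (g ^ 4) p := by
    rw [hf] at h4
    simp only [MulAut.conj_apply] at h4
    exact mul_inv_eq_iff_eq_mul.1 (by
      rw [show g ^ 4 * p * (g ^ 4)⁻¹ = g * (g * (g * (g * p * g⁻¹) * g⁻¹) * g⁻¹) * g⁻¹ by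
        simp [pow_succ, mul_assoc], h4])
  have := hc.pow_left 7
  rwa [← pow_mul, show 4 * 7 = 27 + 1 from rfl, pow_add, hg, one_mul, pow_one] at this

theorem eq_of_mod [Finite G] {h a b : G} (h3 : h ^ 3 = 1) (ha : a * a = 1) (hb : b * b = 1) (hah : a * h = h * a)
    (hab : a⁻¹ * b ∈ zpowers h) : a = b := by
  obtain ⟨i, hi⟩ := mem_zpowers_iff.1 hab
  set d := a⁻¹ * b with hd
  have hd3 : d ^ 3 = 1 := by
    rw [← hi, ← zpow_natCast, ← zpow_mul, mul_comm, zpow_mul, zpow_natCast, h3, one_zpow]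
  have had : Commute a d := by rw [← hi]; exact (show Commute a h from hah).zpow_right i
  have hd2 : d ^ 2 = 1 := by
    have : b = a * d := by rw [hd]; group
    rw [this, had.symm.mul_mul_mul_comm, ha, one_mul] at hb
    rw [pow_two]; exact hb
  have : d = 1 := by
    rw [pow_succ, hd2, one_mul] at hd3
    exact hd3
  rw [hd] at this
  exact (inv_mul_eq_one.1 this)

end Three

open Three

namespace Iso

variable {G : Type*} [Group G] {z : G} (I : Iso z) [Finite G] (hG2 : (Nat.card G).factorization 2 = 10)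
  (htwo : ∃ x y : G, orderOf x = 2 ∧ orderOf y = 2 ∧ ¬ IsConj x y ∧
    ∀ w : G, orderOf w = 2 → IsConj w x ∨ IsConj w y)

/-- Conjugate to the element of order three of the model, or to its inverse. -/
def HLike (x : G) : Prop := ∃ t : G, t * I.ι hm * t⁻¹ = x ∨ t * I.ι hm * t⁻¹ = x⁻¹

omit [Finite G] in
theorem hLike_inv {x : G} : I.HLike x⁻¹ ↔ I.HLike x :=
  exists_congr fun t => by rw [inv_inv]; exact or_comm

omit [Finite G] in
theorem hLike_conj {x : G} (g : G) (hx : I.HLike x) : I.HLike (g * x * g⁻¹) := by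
  obtain ⟨t, ht⟩ := hx
  refine ⟨g * t, ?_⟩
  rw [show g * t * I.ι hm * (g * t)⁻¹ = g * (t * I.ι hm * t⁻¹) * g⁻¹ by group]
  rcases ht with e | e <;> rw [e]
  · exact Or.inl rfl
  · exact Or.inr (by group)

omit [Finite G] in
theorem hLike_of_ι {p t : G} {g : Mdl} (hp : p ^ 3 = 1) (hp1 : p ≠ 1) (h : t * I.ι g * t⁻¹ = p) : I.HLike p := by
  haveI : Fact (Nat.Prime 3) := ⟨Nat.prime_three⟩
  have hg : orderOf g = 3 := by
    rw [← orderOf_injective I.ι I.ι_inj g, ← MulEquiv.orderOf_eq (MulAut.conj t) (I.ι g), MulAut.conj_apply, h]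
    exact orderOf_eq_prime hp hp1
  obtain ⟨k, hk⟩ := conj_hm hg
  refine ⟨t * (I.ι k)⁻¹, ?_⟩
  rw [← h]
  rcases hk with e | e
  · refine Or.inl ?_
    rw [← e, map_mul, map_mul, map_inv]; group
  · refine Or.inr ?_
    rw [← inv_inv hm, ← e, map_inv, map_mul, map_mul, map_inv]; group

include hG2 htwo

/-- The exchange of the centre with an involution of the second or third class. -/
theorem exists_swap_of {g : Mdl} (hg : IsInv g) (ht : tag g = 1 ∨ tag g = 2) :
    ∃ s : G, s * I.ι g * s⁻¹ = z ∧ s * z * s⁻¹ = I.ι g := by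
  have key : ∀ (k g0 : Mdl), (∃ s : G, s * I.ι g0 * s⁻¹ = z ∧ s * z * s⁻¹ = I.ι g0) → k * g0 * k⁻¹ = g →
      ∃ s : G, s * I.ι g * s⁻¹ = z ∧ s * z * s⁻¹ = I.ι g := by
    rintro k g0 ⟨s, hs, hs'⟩ rfl
    refine ⟨I.ι k * s * (I.ι k)⁻¹, ?_, ?_⟩
    · rw [map_mul, map_mul, map_inv, show I.ι k * s * (I.ι k)⁻¹ * (I.ι k * I.ι g0 * (I.ι k)⁻¹) *
        (I.ι k * s * (I.ι k)⁻¹)⁻¹ = I.ι k * (s * I.ι g0 * s⁻¹) * (I.ι k)⁻¹ by group, hs, I.ι_comm k,
        mul_inv_cancel_right]
    · rw [map_mul, map_mul, map_inv, show I.ι k * s * (I.ι k)⁻¹ * z * (I.ι k * s * (I.ι k)⁻¹)⁻¹ =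
        I.ι k * (s * ((I.ι k)⁻¹ * (z * I.ι k)) * s⁻¹) * (I.ι k)⁻¹ by group, ← I.ι_comm k, inv_mul_cancel_left, hs']
  rcases ht with ht | ht
  · obtain ⟨k, hk⟩ := exists_conj_of_tag_eq (isInv_rep (show 1 < 8 by norm_num)) hg
      (by rw [tag_rep (by norm_num), ht])
    exact key k _ (I.exists_swap hG2 htwo) hk
  · obtain ⟨k, hk⟩ := exists_conj_of_tag_eq (Theta.equiv_rep (show 1 < 8 by norm_num)).1 hg
      (by rw [(Theta.equiv_rep (show 1 < 8 by norm_num)).2, ht]; rfl)
    refine key k _ ?_ hk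
    obtain ⟨s, hs, hs'⟩ := I.swap.exists_swap hG2 htwo
    rw [swap_ι] at hs hs'
    exact ⟨s, hs, hs'⟩

/-- The centre is conjugate in the centralizer of the element of order three to its involutions. -/
theorem exists_rho {g : Mdl} (hg : IsInv g) (hgc : g * hm = hm * g) (ht : tag g ≠ 0) :
    ∃ ρ : G, ρ * I.ι hm * ρ⁻¹ = I.ι hm ∧ ρ * z * ρ⁻¹ = I.ι g := by
  have hle := hm_cent_tag hg hgc
  obtain ⟨s, hs, hs'⟩ := I.exists_swap_of hG2 htwo hg (by omega)
  obtain ⟨h', hh'⟩ := I.exists_ι (x := s * I.ι hm * s⁻¹) (by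
    have key : s * I.ι hm * s⁻¹ * (s * I.ι g * s⁻¹) = s * I.ι g * s⁻¹ * (s * I.ι hm * s⁻¹) := by
      rw [show s * I.ι hm * s⁻¹ * (s * I.ι g * s⁻¹) = s * (I.ι hm * I.ι g) * s⁻¹ by group,
        I.ι_comm_iff.2 hgc.symm]
      group
    rwa [hs] at key)
  have hh'g : h' * g = g * h' := I.ι_comm_iff.1 (by
    rw [hh', ← hs', show s * I.ι hm * s⁻¹ * (s * z * s⁻¹) = s * (I.ι hm * z) * s⁻¹ by group, I.ι_comm hm]
    group)
  have ho : orderOf h' = 3 := by
    rw [← orderOf_injective I.ι I.ι_inj h', hh', ← MulAut.conj_apply, MulEquiv.orderOf_eq,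
      orderOf_injective I.ι I.ι_inj, hm_order]
  have hf : (Nat.card (centralizer ({g} : Set Mdl))).factorization 3 = 1 := by
    have hc : Nat.card (centralizer ({g} : Set Mdl)) = 3 * 512 := by
      rw [card_cent_eq hg]
      rcases (show tag g = 1 ∨ tag g = 2 by omega) with e | e <;> rw [e] <;> rfl
    rw [hc, Nat.factorization_mul (by norm_num) (by norm_num), Finsupp.add_apply,
      Nat.prime_three.factorization_self, Nat.factorization_eq_zero_of_not_dvd (by norm_num)]
  obtain ⟨k, hk, hk'⟩ := conj_of_order_three_mem (centralizer ({g} : Set Mdl)) hf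
    (mem_centralizer_singleton_iff.2 hh'g) (mem_centralizer_singleton_iff.2 hgc.symm) ho hm_order
  have hkg : k * g = g * k := mem_centralizer_singleton_iff.1 hk
  have hz' : (I.ι k * s) * z * (I.ι k * s)⁻¹ = I.ι g := by
    rw [show (I.ι k * s) * z * (I.ι k * s)⁻¹ = I.ι k * (s * z * s⁻¹) * (I.ι k)⁻¹ by group, hs',
      I.ι_comm_iff.2 hkg, mul_inv_cancel_right]
  have hh : (I.ι k * s) * I.ι hm * (I.ι k * s)⁻¹ = I.ι (k * h' * k⁻¹) := by
    rw [map_mul, map_mul, map_inv, hh']; group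
  rcases hk' with e | e
  · exact ⟨I.ι k * s, by rw [hh, e], hz'⟩
  · rw [e] at hh
    obtain ⟨j, hj⟩ := exists_inverter
    refine ⟨I.ι k * s * I.ι j, ?_, ?_⟩
    · calc I.ι k * s * I.ι j * I.ι hm * (I.ι k * s * I.ι j)⁻¹
          = ((I.ι k * s) * I.ι hm * (I.ι k * s)⁻¹)⁻¹ := by
            rw [show I.ι k * s * I.ι j * I.ι hm * (I.ι k * s * I.ι j)⁻¹ =
              I.ι k * s * (I.ι j * I.ι hm * (I.ι j)⁻¹) * (I.ι k * s)⁻¹ by group, ← map_inv I.ι j, ← map_mul,
              ← map_mul, hj, map_inv]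
            group
        _ = _ := by rw [hh, map_inv, inv_inv]
    · rw [show I.ι k * s * I.ι j * z * (I.ι k * s * I.ι j)⁻¹ =
        (I.ι k * s) * (I.ι j * z * (I.ι j)⁻¹) * (I.ι k * s)⁻¹ by group, I.ι_comm j, mul_inv_cancel_right, hz']

/-- The centralizer of the element of order three: its involutions are conjugate to the centre, and it
provides an element of order four acting on a Sylow three subgroup. -/
theorem cent_three :
    (∀ x : G, x * x = 1 → x ≠ 1 → x * I.ι hm = I.ι hm * x → IsConj z x) ∧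
    (∀ P : Subgroup G, Nat.card P = 27 → (∀ a ∈ P, ∀ b ∈ P, a * b = b * a) → I.ι hm ∈ P →
      ∃ r : G, r ^ 4 = 1 ∧ r * I.ι hm * r⁻¹ = I.ι hm ∧ (∀ p ∈ P, r * p * r⁻¹ ∈ P) ∧
        ∀ p ∈ P, r * (r * p * r⁻¹) * r⁻¹ * p ∈ zpowers (I.ι hm)) := by
  set h := I.ι hm with hh
  have h3 : h ^ 3 = 1 := by rw [hh, ← map_pow, ← hm_order, pow_orderOf_eq_one, map_one]
  set C := centralizer ({h} : Set G) with hC
  set N : Subgroup C := (zpowers h).subgroupOf C with hNdef
  have hcomm : ∀ (c : C) (y : G), y ∈ zpowers h → (c : G) * y = y * c := by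
    intro c y hy
    obtain ⟨i, rfl⟩ := mem_zpowers_iff.1 hy
    exact ((show Commute (c : G) h from mem_centralizer_singleton_iff.1 c.2).zpow_right i).eq
  haveI hNn : N.Normal := ⟨fun n hn c => by
    have hn' : (n : G) ∈ zpowers h := hn
    show (c : G) * n * (c : G)⁻¹ ∈ zpowers h
    rw [hcomm c n hn', mul_inv_cancel_right]
    exact hn'⟩
  have hzC : z ∈ C := mem_centralizer_singleton_iff.2 (I.ι_comm hm).symm
  have hιC : ∀ x : DihedralGroup 4, I.ι (dih x) ∈ C := fun x =>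
    mem_centralizer_singleton_iff.2 (I.ι_comm_iff.2 (dih_comm x))
  set π := QuotientGroup.mk' N with hπ
  have hπeq : ∀ a b : C, π a = π b ↔ (a : G)⁻¹ * b ∈ zpowers h := fun a b => QuotientGroup.eq
  let φ : DihedralGroup 4 →* C ⧸ N := π.comp
    ((I.ι.comp dih).codRestrict C hιC)
  have hφr : φ (.r 2) = π ⟨z, hzC⟩ := congrArg π (Subtype.ext (by
    show I.ι (dih (.r 2)) = z
    rw [dih_two, ι_zc]))
  have hφ : Function.Injective φ := by
    rw [injective_iff_map_eq_one]
    intro x hx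
    have hmem : I.ι (dih x) ∈ zpowers h := (QuotientGroup.eq_one_iff (N := N) (⟨_, hιC x⟩ : C)).1 hx
    obtain ⟨i, hi⟩ := mem_zpowers_iff.1 hmem
    refine d8_facts.1 x (dih_injective (I.ι_inj ?_))
    rw [map_pow, map_pow, ← hi, map_one, map_one, ← zpow_natCast, ← zpow_mul, mul_comm, zpow_mul, zpow_natCast,
      h3, one_zpow]
  have hzz : z * z = 1 := I.ι_zc ▸ I.ι_sq zc_inv
  have hcent : ∀ c : C ⧸ N, c * φ (.r 2) = φ (.r 2) * c → ∃ x, φ x = c := by
    intro c hc
    induction c using QuotientGroup.induction_on with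
    | _ c =>
      rw [hφr] at hc
      have hmem := (hπeq ((⟨z, hzC⟩ : C)) (c * ⟨z, hzC⟩ * c⁻¹)).1 (by
        rw [map_mul, map_mul, map_inv]
        calc π ⟨z, hzC⟩ = π ⟨z, hzC⟩ * π c * (π c)⁻¹ := by group
          _ = _ := by rw [show π c * π ⟨z, hzC⟩ = π ⟨z, hzC⟩ * π c from hc])
      have hcz : z = (c : G) * z * (c : G)⁻¹ := eq_of_mod h3 hzz
        (by rw [show (c : G) * z * (c : G)⁻¹ * ((c : G) * z * (c : G)⁻¹) = c * (z * z) * (c : G)⁻¹ by group, hzz]
            group)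
        (mem_centralizer_singleton_iff.1 hzC) hmem
      obtain ⟨g, hg⟩ := I.exists_ι (x := (c : G)) (by
        conv_rhs => rw [hcz]
        group)
      obtain ⟨x, hx⟩ := hm_cent (g := g) (I.ι_comm_iff.1 (by
        rw [hg]; exact mem_centralizer_singleton_iff.1 c.2))
      refine ⟨x, (hπeq _ c).2 ?_⟩
      show (I.ι (dih x))⁻¹ * (c : G) ∈ zpowers h
      rw [← hg, ← map_inv, ← map_mul]
      rcases hx with rfl | rfl | rfl
      · rw [inv_mul_cancel, map_one]; exact one_mem _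
      · rw [show (dih x)⁻¹ * (hm * dih x) = hm by rw [← dih_comm x, inv_mul_cancel_left]]
        exact mem_zpowers h
      · rw [show (dih x)⁻¹ * (hm * hm * dih x) = hm * hm by
          rw [mul_assoc hm, ← dih_comm x, ← mul_assoc hm, ← dih_comm x, mul_assoc (dih x), inv_mul_cancel_left],
          map_mul]
        exact mul_mem (mem_zpowers h) (mem_zpowers h)
  have hconj : ∀ x : DihedralGroup 4, x * x = 1 → x ≠ 1 → IsConj (φ (.r 2)) (φ x) := by
    intro x hx hx1
    have hi : IsInv (dih x) := ⟨by rw [← map_mul, hx, map_one],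
      fun e => hx1 (dih_injective (e.trans (map_one dih).symm))⟩
    rcases eq_or_ne (tag (dih x)) 0 with ht | ht
    · have e : dih x = dih (.r 2) := (eq_zc_of_tag hi ht).trans dih_two.symm
      rw [dih_injective e]
    · obtain ⟨ρ, hρ, hρz⟩ := I.exists_rho hG2 htwo hi (dih_comm x) ht
      rw [hφr]
      refine isConj_iff.2 ⟨π ⟨ρ, mem_centralizer_singleton_iff.2 (mul_inv_eq_iff_eq_mul.1 hρ)⟩, ?_⟩
      rw [← map_inv, ← map_mul, ← map_mul]
      exact congrArg π (Subtype.ext hρz)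
  obtain ⟨hall, hsimple, hord⟩ := dihedral_conj φ hφ hcent hconj
  constructor
  · intro x hx hx1 hxh
    have hxC : x ∈ C := mem_centralizer_singleton_iff.2 hxh
    have hne : π ⟨x, hxC⟩ ≠ 1 := fun e => hx1 ((eq_of_mod h3 (one_mul 1) hx (by rw [one_mul, mul_one]) (by
      rw [inv_one, one_mul]; exact (QuotientGroup.eq_one_iff (N := N) (⟨x, hxC⟩ : C)).1 e)).symm)
    have hsq : π ⟨x, hxC⟩ * π ⟨x, hxC⟩ = 1 := by
      rw [← map_mul, ← map_one π]; exact congrArg π (Subtype.ext hx)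
    obtain ⟨c, hc⟩ := isConj_iff.1 (hall _ hsq hne)
    induction c using QuotientGroup.induction_on with
    | _ c =>
      rw [hφr] at hc
      have hmem := (hπeq (c * ⟨z, hzC⟩ * c⁻¹) (⟨x, hxC⟩ : C)).1 (by rw [map_mul, map_mul, map_inv]; exact hc)
      refine isConj_iff.2 ⟨(c : G), eq_of_mod h3 ?_ hx
        (mem_centralizer_singleton_iff.1 (c * ⟨z, hzC⟩ * c⁻¹ : C).2) hmem⟩
      rw [show (c : G) * z * (c : G)⁻¹ * ((c : G) * z * (c : G)⁻¹) = c * (z * z) * (c : G)⁻¹ by group, hzz]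
      group
  · intro P hP hab hhP
    have hPC : P ≤ C := fun p hp => mem_centralizer_singleton_iff.2 (hab p hp h hhP)
    set P' : Subgroup C := P.subgroupOf C
    have hP' : Nat.card P' = 27 := by rw [Nat.card_congr (subgroupOfEquivOfLe hPC).toEquiv, hP]
    have hNP : N ≤ P' := fun n hn => zpowers_le.2 hhP hn
    have hN3 : Nat.card N = 3 := by
      rw [Nat.card_congr (subgroupOfEquivOfLe (zpowers_le.2 (mem_centralizer_singleton_iff.2 rfl : h ∈ C))).toEquiv,
        Nat.card_zpowers, hh, orderOf_injective I.ι I.ι_inj, hm_order]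
    set Q := P'.map π with hQdef
    have hQ : Nat.card Q = 9 := by
      set f : P' →* C ⧸ N := π.comp P'.subtype with hf
      have hker : Nat.card f.ker = 3 := by
        rw [show f.ker = N.subgroupOf P' from by
          ext y; rw [MonoidHom.mem_ker]; exact QuotientGroup.eq_one_iff _,
          Nat.card_congr (subgroupOfEquivOfLe hNP).toEquiv, hN3]
      have hrange : f.range = Q := by rw [hf, MonoidHom.range_comp, Subgroup.range_subtype]
      have := f.ker.card_mul_index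
      rw [Subgroup.index_ker, hker, hP', hrange] at this
      omega
    have h360 : Nat.card (C ⧸ N) = 360 := by
      rcases hord with e | e
      · have hdvd := card_subgroup_dvd_card Q
        rw [hQ, e] at hdvd
        norm_num at hdvd
      · exact e
    obtain ⟨rb, hrb4, hrbP, hrbinv⟩ := Six.exists_four h360 Q hQ
    induction rb using QuotientGroup.induction_on with
    | _ c =>
      have hc4 : ((c ^ 4 : C) : G) ∈ zpowers h := (QuotientGroup.eq_one_iff (N := N) (c ^ 4)).1 (show π (c ^ 4) = 1 by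
        rw [map_pow]; exact hrb4)
      have hc12 : (c : G) ^ 12 = 1 := by
        obtain ⟨i, hi⟩ := mem_zpowers_iff.1 hc4
        rw [show 12 = 4 * 3 from rfl, pow_mul, ← Subgroup.coe_pow, ← hi, ← zpow_natCast, ← zpow_mul, mul_comm,
          zpow_mul, zpow_natCast, h3, one_zpow]
      set r : C := c ^ 9 with hr
      have hπr : π r = π c := by
        rw [hr, map_pow, show (9 : ℕ) = 4 * 2 + 1 from rfl, pow_add, pow_mul,
          show (π c) ^ 4 = 1 from hrb4, one_pow, one_mul, pow_one]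
      have back : ∀ y : C, π y ∈ Q → (y : G) ∈ P := by
        rintro y ⟨w, hw, hwy⟩
        have := mul_mem (show (w : G) ∈ P from hw) (zpowers_le.2 hhP ((hπeq w y).1 hwy))
        rwa [mul_inv_cancel_left] at this
      have fwd : ∀ p (hp : p ∈ P), π ⟨p, hPC hp⟩ ∈ Q := fun p hp => ⟨⟨p, hPC hp⟩, hp, rfl⟩
      refine ⟨(r : G), ?_, ?_, fun p hp => ?_, fun p hp => ?_⟩
      · rw [hr, Subgroup.coe_pow, ← pow_mul, show 9 * 4 = 12 * 3 from rfl, pow_mul, hc12, one_pow]
      · rw [mem_centralizer_singleton_iff.1 r.2, mul_inv_cancel_right]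
      · refine back (r * ⟨p, hPC hp⟩ * r⁻¹) ?_
        rw [map_mul, map_mul, map_inv, hπr]
        exact hrbP _ (fwd p hp)
      · refine (QuotientGroup.eq_one_iff (N := N) (r * (r * ⟨p, hPC hp⟩ * r⁻¹) * r⁻¹ * ⟨p, hPC hp⟩)).1 ?_
        show π _ = 1
        rw [map_mul, map_mul, map_mul, map_mul, map_mul, map_inv, hπr]
        rw [show π c * (π c * π ⟨p, hPC hp⟩ * (π c)⁻¹) * (π c)⁻¹ = (π ⟨p, hPC hp⟩)⁻¹ from hrbinv _ (fwd p hp),
          inv_mul_cancel]

set_option maxHeartbeats 1000000 in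
-- a long case analysis in one declaration
/-- The seventh class is conjugate to the centre. -/
theorem zType_six (hG : Nat.card G = 4030387200) : I.ZType (rep 6) := by
  classical
  by_contra h6
  haveI : Fact (Nat.Prime 3) := ⟨Nat.prime_three⟩
  have h7 := I.not_zType_seven hG2 htwo h6 hG
  obtain ⟨hinv, hfour⟩ := I.cent_three hG2 htwo
  obtain ⟨p, q, hc, hp3, hq3, hind, ⟨tp, gp, hgp⟩, ⟨tq, gq, hgq⟩, hx1, hx2⟩ := I.exists_pair hG2 htwo h6 h7
  have not_like : ∀ u : G, (∃ x : G, x * x = 1 ∧ x ≠ 1 ∧ x * u = u * x ∧ ¬ IsConj z x) → ¬ I.HLike u := by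
    rintro u ⟨x, hxx, hx1, hxu, hxz⟩ ⟨t, ht⟩
    have hxu' : x * (t * I.ι hm * t⁻¹) = t * I.ι hm * t⁻¹ * x := by
      rcases ht with e | e <;> rw [e]
      · exact hxu
      · exact ((show Commute x u from hxu).inv_right).eq
    refine hxz ((hinv (t⁻¹ * x * t) ?_ ?_ ?_).trans (isConj_iff.2 ⟨t, by group⟩))
    · rw [show t⁻¹ * x * t * (t⁻¹ * x * t) = t⁻¹ * (x * x) * t by group, hxx]; group
    · intro e
      exact hx1 (by
        calc x = t * (t⁻¹ * x * t) * t⁻¹ := by group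
          _ = 1 := by rw [e]; group)
    · calc t⁻¹ * x * t * I.ι hm = t⁻¹ * (x * (t * I.ι hm * t⁻¹)) * t := by group
        _ = t⁻¹ * (t * I.ι hm * t⁻¹ * x) * t := by rw [hxu']
        _ = _ := by group
  have hn1 := not_like _ hx1
  have hn2 := not_like _ hx2
  have ne_one : p ≠ 1 ∧ q ≠ 1 := by
    constructor
    · rintro rfl; exact absurd (hind 1 0 (by simp)).1 (by decide)
    · rintro rfl; exact absurd (hind 0 1 (by simp)).2 (by decide)
  have hlp : I.HLike p := I.hLike_of_ι hp3 ne_one.1 hgp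
  have hlq : I.HLike q := I.hLike_of_ι hq3 ne_one.2 hgq
  have sq_inv : ∀ u : G, u ^ 3 = 1 → u ^ 2 = u⁻¹ := fun u hu =>
    eq_inv_of_mul_eq_one_left (by rw [← pow_succ, hu])
  set E := pairSub p q hc hp3 hq3 with hE
  have hE9 : Nat.card E = 9 := card_pairSub p q hc hp3 hq3 hind
  have hpE : p ∈ E := ⟨(1, 0), by simp⟩
  have hqE : q ∈ E := ⟨(0, 1), by simp⟩
  have hn3 : ¬ I.HLike (p⁻¹ * q) := fun hl => hn2 (by
    have := I.hLike_inv.2 hl
    rwa [mul_inv_rev, inv_inv, ← (show Commute p q from hc).inv_right.eq] at this)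
  have hn4 : ¬ I.HLike (p⁻¹ * q⁻¹) := fun hl => hn1 (by
    have := I.hLike_inv.2 hl
    rwa [mul_inv_rev, inv_inv, inv_inv, ← hc] at this)
  -- the elements conjugate to the one of the model
  have four : ∀ w ∈ E, w ≠ 1 → I.HLike w → w = p ∨ w = p⁻¹ ∨ w = q ∨ w = q⁻¹ := by
    rintro _ ⟨⟨i, j⟩, rfl⟩ h1 hl
    have hi := i.2
    have hj := j.2
    dsimp only at h1 hl ⊢
    generalize i.val = a at hi h1 hl ⊢
    generalize j.val = b at hj h1 hl ⊢
    interval_cases a <;> interval_cases b <;>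
      simp only [pow_zero, pow_one, one_mul, mul_one, sq_inv p hp3, sq_inv q hq3] at h1 hl ⊢ <;>
      first
      | exact absurd rfl h1
      | exact Or.inl rfl
      | exact Or.inr (Or.inl rfl)
      | exact Or.inr (Or.inr (Or.inl rfl))
      | exact Or.inr (Or.inr (Or.inr rfl))
      | exact absurd hl hn1
      | exact absurd hl hn2
      | exact absurd hl hn3
      | exact absurd hl hn4
      | simp
  obtain ⟨S, hS⟩ := (IsPGroup.of_card (p := 3) (n := 2) (G := E) (by rw [hE9]; norm_num)).exists_le_sylow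
  have hS27 : Nat.card (S : Subgroup G) = 27 := by
    rw [S.card_eq_multiplicity, hG,
      show 4030387200 = 3 ^ 3 * 149273600 by norm_num, Nat.factorization_mul (by norm_num) (by norm_num),
      Finsupp.add_apply, Nat.prime_three.factorization_pow, Finsupp.single_eq_same,
      Nat.factorization_eq_zero_of_not_dvd (by norm_num)]
    rfl
  have hidx : (E.subgroupOf (S : Subgroup G)).index = 3 := by
    have := (E.subgroupOf (S : Subgroup G)).card_mul_index
    rw [Nat.card_congr (subgroupOfEquivOfLe hS).toEquiv, hE9, hS27] at this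
    omega
  haveI : (E.subgroupOf (S : Subgroup G)).Normal := Subgroup.normal_of_index_eq_minFac_card (by
    rw [hidx, hS27]; norm_num)
  have hp_ne : p ≠ q ∧ p⁻¹ ≠ q := by
    constructor
    · intro e
      exact absurd (hind 1 2 (by show p ^ 1 * q ^ 2 = 1; rw [pow_one, ← e, ← pow_succ', hp3])).1 (by decide)
    · intro e
      exact absurd (hind 1 1 (by show p ^ 1 * q ^ 1 = 1; rw [pow_one, pow_one, ← e, mul_inv_cancel])).1 (by decide)
  have hE_cent : ∀ g ∈ (S : Subgroup G), g * p = p * g ∧ g * q = q * g := by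
    intro g hg
    have hg27 : g ^ 27 = 1 := by
      rw [← hS27]; exact congrArg Subtype.val (pow_card_eq_one' (x := (⟨g, hg⟩ : ↥(S : Subgroup G))))
    have himg : ∀ w ∈ E, I.HLike w → w ≠ 1 → g * w * g⁻¹ = p ∨ g * w * g⁻¹ = p⁻¹ ∨ g * w * g⁻¹ = q ∨
        g * w * g⁻¹ = q⁻¹ := fun w hw hl h1 =>
      four _ (‹(E.subgroupOf (S : Subgroup G)).Normal›.conj_mem ⟨w, hS hw⟩ hw ⟨g, hg⟩)
        (fun e => h1 (conj_eq_one_iff.1 e)) (I.hLike_conj g hl)
    have a1 := himg p hpE hlp ne_one.1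
    have a2 := himg q hqE hlq ne_one.2
    exact ⟨fix_of_pairs hg27 hp_ne.1 hp_ne.2 a1 a2,
      fix_of_pairs hg27 hp_ne.1.symm (fun e => hp_ne.2 (by rw [← e, inv_inv]))
        (by tauto) (by tauto)⟩
  have hEc : ∀ g ∈ (S : Subgroup G), ∀ w ∈ E, g * w = w * g := by
    rintro g hg _ ⟨i, rfl⟩
    exact (((show Commute g p from (hE_cent g hg).1).pow_right _).mul_right
      ((show Commute g q from (hE_cent g hg).2).pow_right _)).eq
  have hab : ∀ a ∈ (S : Subgroup G), ∀ b ∈ (S : Subgroup G), a * b = b * a := by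
    intro a ha b hb
    by_cases haE : a ∈ E
    · exact (hEc b hb a haE).symm
    set D := centralizer ({a} : Set G) ⊓ (S : Subgroup G) with hD
    have hED : E ≤ D := fun w hw => ⟨mem_centralizer_singleton_iff.2 (hEc a ha w hw).symm, hS hw⟩
    have h9 := card_dvd_of_le hED
    have h27 := card_dvd_of_le (inf_le_right : D ≤ (S : Subgroup G))
    rw [hE9] at h9
    rw [hS27] at h27
    have hne : Nat.card D ≠ 9 := fun e => haE (by
      rw [eq_of_le_of_card_ge hED (by rw [hE9, e])]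
      exact ⟨mem_centralizer_singleton_iff.2 rfl, ha⟩)
    have hD27 : Nat.card D = 27 := by
      obtain ⟨m, hm'⟩ := h9
      rw [hm'] at h27 hne ⊢
      have : m ∣ 3 := Nat.dvd_of_mul_dvd_mul_left (show 0 < 9 by norm_num) (show 9 * m ∣ 9 * 3 from h27)
      rcases (Nat.dvd_prime Nat.prime_three).1 this with rfl | rfl
      · exact absurd rfl hne
      · rfl
    have hbD : b ∈ D := (eq_of_le_of_card_ge inf_le_right (by rw [hS27, hD27]) : D = (S : Subgroup G)).ge hb
    exact (mem_centralizer_singleton_iff.1 hbD.1).symm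
  -- move to the element of the model
  obtain ⟨t, ht⟩ := hlp
  set S' : Sylow 3 G := t⁻¹ • S with hS'
  have hmem' : ∀ w, w ∈ (S' : Subgroup G) ↔ t * w * t⁻¹ ∈ (S : Subgroup G) := by
    intro w
    rw [hS', Sylow.coe_subgroup_smul, Subgroup.mem_pointwise_smul_iff_inv_smul_mem]
    simp [MulAut.smul_def]
  have hS27' : Nat.card (S' : Subgroup G) = 27 := by rw [S'.card_eq_multiplicity, ← S.card_eq_multiplicity, hS27]
  have hab' : ∀ a ∈ (S' : Subgroup G), ∀ b ∈ (S' : Subgroup G), a * b = b * a := fun a ha b hb => by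
    have e := hab _ ((hmem' a).1 ha) _ ((hmem' b).1 hb)
    calc a * b = t⁻¹ * (t * a * t⁻¹ * (t * b * t⁻¹)) * t := by group
      _ = t⁻¹ * (t * b * t⁻¹ * (t * a * t⁻¹)) * t := by rw [e]
      _ = _ := by group
  have hhS : I.ι hm ∈ (S' : Subgroup G) := (hmem' _).2 (by
    rcases ht with e | e <;> rw [e]
    exacts [hS hpE, inv_mem (hS hpE)])
  obtain ⟨r, hr4, hrh, hrS, hrinv⟩ := hfour _ hS27' hab' hhS
  refine no_four hG S' hS27' hab' hhS (x := t⁻¹ * q * t)
    ((hmem' _).2 (by rw [show t * (t⁻¹ * q * t) * t⁻¹ = q by group]; exact hS hqE))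
    (by rw [← map_pow, ← hm_order, pow_orderOf_eq_one, map_one]) ?_ ?_ r hr4 hrh hrS hrinv
  · intro hmem
    have h3 : I.ι hm ^ 3 = 1 := by rw [← map_pow, ← hm_order, pow_orderOf_eq_one, map_one]
    have hq' : q = t * (t⁻¹ * q * t) * t⁻¹ := by group
    rcases pow_three_cases h3 hmem (fun e => ne_one.2 (by rw [hq', e]; group)) with e | e <;>
      rw [e] at hq'
    · rcases ht with e' | e' <;> rw [e'] at hq'
      exacts [hp_ne.1 hq'.symm, hp_ne.2 hq'.symm]
    · rw [show t * (I.ι hm)⁻¹ * t⁻¹ = (t * I.ι hm * t⁻¹)⁻¹ by group] at hq'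
      rcases ht with e' | e' <;> rw [e'] at hq'
      exacts [hp_ne.2 hq'.symm, hp_ne.1 (by rw [hq', inv_inv])]
  · have := I.hLike_conj t⁻¹ hlq
    rw [inv_inv] at this
    exact this

end Iso

end Cfsg.Agent.HeLocal
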