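import Cfsg.Agent.Lib.SuzukiRecog.PlaneCode

/-!
The search in `PSL₃(4)` behind the generators of `He`: given involutions `e`, `f`, `g`, `c` with `(f g)² = e` and `c`
central in `⟨f, g⟩`, the involutions `d` with `de`, `df`, `dg` of order three.
-/

set_option autoImplicit false
set_option linter.all false
set_option maxRecDepth 100000

namespace Cfsg.Agent.HeLocal.PlaneCode

open Cfsg.Agent.SuzukiRecog.PlaneCode

/-- The cube is a scalar. -/
def sc3 (A : C3) : Bool := sc (mul A (mul A A))

/-- The fourth power is a scalar. -/
def sc4 (A : C3) : Bool := let B := mul A A; sc (mul B B)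

/-- The fifth power is a scalar. -/
def sc5 (A : C3) : Bool := let B := mul A A; sc (mul A (mul B B))

/-- The seventh power is a scalar. -/
def sc7 (A : C3) : Bool := let B := mul A A; sc (mul A (mul B (mul B B)))

/-- The codes of involutions with product with the standard one possibly of odd order. -/
def others : List C3 :=
  [1, 2, 3].flatMap fun al => [0, 1, 2, 3].flatMap fun s => [0, 1, 2, 3].flatMap fun t =>
    [0, 1, 2, 3].map fun r => other al s t r

/-- Candidates for `d`. -/
def isD (f g d : C3) : Bool := sc3 (mul inv0 d) && sc3 (mul d f) && sc3 (mul d g)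

/-- Candidates for `c`. -/
def isC (f g c : C3) : Bool :=
  !sc c && !eqv c inv0 && sc (mul c c) && (let w := mul c f; sc (mul w w)) && (let w := mul c g; sc (mul w w))

/-- The claims on one pair. -/
def factsCD (f g c d : C3) (ds : List C3) : Bool :=
  let q1 := mul c (mul d c)
  let q2 := mul inv0 (mul d inv0)
  let ec := mul c inv0
  let q3 := mul ec (mul d ec)
  let w := mul d (mul f g)
  let cd := mul c d
  !sc (mul q1 d) && !sc (mul q2 d) && !sc (mul q3 d) && !sc cd && sc5 cd && sc4 (mul cd (mul f g)) &&
    !sc w && sc7 w && ds.all fun d' => eqv d' d || eqv d' q1 || eqv d' q2 || eqv d' q3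

/-- The claims on one `f`, `g`. -/
def checkFG (f g : C3) : Bool :=
  !(let w := mul f g; eqv (mul w w) inv0) ||
    (let ds := others.filter (isD f g)
     let cs := cents.filter (isC f g)
     !ds.isEmpty && cs.all fun c => ds.all fun d => factsCD f g c d ds)

/-- The involutions among the codes of the centralizer. -/
def invs : List C3 := cents.filter fun f => sc (mul f f)

/-- The check. -/
def check : Bool := invs.all fun f => invs.all fun g => checkFG f g

theorem check_eq : check = true := by decide +kernel

end Cfsg.Agent.HeLocal.PlaneCode
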