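import Cfsg.Agent.Lib.SuzukiRecog.PlaneGens
import Cfsg.Agent.Lib.HeLocal.PlaneCode

/-!
In `PSL₃(4)`: for involutions `e = (f g)²` and `c` central in `⟨f, g⟩` the involutions `d` with `de`, `df`, `dg` of
order three form one regular orbit of `⟨c, e⟩`, and satisfy the relations of `He`.
-/

set_option autoImplicit false

namespace Cfsg.Agent.HeLocal

open Cfsg.Agent.SuzukiRecog Cfsg.Agent.SuzukiRecog.PlaneCode

universe u v

/-- An involution with `de`, `df`, `dg` of order three. -/
structure PlaneD {M : Type*} [Group M] (d e f g : M) : Prop where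
  dd : d * d = 1
  de : (d * e) ^ 3 = 1
  df : (d * f) ^ 3 = 1
  dg : (d * g) ^ 3 = 1

/-- What is known of such an involution. -/
structure PlaneFacts {M : Type*} [Group M] (d e c f g : M) : Prop where
  cdc : c * d * c ≠ d
  ede : e * d * e ≠ d
  cede : c * e * d * (c * e) ≠ d
  cd : c * d ≠ 1
  cd5 : (c * d) ^ 5 = 1
  cdfg : (c * d * f * g) ^ 4 = 1
  seven : orderOf (d * f * g) = 7
  cover : ∀ d', PlaneD d' e f g → d' = d ∨ d' = c * d * c ∨ d' = e * d * e ∨ d' = c * e * d * (c * e)

/-- The conclusion. -/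
def PlaneConcl {M : Type*} [Group M] (e c f g : M) : Prop :=
  (∃ d, PlaneD d e f g) ∧ ∀ d, PlaneD d e f g → PlaneFacts d e c f g

theorem PlaneD.map {M : Type u} {N : Type v} [Group M] [Group N] (φ : M ≃* N) {d e f g : M} (h : PlaneD d e f g) :
    PlaneD (φ d) (φ e) (φ f) (φ g) where
  dd := by rw [← map_mul, h.dd, map_one]
  de := by rw [← map_mul, ← map_pow, h.de, map_one]
  df := by rw [← map_mul, ← map_pow, h.df, map_one]
  dg := by rw [← map_mul, ← map_pow, h.dg, map_one]

theorem PlaneFacts.map {M : Type u} {N : Type v} [Group M] [Group N] (φ : M ≃* N) {d e c f g : M}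
    (h : PlaneFacts d e c f g) : PlaneFacts (φ d) (φ e) (φ c) (φ f) (φ g) where
  cdc := by rw [← map_mul, ← map_mul]; exact φ.injective.ne h.cdc
  ede := by rw [← map_mul, ← map_mul]; exact φ.injective.ne h.ede
  cede := by rw [← map_mul, ← map_mul, ← map_mul]; exact φ.injective.ne h.cede
  cd := by rw [← map_mul]; exact (map_ne_one_iff φ φ.injective).2 h.cd
  cd5 := by rw [← map_mul, ← map_pow, h.cd5, map_one]
  cdfg := by rw [← map_mul, ← map_mul, ← map_mul, ← map_pow, h.cdfg, map_one]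
  seven := by rw [← map_mul, ← map_mul, MulEquiv.orderOf_eq, h.seven]
  cover d' hd' := by
    obtain ⟨d', rfl⟩ := φ.surjective d'
    have h' : PlaneD d' e f g := by
      have := hd'.map φ.symm
      simpa using this
    rcases h.cover d' h' with r | r | r | r <;> subst r <;> simp

theorem PlaneConcl.map {M : Type u} {N : Type v} [Group M] [Group N] (φ : M ≃* N) {e c f g : M}
    (h : PlaneConcl e c f g) : PlaneConcl (φ e) (φ c) (φ f) (φ g) := by
  obtain ⟨⟨d, hd⟩, hall⟩ := h
  refine ⟨⟨φ d, hd.map φ⟩, fun d' hd' => ?_⟩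
  obtain ⟨d', rfl⟩ := φ.surjective d'
  exact (hall d' (by simpa using hd'.map φ.symm)).map φ

namespace PlaneCode

variable {F : Type u} [Field F] [Fintype F] (D : Read F)

local notation "P3" => Matrix.ProjectiveSpecialLinearGroup (Fin 3) F
local notation "SL3" => Matrix.SpecialLinearGroup (Fin 3) F
local notation "M3" => Matrix (Fin 3) (Fin 3) F

open Matrix in
/-- An involution with product of order three with the standard one. -/
theorem exists_other_three {b : P3} (hb : b * b = 1) (h3 : (s0 D * b) ^ 3 = 1) (hne : s0 D * b ≠ 1) :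
    ∃ al ∈ [1, 2, 3], ∃ s ∈ [0, 1, 2, 3], ∃ t ∈ [0, 1, 2, 3], ∃ r ∈ [0, 1, 2, 3],
      Is D (other al s t r) b := by
  classical
  have h2 := D.two
  obtain ⟨V, hVV, rfl⟩ := lift_sq hb
  have hdd : ∀ x : M3, x + x = 0 := fun x => by rw [← two_smul F x, h2, zero_smul]
  set N : M3 := (V : M3) - 1 with hNdef
  have hV : (V : M3) = 1 + N := by rw [hNdef, add_sub_cancel]
  have hN : N * N = 0 := by
    rw [hV, mul_add, add_mul, add_mul, one_mul, one_mul, mul_one, add_assoc, ← add_assoc N N,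
      hdd, zero_add] at hVV
    exact add_eq_left.1 hVV
  have hN0 : N ≠ 0 := fun e => by
    have hV1 : V = 1 := Subtype.ext (by rw [hV, e, add_zero, Matrix.SpecialLinearGroup.coe_one])
    rw [hV1, QuotientGroup.mk_one, mul_one] at h3 hne
    have := orderOf_dvd_of_pow_eq_one h3
    rw [orderOf_s0] at this
    norm_num at this
  obtain ⟨y, ψ, hyψ⟩ := SuzukiLocal.PlaneModel.exists_vecMulVec hN0 hN
  have hE : D.dec inv0 = 1 + SuzukiLocal.PlaneModel.eMat := by
    ext i j
    fin_cases i <;> fin_cases j <;>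
      simp [Read.dec, inv0, Read.v, SuzukiLocal.PlaneModel.eMat]
  have h10 : N 1 0 ≠ 0 := by
    intro e
    have h4 : (s0 D * QuotientGroup.mk V) ^ 4 = 1 := by
      obtain ⟨E0, hE0, hE0'⟩ := is_inv0 D
      rw [← hE0', ← QuotientGroup.mk_mul, ← QuotientGroup.mk_pow]
      refine (congrArg _ (Subtype.ext ?_ : (E0 * V) ^ 4 = 1)).trans rfl
      rw [Matrix.SpecialLinearGroup.coe_pow, Matrix.SpecialLinearGroup.coe_mul,
        Matrix.SpecialLinearGroup.coe_one, hE0]
      rw [hE, hV]
      exact SuzukiLocal.PlaneModel.pow_four_eq_one h2 SuzukiLocal.PlaneModel.eMat_sq hN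
        (by rw [SuzukiLocal.PlaneModel.eMat_mul_mul, e, zero_smul])
        (by rw [SuzukiLocal.PlaneModel.mul_eMat_mul hyψ, e, zero_smul])
    refine hne ?_
    rw [pow_succ, h3, one_mul] at h4
    exact h4
  rw [hyψ, vecMulVec_apply] at h10
  obtain ⟨h1, h0⟩ := mul_ne_zero_iff.1 h10
  obtain ⟨al, hal, eal⟩ := D.v_surj (y 1 * ψ 0)
  obtain ⟨s, hs, es⟩ := D.v_surj (y 0 * ψ 0)
  obtain ⟨t, ht, et⟩ := D.v_surj (y 2 * ψ 0)
  obtain ⟨r, hr, er⟩ := D.v_surj (ψ 2 / ψ 0)
  have hal0 : D.v al ≠ 0 := by rw [eal]; exact mul_ne_zero h1 h0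
  have hal' : al % 4 ≠ 0 := fun e => hal0 (D.v_eq_zero.2 e)
  have hdot : ψ 0 * y 0 + ψ 1 * y 1 + ψ 2 * y 2 = 0 := by
    have h := congrFun (congrFun hN 1) 0
    rw [hyψ] at h
    simp [Matrix.mul_apply, Fin.sum_univ_three, vecMulVec_apply] at h
    have : y 1 * ψ 0 * (ψ 0 * y 0 + ψ 1 * y 1 + ψ 2 * y 2) = 0 := by linear_combination h
    exact (mul_eq_zero.1 this).resolve_left h10
  refine ⟨al, ?_, s, ?_, t, ?_, r, ?_, V, ?_, rfl⟩
  · simp only [List.mem_cons, List.not_mem_nil, or_false]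
    rw [Nat.mod_eq_of_lt hal] at hal'; omega
  · simp only [List.mem_cons, List.not_mem_nil, or_false]; omega
  · simp only [List.mem_cons, List.not_mem_nil, or_false]; omega
  · simp only [List.mem_cons, List.not_mem_nil, or_false]; omega
  have hv1 : D.v 1 = 1 := by simp [Read.v]
  have hinv : D.v (finv al) = (y 1 * ψ 0)⁻¹ := by
    rw [← eal]; exact eq_inv_of_mul_eq_one_left (D.v_inv hal')
  rw [hV, hyψ]
  simp only [other, Read.dec, D.v_add, D.v_mul, hv1, eal, es, et, er, hinv]
  have hu : y 1 * ψ 1 = y 0 * ψ 0 + y 2 * ψ 2 := by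
    linear_combination hdot - (y 0 * ψ 0 + y 2 * ψ 2) * h2
  ext i j
  fin_cases i <;> fin_cases j <;> simp [vecMulVec_apply, Matrix.one_apply] <;> field_simp <;>
    first
      | ring1
      | linear_combination hu
      | linear_combination (ψ 0 * y 0) * hu
      | linear_combination y 0 * hu
      | linear_combination y 1 * hu
      | linear_combination y 2 * hu
      | grind

open Matrix in
/-- The codes are realized. -/
theorem is_other {A : C3} (hA : A ∈ others) : ∃ p : P3, Is D A p := by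
  simp only [others, List.mem_flatMap, List.mem_map] at hA
  obtain ⟨al, hal, s, -, t, -, r, -, rfl⟩ := hA
  have hal' : al % 4 ≠ 0 := by
    simp only [List.mem_cons, List.not_mem_nil, or_false] at hal
    omega
  refine ⟨_, ⟨D.dec (other al s t r), ?_⟩, rfl, rfl⟩
  have h2 := D.two
  have hi := D.v_inv hal'
  have hv1 : D.v 1 = 1 := by simp [Read.v]
  rw [det_fin_three]
  simp [other, Read.dec, D.v_add, D.v_mul, hv1]
  grind

theorem concl_s0 {e c f g : P3} (he : e = s0 D) (cc : c * c = 1) (ff : f * f = 1) (gg : g * g = 1) (c1 : c ≠ 1) (ce : c ≠ e)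
    (hfg : (f * g) ^ 2 = e) (hce : c * e = e * c) (hcf : c * f = f * c) (hcg : c * g = g * c) :
    PlaneConcl e c f g := by
  classical
  have hfg4 : (f * g) * (f * g) = e := by rw [← hfg, pow_two]
  have hee : e * e = 1 := by
    rw [he]
    have h := pow_orderOf_eq_one (s0 D)
    rwa [orderOf_s0, pow_two] at h
  have e1 : e ≠ 1 := fun h => by
    have h' := orderOf_s0 D
    rw [← he, h, orderOf_one] at h'
    omega
  -- `f` and `g` commute with `e`
  have hfe : f * e = e * f ∧ g * e = e * g := by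
    have h4 : f * g * (f * g) * (f * g * (f * g)) = 1 := by rw [hfg4, hee]
    have hinv : g * f * (g * f) = e := by
      have h : g * f * (g * f) = (f * g * (f * g))⁻¹ := by
        simp only [mul_inv_rev, inv_eq_of_mul_eq_one_right ff, inv_eq_of_mul_eq_one_right gg, mul_assoc]
      rw [h, hfg4, inv_eq_of_mul_eq_one_right hee]
    constructor
    · calc f * e = f * (f * g * (f * g)) := by rw [hfg4]
        _ = (f * f) * (g * f * g) := by simp only [mul_assoc]
        _ = (g * f * (g * f)) * f := by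
          rw [ff, one_mul]
          calc g * f * g = g * f * g * (f * f) := by rw [ff, mul_one]
            _ = _ := by simp only [mul_assoc]
        _ = e * f := by rw [hinv]
    · calc g * e = g * (g * f * (g * f)) := by rw [hinv]
        _ = (g * g) * (f * g * f) := by simp only [mul_assoc]
        _ = (f * g * (f * g)) * g := by
          rw [gg, one_mul]
          calc f * g * f = f * g * f * (g * g) := by rw [gg, mul_one]
            _ = _ := by simp only [mul_assoc]
        _ = e * g := by rw [hfg4]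
  have Ie : Is D inv0 e := he ▸ is_inv0 D
  obtain ⟨Cf, hCf, If⟩ := mem_cents D (x := f) (by rw [← he]; exact hfe.1)
  obtain ⟨Cg, hCg, Ig⟩ := mem_cents D (x := g) (by rw [← he]; exact hfe.2)
  obtain ⟨Cc, hCc, Ic⟩ := mem_cents D (x := c) (by rw [← he]; exact hce)
  have chk := check_eq
  simp only [check, List.all_eq_true] at chk
  have chk := chk Cf (by simp only [invs, List.mem_filter]; exact ⟨hCf, (Is.sc_iff D (If.mul D If)).2 ff⟩)
    Cg (by simp only [invs, List.mem_filter]; exact ⟨hCg, (Is.sc_iff D (Ig.mul D Ig)).2 gg⟩)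
  simp only [checkFG, Bool.or_eq_true, Bool.not_eq_true', Bool.and_eq_true, List.all_eq_true] at chk
  rcases chk with h | ⟨hne, hcs⟩
  · exfalso
    rw [Bool.eq_false_iff] at h
    exact h ((Is.sc_iff D (((If.mul D Ig).mul D (If.mul D Ig)).mul D Ie)).2 (by rw [hfg4, hee]))
  have hCcf : Cc ∈ cents.filter (isC Cf Cg) := by
    simp only [List.mem_filter, isC, Bool.and_eq_true, Bool.not_eq_true', Bool.eq_false_iff, ne_eq, eqv]
    refine ⟨hCc, ⟨⟨⟨?_, ?_⟩, ?_⟩, ?_⟩, ?_⟩
    · exact fun h => c1 ((Is.sc_iff D Ic).1 h)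
    · exact fun h => ce (by
        rw [eq_inv_of_mul_eq_one_left ((Is.sc_iff D (Ic.mul D Ie)).1 h), inv_eq_of_mul_eq_one_right hee])
    · exact (Is.sc_iff D (Ic.mul D Ic)).2 cc
    · refine (Is.sc_iff D ((Ic.mul D If).mul D (Ic.mul D If))).2 ?_
      rw [mul_assoc, ← mul_assoc f, ← hcf, mul_assoc c f, ff, mul_one, cc]
    · refine (Is.sc_iff D ((Ic.mul D Ig).mul D (Ic.mul D Ig))).2 ?_
      rw [mul_assoc, ← mul_assoc g, ← hcg, mul_assoc c g, gg, mul_one, cc]
  have h3 : ∀ {x y : P3}, (x * y) ^ 3 = x * y * (x * y * (x * y)) := by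
    intro x y; rw [pow_succ, pow_two, mul_assoc]
  -- the codes of the `d`
  have code : ∀ d, PlaneD d e f g → ∃ A ∈ others.filter (isD Cf Cg), Is D A d := by
    intro d hd
    have hne' : s0 D * d ≠ 1 := fun h => by
      have hde : d = e := by
        rw [← he] at h
        rw [eq_inv_of_mul_eq_one_left h, inv_eq_of_mul_eq_one_right hd.dd]
      have h4 : (e * f) ^ 3 = 1 := hde ▸ hd.df
      have hef : e * f * (e * f) = 1 := by
        rw [mul_assoc, ← mul_assoc f, hfe.1, mul_assoc e f, ff, mul_one, hee]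
      rw [pow_succ, pow_two, hef, one_mul] at h4
      have hef' : f = e := by
        rw [eq_inv_of_mul_eq_one_left h4] at hee ⊢
        exact (inv_eq_of_mul_eq_one_right ff).symm.trans (inv_eq_of_mul_eq_one_right ff ▸ rfl)
      have h5 : (e * g) ^ 3 = 1 := hde ▸ hd.dg
      have heg : e * g * (e * g) = 1 := by
        rw [mul_assoc, ← mul_assoc g, hfe.2, mul_assoc e g, gg, mul_one, hee]
      rw [pow_succ, pow_two, heg, one_mul] at h5
      have hge : g = e := by
        rw [eq_inv_of_mul_eq_one_left h5, inv_eq_of_mul_eq_one_right gg]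
      rw [hef', hge, hee, one_mul] at hfg4
      exact e1 hfg4.symm
    have hed : (e * d) ^ 3 = 1 := by
      have : (e * d) ^ 3 = e * (d * e) ^ 3 * e := by
        rw [h3, h3]
        simp only [mul_assoc, hee, mul_one]
      rw [this, hd.de, mul_one, hee]
    obtain ⟨al, h1, s, h2, t, h3', r, h4, Id⟩ := exists_other_three D hd.dd (by rw [← he]; exact hed) hne'
    refine ⟨_, ?_, Id⟩
    simp only [List.mem_filter, isD, sc3, Bool.and_eq_true]
    refine ⟨?_, ⟨?_, ?_⟩, ?_⟩
    · simp only [others, List.mem_flatMap, List.mem_map]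
      exact ⟨al, h1, s, h2, t, h3', r, h4, rfl⟩
    · exact (Is.sc_iff D ((Ie.mul D Id).mul D ((Ie.mul D Id).mul D (Ie.mul D Id)))).2 (by rw [← h3]; exact hed)
    · exact (Is.sc_iff D ((Id.mul D If).mul D ((Id.mul D If).mul D (Id.mul D If)))).2 (by rw [← h3]; exact hd.df)
    · exact (Is.sc_iff D ((Id.mul D Ig).mul D ((Id.mul D Ig).mul D (Id.mul D Ig)))).2 (by rw [← h3]; exact hd.dg)
  refine ⟨?_, fun d hd => ?_⟩
  · rw [List.isEmpty_eq_false_iff] at hne
    obtain ⟨A, hA⟩ := List.exists_mem_of_ne_nil _ hne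
    simp only [List.mem_filter, isD, sc3, Bool.and_eq_true] at hA
    obtain ⟨hA, ⟨k1, k2⟩, k3⟩ := hA
    obtain ⟨d, Id⟩ := is_other D hA
    have hdd : d * d = 1 := by
      refine (Is.sc_iff D (Id.mul D Id)).1 ?_
      revert A
      intro A hA _ _ _ _
      have key : others.all (fun A => sc (mul A A)) = true := by decide +kernel
      exact List.all_eq_true.1 key A hA
    refine ⟨d, hdd, ?_, ?_, ?_⟩
    · have h := (Is.sc_iff D ((Ie.mul D Id).mul D ((Ie.mul D Id).mul D (Ie.mul D Id)))).1 k1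
      rw [← h3] at h
      have : (d * e) ^ 3 = e * (e * d) ^ 3 * e := by
        rw [h3, h3]
        simp only [mul_assoc, ← mul_assoc e e, hee, one_mul]
      rw [this, h, mul_one, hee]
    · rw [h3]; exact (Is.sc_iff D ((Id.mul D If).mul D ((Id.mul D If).mul D (Id.mul D If)))).1 k2
    · rw [h3]; exact (Is.sc_iff D ((Id.mul D Ig).mul D ((Id.mul D Ig).mul D (Id.mul D Ig)))).1 k3
  · obtain ⟨A, hA, Id⟩ := code d hd
    have hF := hcs Cc hCcf A hA
    simp only [factsCD, sc4, sc5, sc7, Bool.and_eq_true, Bool.not_eq_true', Bool.eq_false_iff, ne_eq,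
      List.all_eq_true, Bool.or_eq_true, eqv] at hF
    obtain ⟨⟨⟨⟨⟨⟨⟨⟨k1, k2⟩, k3⟩, k4⟩, k5⟩, k6⟩, k7⟩, k8⟩, k9⟩ := hF
    have Iec := Ic.mul D Ie
    have I1 := Ic.mul D (Id.mul D Ic)
    have I2 := Ie.mul D (Id.mul D Ie)
    have I3 := Iec.mul D (Id.mul D Iec)
    have Icd := Ic.mul D Id
    have Iw := Id.mul D (If.mul D Ig)
    have hceinv : c * e * (c * e) = 1 := by
      rw [mul_assoc, ← mul_assoc e, ← hce, mul_assoc c e, hee, mul_one, cc]
    have eq_of : ∀ {q : P3}, q * d = 1 → q = d := fun h => by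
      rw [eq_inv_of_mul_eq_one_left h, inv_eq_of_mul_eq_one_right hd.dd]
    refine ⟨fun h => k1 ((Is.sc_iff D (I1.mul D Id)).2 ?_), fun h => k2 ((Is.sc_iff D (I2.mul D Id)).2 ?_),
      fun h => k3 ((Is.sc_iff D (I3.mul D Id)).2 ?_), fun h => k4 ((Is.sc_iff D Icd).2 h), ?_, ?_, ?_, ?_⟩
    · rw [← mul_assoc c d c, h, hd.dd]
    · rw [← mul_assoc e d e, h, hd.dd]
    · rw [← mul_assoc (c * e) d, h, hd.dd]
    · rw [← (Is.sc_iff D (Icd.mul D ((Icd.mul D Icd).mul D (Icd.mul D Icd)))).1 k5]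
      simp only [pow_succ, pow_zero, one_mul, mul_assoc]
    · rw [← (Is.sc_iff D (((Icd.mul D (If.mul D Ig)).mul D (Icd.mul D (If.mul D Ig))).mul D
        ((Icd.mul D (If.mul D Ig)).mul D (Icd.mul D (If.mul D Ig))))).1 k6]
      simp only [pow_succ, pow_zero, one_mul, mul_assoc]
    · have : Fact (Nat.Prime 7) := ⟨by norm_num⟩
      refine orderOf_eq_prime ?_ fun h => k7 ((Is.sc_iff D Iw).2 (by simpa only [mul_assoc] using h))
      rw [← (Is.sc_iff D (Iw.mul D ((Iw.mul D Iw).mul D ((Iw.mul D Iw).mul D (Iw.mul D Iw))))).1 k8]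
      simp only [pow_succ, pow_zero, one_mul, mul_assoc]
    · intro d' hd'
      obtain ⟨A', hA', Id'⟩ := code d' hd'
      have eq' : ∀ {q : P3}, q * q = 1 → d' * q = 1 → d' = q := fun hq h => by
        rw [eq_inv_of_mul_eq_one_left h, inv_eq_of_mul_eq_one_right hq]
      rcases k9 A' hA' with ((h | h) | h) | h
      · exact Or.inl (eq' hd.dd ((Is.sc_iff D (Id'.mul D Id)).1 h))
      · refine Or.inr (Or.inl ((eq' ?_ ((Is.sc_iff D (Id'.mul D I1)).1 h)).trans (mul_assoc _ _ _).symm))
        rw [show c * (d * c) * (c * (d * c)) = c * (d * (c * c) * d) * c by simp only [mul_assoc], cc, mul_one,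
          hd.dd, mul_one, cc]
      · refine Or.inr (Or.inr (Or.inl ((eq' ?_ ((Is.sc_iff D (Id'.mul D I2)).1 h)).trans (mul_assoc _ _ _).symm)))
        rw [show e * (d * e) * (e * (d * e)) = e * (d * (e * e) * d) * e by simp only [mul_assoc], hee, mul_one,
          hd.dd, mul_one, hee]
      · refine Or.inr (Or.inr (Or.inr ((eq' ?_ ((Is.sc_iff D (Id'.mul D I3)).1 h)).trans (mul_assoc _ _ _).symm)))
        rw [show c * e * (d * (c * e)) * (c * e * (d * (c * e))) = c * e * (d * (c * e * (c * e)) * d) * (c * e)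
          by simp only [mul_assoc], hceinv, mul_one, hd.dd, mul_one, hceinv]

end PlaneCode

/-- The involutions `d` in a group isomorphic to `PSL₃(4)`. -/
theorem plane_check {F : Type u} [Field F] [Fintype F] (h4 : Fintype.card F = 4) {M : Type v} [Group M]
    (φ : M ≃* Matrix.ProjectiveSpecialLinearGroup (Fin 3) F) {e c f g : M}
    (ee : e * e = 1) (e1 : e ≠ 1) (cc : c * c = 1) (ff : f * f = 1) (gg : g * g = 1) (c1 : c ≠ 1) (ce : c ≠ e)
    (hfg : (f * g) ^ 2 = e) (hce : c * e = e * c) (hcf : c * f = f * c) (hcg : c * g = g * c) :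
    PlaneConcl e c f g := by
  obtain ⟨w, hw⟩ := PlaneCode.exists_omega h4
  let D : Read F := ⟨h4, w, hw⟩
  have ho : orderOf (φ e) = 2 := by
    have : Fact (Nat.Prime 2) := ⟨Nat.prime_two⟩
    exact orderOf_eq_prime (by rw [pow_two, ← map_mul, ee, map_one]) ((map_ne_one_iff φ φ.injective).2 e1)
  obtain ⟨k, hk⟩ := isConj_iff.1 (CIT.Gen.oneClass_three_four h4 _ _ ho (SuzukiRecog.PlaneCode.orderOf_s0 D))
  set ψ := φ.trans (MulAut.conj k) with hψ
  have h := PlaneCode.concl_s0 D (e := ψ e) (c := ψ c) (f := ψ f) (g := ψ g) hk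
    (by rw [← map_mul, cc, map_one]) (by rw [← map_mul, ff, map_one]) (by rw [← map_mul, gg, map_one])
    ((map_ne_one_iff ψ ψ.injective).2 c1) (ψ.injective.ne ce) (by rw [← map_mul, ← map_pow, hfg])
    (by rw [← map_mul, hce, map_mul]) (by rw [← map_mul, hcf, map_mul]) (by rw [← map_mul, hcg, map_mul])
  simpa using h.map ψ.symm

end Cfsg.Agent.HeLocal
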