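import Cfsg.Agent.Lib.HeLocal.Plane
import Cfsg.Agent.Lib.HeLocal.PlaneCheck
import Cfsg.Agent.InvChar.DihedralEightCentralizer
import Cfsg.Agent.S0206
import Cfsg.Prelude.Def_Spor_He

/-!
# The generators of `He` in a group of Held type

From `a, b, c, f, g` in `C(z)` the seventh generator `d` is found in `C(E)`, with all relations of the presentation.
No hypothesis on the order of the group.
-/

set_option autoImplicit false

namespace Cfsg.Agent.HeLocal

open Subgroup

variable {G : Type*} [Group G]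

theorem isConj_of_pow_three {p q : G} (pp : p * p = 1) (qq : q * q = 1) (h : (p * q) ^ 3 = 1) : IsConj p q := by
  have h' : p * q * p * q * p * q = 1 := by rw [← h]; simp only [pow_succ, pow_zero, one_mul, mul_assoc]
  refine isConj_iff.2 ⟨p * q, ?_⟩
  rw [mul_inv_rev, inv_eq_of_mul_eq_one_right pp, inv_eq_of_mul_eq_one_right qq, ← mul_assoc,
    eq_inv_of_mul_eq_one_left h', inv_eq_of_mul_eq_one_right qq]

theorem isConj_of_pow_five {p q : G} (pp : p * p = 1) (qq : q * q = 1) (h : (p * q) ^ 5 = 1) : IsConj p q := by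
  have h' : p * q * p * q * p * q * p * q * p * q = 1 := by
    rw [← h]; simp only [pow_succ, pow_zero, one_mul, mul_assoc]
  refine isConj_iff.2 ⟨p * q * (p * q), ?_⟩
  rw [mul_inv_rev, mul_inv_rev, inv_eq_of_mul_eq_one_right pp, inv_eq_of_mul_eq_one_right qq]
  simp only [← mul_assoc]
  rw [eq_inv_of_mul_eq_one_left h', inv_eq_of_mul_eq_one_right qq]

theorem swap_pow {p q : G} (pp : p * p = 1) (qq : q * q = 1) {n : ℕ} (h : (p * q) ^ n = 1) : (q * p) ^ n = 1 := by
  rw [show q * p = (p * q)⁻¹ by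
    rw [mul_inv_rev, inv_eq_of_mul_eq_one_right pp, inv_eq_of_mul_eq_one_right qq], inv_pow, h, inv_one]

theorem sq_of_comm {p q : G} (pp : p * p = 1) (qq : q * q = 1) (h : p * q = q * p) : (p * q) ^ 2 = 1 := by
  rw [(show Commute p q from h).mul_pow, pow_two, pow_two, pp, qq, one_mul]

/-- The local facts about the generators in `C(z)`. -/
structure GensHyp (z a x b c f g u : G) : Prop where
  plane : PlaneHyp z a x
  u_def : u = a * b * (a * b)
  bb : b * b = 1
  cc : c * c = 1
  ff : f * f = 1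
  gg : g * g = 1
  ab4 : (a * b) ^ 4 = 1
  bc3 : (b * c) ^ 3 = 1
  ac : a * c = c * a
  af : a * f = f * a
  ag : a * g = g * a
  bf : b * f = f * b
  bg : b * g = g * b
  cf : c * f = f * c
  cg : c * g = g * c
  fg : (f * g) ^ 2 = z
  abc : (a * b * c) ^ 3 = z
  c_mem : c ∈ centralizer ({z, a, x} : Set G)
  f_mem : f ∈ centralizer ({z, a, x} : Set G)
  g_mem : g ∈ centralizer ({z, a, x} : Set G)
  c_ne : c ∉ ({1, a, x, a * x} : Set G)
  cz_ne : c * z ∉ ({1, a, x, a * x} : Set G)
  c_t : ¬ IsConj z c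
  fa_t : ¬ IsConj z (f * a)
  ga_t : ¬ IsConj z (g * a)
  ux : u * x * u = a * x
  uc : u * c * u * (c * z) ∈ ({1, a, x, a * x} : Set G)
  u_t : ¬ IsConj z u
  zu_t : ¬ IsConj z (z * u)
  zau_t : ¬ IsConj z (z * (a * u))
  bz_z : IsConj z (b * z)
  cent_p : ∀ p, p * z = z * p → p * a = a * p → p * u = u * p →
    ∃ q ∈ closure ({f, g} : Set G),
      ∃ v ∈ ({1, a, u, a * u} : Set G), p = q * v
  seven : ∀ k q : G, k * z = z * k → q * z = z * q → orderOf k = 7 → q * q = 1 → k * q = q * k → q = 1 ∨ q = z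

namespace GensHyp

variable {z a x b c f g u : G} (H : GensHyp z a x b c f g u)

include H

theorem uu : u * u = 1 := by
  rw [H.u_def, ← H.ab4]; simp only [pow_succ, pow_zero, one_mul, mul_assoc]

theorem u_inv : u⁻¹ = u := inv_eq_of_mul_eq_one_right H.uu

theorem au : a * u = u * a := by
  have h : a * b * a * b * a * (b * a * b) = 1 := by rw [← H.uu, H.u_def]; simp only [mul_assoc]
  have hb : (b * a * b)⁻¹ = b * a * b := by
    simp only [mul_inv_rev, inv_eq_of_mul_eq_one_right H.bb, inv_eq_of_mul_eq_one_right H.plane.aa, mul_assoc]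
  have e := eq_inv_of_mul_eq_one_left h
  rw [hb] at e
  rw [H.u_def]
  calc a * (a * b * (a * b)) = (a * a) * (b * a * b) := by simp only [mul_assoc]
    _ = a * b * a * b * a := by rw [H.plane.aa, one_mul, e]
    _ = a * b * (a * b) * a := by simp only [mul_assoc]

theorem bab : b * a * b = a * u := by
  rw [H.u_def]
  calc b * a * b = (a * a) * (b * a * b) := by rw [H.plane.aa, one_mul]
    _ = a * (a * b * (a * b)) := by simp only [mul_assoc]

theorem bu : b * u = u * b := by
  have e : b * a * b * a * b = a * b * a := by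
    have h : b * a * b * a * b * (a * b * a) = 1 := by
      have h1 : b * (u * u) * b = 1 := by rw [H.uu, mul_one, H.bb]
      calc b * a * b * a * b * (a * b * a) = b * a * b * a * b * (a * b * a) * (b * b) := by rw [H.bb, mul_one]
        _ = 1 := by rw [← h1, H.u_def]; simp only [mul_assoc]
    rw [eq_inv_of_mul_eq_one_left h]
    simp only [mul_inv_rev, inv_eq_of_mul_eq_one_right H.bb, inv_eq_of_mul_eq_one_right H.plane.aa, mul_assoc]
  rw [H.u_def]
  calc b * (a * b * (a * b)) = b * a * b * a * b := by simp only [mul_assoc]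
    _ = a * b * a * (b * b) := by rw [e, H.bb, mul_one]
    _ = a * b * (a * b) * b := by simp only [mul_assoc]

theorem zb : b * z = z * b := by
  rw [← H.fg]; exact ((show Commute b f from H.bf).mul_right H.bg).pow_right 2

theorem uz : u * z = z * u := by
  have h := Commute.mul_left (show Commute a z from H.plane.za.symm) (show Commute b z from H.zb)
  rw [H.u_def]; exact Commute.mul_left h h

theorem uf : u * f = f * u := by
  have h := Commute.mul_left (show Commute a f from H.af) (show Commute b f from H.bf)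
  rw [H.u_def]; exact Commute.mul_left h h

theorem ug : u * g = g * u := by
  have h := Commute.mul_left (show Commute a g from H.ag) (show Commute b g from H.bg)
  rw [H.u_def]; exact Commute.mul_left h h

theorem u_not_mem : u ∉ centralizer ({a, x} : Set G) := fun h => H.plane.a_ne (by
  have h1 := (H.plane.mem_cent.1 h).2
  have h2 := H.ux
  rw [h1, mul_assoc, H.uu, mul_one] at h2
  exact (mul_eq_right.1 h2.symm))

theorem u_conj {p : G} (hp : p ∈ centralizer ({a, x} : Set G)) :
    u * p * u ∈ centralizer ({a, x} : Set G) := by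
  obtain ⟨h1, h2⟩ := H.plane.mem_cent.1 hp
  refine H.plane.mem_cent.2 ⟨?_, ?_⟩
  · exact Commute.mul_left (Commute.mul_left H.au.symm h1) H.au.symm
  · have hax : p * (a * x) = a * x * p := Commute.mul_right h1 h2
    have h3 : u * (a * x) = x * u := by
      rw [← H.ux, ← mul_assoc, ← mul_assoc, H.uu, one_mul]
    have h4 : u * x = a * x * u := by
      rw [← H.ux, mul_assoc, H.uu, mul_one]
    calc u * p * u * x = u * p * (u * x) := mul_assoc _ _ _
      _ = u * (p * (a * x)) * u := by rw [h4]; simp only [mul_assoc]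
      _ = u * (a * x) * (p * u) := by rw [hax]; simp only [mul_assoc]
      _ = x * (u * p * u) := by rw [h3]; simp only [mul_assoc]

theorem u_conj_E {v : G} (hv : v ∈ H.plane.E) : u * v * u ∈ H.plane.E := by
  have h3 : u * (a * x) * u = x := by
    rw [← H.ux, ← mul_assoc, ← mul_assoc, H.uu, one_mul, mul_assoc, H.uu, mul_one]
  rw [PlaneHyp.mem_E_cases] at hv ⊢
  rcases hv with rfl | rfl | rfl | rfl
  · left; rw [mul_one, H.uu]
  · right; left; rw [← H.au, mul_assoc, H.uu, mul_one]
  · right; right; right; exact H.ux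
  · right; right; left; exact h3

/-- The elements of `E` fixed by `u`. -/
theorem u_fixed {v : G} (hv : v ∈ H.plane.E) (hf : u * v * u = v) : v = 1 ∨ v = a := by
  have h3 : u * (a * x) * u = x := by
    rw [← H.ux, ← mul_assoc, ← mul_assoc, H.uu, one_mul, mul_assoc, H.uu, mul_one]
  rcases H.plane.mem_E_cases.1 hv with rfl | rfl | rfl | rfl
  · exact Or.inl rfl
  · exact Or.inr rfl
  · rw [H.ux] at hf
    exact absurd (mul_eq_right.1 hf) H.plane.a_ne
  · rw [h3] at hf
    exact absurd (mul_eq_right.1 hf.symm) H.plane.a_ne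

omit H in
/-- Conjugation by `u` on `C(E)`. -/
def sigma (H : GensHyp z a x b c f g u) :
    ↥(centralizer ({a, x} : Set G)) →* ↥(centralizer ({a, x} : Set G)) where
  toFun p := ⟨u * p * u, H.u_conj p.2⟩
  map_one' := Subtype.ext (by simp only [Subgroup.coe_one, mul_one, H.uu])
  map_mul' p q := Subtype.ext (by
    simp only [Subgroup.coe_mul]
    calc u * ((p : G) * q) * u = u * p * (u * u) * q * u := by rw [H.uu, mul_one]; simp only [mul_assoc]
      _ = _ := by simp only [mul_assoc])

omit H in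
/-- Conjugation by `u` on `C(E)/E`. -/
def sig (H : GensHyp z a x b c f g u) : H.plane.M →* H.plane.M :=
  QuotientGroup.map H.plane.EC H.plane.EC H.sigma fun _ hp => H.u_conj_E hp

theorem sig_mk (p : ↥(centralizer ({a, x} : Set G))) :
    H.sig (QuotientGroup.mk p) = QuotientGroup.mk ⟨u * p * u, H.u_conj p.2⟩ := rfl

theorem sig_sig (m : H.plane.M) : H.sig (H.sig m) = m := by
  induction m using QuotientGroup.induction_on with
  | _ p =>
  rw [H.sig_mk, H.sig_mk]
  refine congrArg QuotientGroup.mk (Subtype.ext ?_)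
  show u * (u * (p : G) * u) * u = p
  calc u * (u * (p : G) * u) * u = u * u * p * (u * u) := by simp only [mul_assoc]
    _ = p := by rw [H.uu, one_mul, mul_one]

/-- An element of the coset of an involution of `C(E)/E` not conjugate to `z` is unique. -/
theorem t_unique [Finite G] {y : G} (hy : y ∈ centralizer ({a, x} : Set G)) (hy1 : y ∉ H.plane.E)
    (hy2 : y * y ∈ H.plane.E) {v v' : G} (hv : v ∈ H.plane.E) (hv' : v' ∈ H.plane.E)
    (ht : ¬ IsConj z (y * v)) (ht' : ¬ IsConj z (y * v')) : v = v' := by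
  obtain ⟨v0, -, -, h⟩ := H.plane.lifts_all hy hy1 hy2
  have k : ∀ e ∈ H.plane.E, ¬ IsConj z (y * e) → e = v0 := fun e he hn => by
    by_contra hne
    exact hn ((h e he).2 hne)
  rw [k v hv ht, k v' hv' ht']

/-- The lift of an involution of `C(E)/E` fixed by `u`. -/
theorem exists_lift [Finite G] {m : H.plane.M} (hm : m * m = 1) (hm1 : m ≠ 1) (hs : H.sig m = m) :
    ∃ d, ∃ hd : d ∈ centralizer ({a, x} : Set G), QuotientGroup.mk ⟨d, hd⟩ = m ∧ d * d = 1 ∧ IsConj z d ∧
      ¬ IsConj z (d * a) ∧ u * d * u = d := by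
  induction m using QuotientGroup.induction_on with
  | _ y =>
  have hy1 : (y : G) ∉ H.plane.E := fun h => hm1 (H.plane.mk_eq_one.2 h)
  have hy2 : (y : G) * y ∈ H.plane.E := by
    rw [← QuotientGroup.mk_mul, PlaneHyp.mk_eq_one] at hm
    exact hm
  obtain ⟨v, hv, hvt, hvs⟩ := H.plane.lifts_all y.2 hy1 hy2
  have hav : a ∈ H.plane.E := Or.inr (Or.inl rfl)
  have hmem : (y : G) * (v * a) ∈ centralizer ({a, x} : Set G) :=
    mul_mem y.2 (H.plane.cent3_le (H.plane.E_le_cent3 (mul_mem hv hav)))
  refine ⟨_, hmem, ?_, (hvs _ (mul_mem hv hav)).1, (hvs _ (mul_mem hv hav)).2 fun h => H.plane.a_ne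
    (mul_left_cancel (h.trans (mul_one v).symm)), ?_, ?_⟩
  · refine QuotientGroup.eq.2 ?_
    rw [mem_subgroupOf]
    show ((y : G) * (v * a))⁻¹ * y ∈ H.plane.E
    rw [mul_inv_rev, mul_assoc, inv_mul_cancel, mul_one]
    exact inv_mem (mul_mem hv hav)
  · rwa [mul_assoc (y : G), mul_assoc v, H.plane.aa, mul_one]
  · rw [H.sig_mk] at hs
    have e : (u * (y : G) * u)⁻¹ * y ∈ H.plane.E := by
      have := mem_subgroupOf.1 (QuotientGroup.eq.1 hs)
      simpa using this
    set e0 := (y : G)⁻¹ * (u * y * u) with he0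
    have he : e0 ∈ H.plane.E := by
      have := inv_mem e
      rwa [mul_inv_rev, inv_inv] at this
    have hy' : u * (y : G) * u = y * e0 := by rw [he0, mul_inv_cancel_left]
    have hu : ∀ p : G, u * ((y : G) * p) * u = y * (e0 * (u * p * u)) := fun p => by
      calc u * ((y : G) * p) * u = u * y * (u * u) * p * u := by rw [H.uu, mul_one]; simp only [mul_assoc]
        _ = u * y * u * (u * p * u) := by simp only [mul_assoc]
        _ = _ := by rw [hy', mul_assoc]
    have hT : e0 * (u * v * u) = v := by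
      refine H.t_unique y.2 hy1 hy2 (mul_mem he (H.u_conj_E hv)) hv (fun h => hvt ?_) hvt
      rw [← hu] at h
      refine h.trans (isConj_iff.2 ⟨u, ?_⟩)
      rw [H.u_inv]
      calc u * (u * ((y : G) * v) * u) * u = u * u * (y * v) * (u * u) := by simp only [mul_assoc]
        _ = y * v := by rw [H.uu, one_mul, mul_one]
    rw [hu, show u * (v * a) * u = u * v * u * a by
      rw [← mul_assoc u v a, mul_assoc (u * v) a u, H.au, ← mul_assoc], ← mul_assoc e0, hT]

/-- An element of order three over `E` is of order three. -/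
theorem cube [Finite G] {d q : G} (dd : d * d = 1) (dz : IsConj z d) (hd : d * a = a * d)
    (hud : u * d * u = d) (hq : q * q = 1) (hqa : q * a = a * q) (huq : u * q = q * u)
    (hqt : ¬ IsConj z (q * a)) (h : (d * q) ^ 3 ∈ H.plane.E) : (d * q) ^ 3 = 1 := by
  have hdu : u * d = d * u := by
    conv_rhs => rw [← hud, mul_assoc, H.uu, mul_one]
  have hc : Commute u ((d * q) ^ 3) := (Commute.mul_right hdu huq).pow_right 3
  rcases H.u_fixed h (by rw [hc.eq, mul_assoc, H.uu, mul_one]) with e | e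
  · exact e
  · exfalso
    refine hqt (dz.trans (isConj_of_pow_three dd ?_ ?_))
    · rw [mul_assoc, ← mul_assoc a, ← hqa, mul_assoc q a, H.plane.aa, mul_one, hq]
    · rw [← mul_assoc, (show Commute (d * q) a from Commute.mul_left hd hqa).mul_pow, e, pow_succ, pow_two,
        H.plane.aa, one_mul, H.plane.aa]

/-- The generator `d`. -/
theorem exists_d [Finite G] :
    ∃ d, d ∈ centralizer ({a, x} : Set G) ∧ d * d = 1 ∧ IsConj z d ∧ ¬ IsConj z (d * a) ∧ u * d * u = d ∧
      (d * z) ^ 3 = 1 ∧ (d * f) ^ 3 = 1 ∧ (d * g) ^ 3 = 1 ∧ (c * d) ^ 5 = a ∧ (c * d * f * g) ^ 4 = 1 ∧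
      (d * f * g) ∉ H.plane.E ∧ (d * f * g) ^ 7 ∈ H.plane.E ∧
      (∀ d', d' ∈ centralizer ({a, x} : Set G) → d' * d' = 1 → IsConj z d' → ¬ IsConj z (d' * a) →
        u * d' * u = d' → (d' * z) ^ 3 = 1 → (d' * f) ^ 3 = 1 → (d' * g) ^ 3 = 1 →
        d' = d ∨ d' = z * d * z) := by
  obtain ⟨F, i1, i2, h4, ⟨φ⟩⟩ := H.plane.identify
  set Cz := centralizer ({a, x} : Set G) with hCz
  let mk : ∀ p : G, p ∈ Cz → H.plane.M := fun p hp => QuotientGroup.mk ⟨p, hp⟩
  have hzm := H.plane.cent3_le H.plane.z_mem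
  have hcm := H.plane.cent3_le H.c_mem
  have hfm := H.plane.cent3_le H.f_mem
  have hgm := H.plane.cent3_le H.g_mem
  set e' := mk z hzm with he'
  set c' := mk c hcm with hc'
  set f' := mk f hfm with hf'
  set g' := mk g hgm with hg'
  have sq : ∀ p hp, p * p = 1 → mk p hp * mk p hp = 1 := fun p hp h => by
    simp only [mk]; rw [← QuotientGroup.mk_mul, PlaneHyp.mk_eq_one, Subgroup.coe_mul, h]; exact one_mem _
  have hcz : c * z = z * c := (H.plane.mem_cent3.1 H.c_mem).1
  have eq_mk : ∀ {p q : G} (hp : p ∈ Cz) (hq : q ∈ Cz), p = q → mk p hp = mk q hq := fun _ _ h => by subst h; rfl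
  have ee : e' * e' = 1 := sq z hzm H.plane.zz
  have c1 : c' ≠ 1 := fun h => H.c_ne (H.plane.mk_eq_one.1 h)
  have e1 : e' ≠ 1 := fun h => H.plane.z_nmem (H.plane.mk_eq_one.1 h)
  have ce : c' ≠ e' := fun h => H.cz_ne (by
    have h' := QuotientGroup.eq.1 h
    rw [mem_subgroupOf, Subgroup.coe_mul, Subgroup.coe_inv, inv_eq_of_mul_eq_one_right H.cc] at h'
    exact h')
  have cc : c' * c' = 1 := sq c hcm H.cc
  have hce : c' * e' = e' * c' := by
    simp only [hc', he', mk, ← QuotientGroup.mk_mul]; exact congrArg _ (Subtype.ext hcz)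
  have hfg : (f' * g') ^ 2 = e' := by
    simp only [hf', hg', he', mk, ← QuotientGroup.mk_mul, ← QuotientGroup.mk_pow]
    exact congrArg _ (Subtype.ext H.fg)
  obtain ⟨⟨d1, hd1⟩, hall⟩ := plane_check h4 φ ee e1 cc (sq f hfm H.ff) (sq g hgm H.gg) c1 ce hfg hce
    (by simp only [hc', hf', mk, ← QuotientGroup.mk_mul]; exact congrArg _ (Subtype.ext H.cf))
    (by simp only [hc', hg', mk, ← QuotientGroup.mk_mul]; exact congrArg _ (Subtype.ext H.cg))
  have sfix : ∀ p hp, u * p = p * u → H.sig (mk p hp) = mk p hp := fun p hp h => by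
    simp only [mk, H.sig_mk]
    refine congrArg _ (Subtype.ext ?_)
    show u * p * u = p
    rw [h, mul_assoc, H.uu, mul_one]
  have se : H.sig e' = e' := sfix z hzm H.uz
  have sf : H.sig f' = f' := sfix f hfm H.uf
  have sg : H.sig g' = g' := sfix g hgm H.ug
  have sc : H.sig c' = c' * e' := by
    simp only [hc', he', mk, H.sig_mk, ← QuotientGroup.mk_mul]
    refine QuotientGroup.eq.2 ?_
    rw [mem_subgroupOf]
    show (u * c * u)⁻¹ * (c * z) ∈ H.plane.E
    rw [show (u * c * u)⁻¹ = u * c * u by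
      simp only [mul_inv_rev, inv_eq_of_mul_eq_one_right H.cc, H.u_inv, mul_assoc]]
    exact H.uc
  have sD : ∀ m, PlaneD m e' f' g' → PlaneD (H.sig m) e' f' g' := fun m hm =>
    { dd := by rw [← map_mul, hm.dd, map_one]
      de := by rw [← se, ← map_mul, ← map_pow, hm.de, map_one]
      df := by rw [← sf, ← map_mul, ← map_pow, hm.df, map_one]
      dg := by rw [← sg, ← map_mul, ← map_pow, hm.dg, map_one] }
  have hcecd : ∀ m : H.plane.M, c' * e' * m * (c' * e') = c' * (e' * m * e') * c' := fun m => by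
    conv_lhs => rw [hce]
    rw [← hce]
    calc c' * e' * m * (c' * e') = c' * e' * m * (e' * c') := by rw [hce]
      _ = _ := by simp only [mul_assoc]
  -- a fixed point
  obtain ⟨d0, hd0, hs0⟩ : ∃ m, PlaneD m e' f' g' ∧ H.sig m = m := by
    have hE : ∀ m, PlaneD m e' f' g' → H.sig m = c' * m * c' ∨ H.sig m = c' * e' * m * (c' * e') → False := by
      intro m hm h
      have h2 := H.sig_sig m
      have hec : ∀ q : H.plane.M, c' * (e' * (c' * q)) = e' * q := fun q => by
        rw [← mul_assoc e', ← hce, mul_assoc c' e', ← mul_assoc c' c', cc, one_mul]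
      have hee : ∀ q : H.plane.M, e' * (e' * q) = q := fun q => by rw [← mul_assoc, ee, one_mul]
      have hcc : ∀ q : H.plane.M, c' * (c' * q) = q := fun q => by rw [← mul_assoc, cc, one_mul]
      have hec0 : c' * (e' * c') = e' := by rw [← hce, ← mul_assoc, cc, one_mul]
      refine (hall m hm).ede ?_
      rcases h with h | h <;> rw [h] at h2 <;> simp only [map_mul, sc, se, h] at h2
      · simp only [mul_assoc, hec, hec0, hee, hcc, cc, ee, mul_one] at h2 ⊢
        exact h2
      · simp only [mul_assoc, hec, hec0, hee, hcc, cc, ee, mul_one] at h2 ⊢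
        exact h2
    rcases (hall d1 hd1).cover _ (sD d1 hd1) with h | h | h | h
    · exact ⟨d1, hd1, h⟩
    · exact absurd (Or.inl h) (hE d1 hd1)
    · have hcd : PlaneD (c' * d1 * c') e' f' g' := by
        have hcf : c' * f' = f' * c' := by
          simp only [hc', hf', mk, ← QuotientGroup.mk_mul]; exact congrArg _ (Subtype.ext H.cf)
        have hcg : c' * g' = g' * c' := by
          simp only [hc', hg', mk, ← QuotientGroup.mk_mul]; exact congrArg _ (Subtype.ext H.cg)
        have key : ∀ q, c' * q = q * c' → (d1 * q) ^ 3 = 1 → (c' * d1 * c' * q) ^ 3 = 1 := fun q hq hh => by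
          rw [show c' * d1 * c' * q = c' * (d1 * q) * c'⁻¹ by
            rw [inv_eq_of_mul_eq_one_right cc, mul_assoc (c' * d1), hq]; simp only [mul_assoc],
            conj_pow, hh, mul_one, mul_inv_cancel]
        refine ⟨?_, key _ hce hd1.de, key _ hcf hd1.df, key _ hcg hd1.dg⟩
        rw [show c' * d1 * c' * (c' * d1 * c') = c' * (d1 * (c' * c') * d1) * c' by simp only [mul_assoc], cc,
          mul_one, hd1.dd, mul_one, cc]
      refine ⟨_, hcd, ?_⟩
      rw [map_mul, map_mul, sc, h]
      calc c' * e' * (e' * d1 * e') * (c' * e') = c' * (e' * e') * d1 * (e' * (c' * e')) := by simp only [mul_assoc]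
        _ = c' * d1 * c' := by rw [ee, mul_one, hce, ← mul_assoc e' e', ee, one_mul]
    · exact absurd (Or.inr h) (hE d1 hd1)
  have hd01 : d0 ≠ 1 := fun h => by
    have := hd0.de
    rw [h, one_mul, pow_succ, pow_two, ee, one_mul] at this
    exact e1 this
  obtain ⟨d, hdm, hdd0, dd, dz, dat, hud⟩ := H.exists_lift hd0.dd hd01 hs0
  have hF := hall d0 hd0
  have hda : d * a = a * d := (H.plane.mem_cent.1 hdm).1
  have lift3 : ∀ q hq, q * q = 1 → q * a = a * q → u * q = q * u → ¬ IsConj z (q * a) →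
      (d0 * mk q hq) ^ 3 = 1 → (d * q) ^ 3 = 1 := by
    intro q hq q2 qa qu qt h
    refine H.cube dd dz hda hud q2 qa qu qt ?_
    rw [← hdd0] at h
    simp only [mk, ← QuotientGroup.mk_mul, ← QuotientGroup.mk_pow, PlaneHyp.mk_eq_one] at h
    exact h
  have hz3 := lift3 z hzm H.plane.zz H.plane.za H.uz H.plane.za_t hd0.de
  have hf3 := lift3 f hfm H.ff H.af.symm H.uf H.fa_t hd0.df
  have hg3 := lift3 g hgm H.gg H.ag.symm H.ug H.ga_t hd0.dg
  have hd1E : d ∉ H.plane.E := fun h => hd01 (by rw [← hdd0, PlaneHyp.mk_eq_one]; exact h)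
  have hd2E : d * d ∈ H.plane.E := by rw [dd]; exact one_mem _
  have hcd5 : (c * d) ^ 5 = a := by
    have hv : (c * d) ^ 5 ∈ H.plane.E := by
      have h := hF.cd5
      rw [← hdd0] at h
      simp only [hc', mk, ← QuotientGroup.mk_mul, ← QuotientGroup.mk_pow, PlaneHyp.mk_eq_one] at h
      exact h
    set v := (c * d) ^ 5 with hv'
    have vv : v * v = 1 := by
      rcases H.plane.mem_E_cases.1 hv with e | e | e | e <;> rw [e]
      · simp
      · exact H.plane.aa
      · exact H.plane.xx
      · rw [← pow_two]; exact sq_of_comm H.plane.aa H.plane.xx H.plane.ax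
    have hcv := H.plane.comm_E hcm hv
    have hdv := H.plane.comm_E hdm hv
    have hconj : IsConj c (d * v) := isConj_of_pow_five H.cc
      (by rw [mul_assoc, ← mul_assoc v, ← hdv, mul_assoc d v, vv, mul_one, dd]) (by
        rw [← mul_assoc, (Commute.mul_left hcv hdv : Commute (c * d) v).mul_pow, ← hv',
          show v ^ 5 = v * v * (v * v) * v by simp only [pow_succ, pow_zero, one_mul, mul_assoc], vv, one_mul,
          one_mul, vv])
    exact H.t_unique hdm hd1E hd2E hv (Or.inr (Or.inl rfl)) (fun h => H.c_t (h.trans hconj.symm)) dat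
  have hcdfg : (c * d * f * g) ^ 4 = 1 := by
    set w := c * d * f * g with hw
    have hwm : w ∈ Cz := mul_mem (mul_mem (mul_mem hcm hdm) hfm) hgm
    have h4' : w ^ 4 ∈ H.plane.E := by
      have h := hF.cdfg
      rw [← hdd0] at h
      simp only [hc', hf', hg', mk, ← QuotientGroup.mk_mul, ← QuotientGroup.mk_pow, PlaneHyp.mk_eq_one] at h
      exact h
    have e4 : w ^ 4 = w * w * (w * w) := by simp only [pow_succ, pow_zero, one_mul, mul_assoc]
    by_cases h2 : w * w ∈ H.plane.E
    · rw [e4]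
      rcases H.plane.mem_E_cases.1 h2 with e | e | e | e <;> rw [e]
      · simp
      · exact H.plane.aa
      · exact H.plane.xx
      · rw [← pow_two]; exact sq_of_comm H.plane.aa H.plane.xx H.plane.ax
    · obtain ⟨v, -, -, h⟩ := H.plane.lifts_all (mul_mem hwm hwm) h2 (e4 ▸ h4')
      have := (h 1 (one_mem _)).1
      rw [mul_one] at this
      rw [e4, this]
  have h7 := hF.seven
  rw [← hdd0] at h7
  simp only [hf', hg', mk, ← QuotientGroup.mk_mul] at h7
  have h7ne : d * f * g ∉ H.plane.E := fun h => by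
    rw [H.plane.mk_eq_one.2 h, orderOf_one] at h7
    omega
  have h7E : (d * f * g) ^ 7 ∈ H.plane.E := by
    have h := pow_orderOf_eq_one (QuotientGroup.mk (⟨d, hdm⟩ * ⟨f, hfm⟩ * ⟨g, hgm⟩) : H.plane.M)
    rw [h7, ← QuotientGroup.mk_pow, PlaneHyp.mk_eq_one] at h
    exact h
  refine ⟨d, hdm, dd, dz, dat, hud, hz3, hf3, hg3, hcd5, hcdfg, h7ne, h7E, ?_⟩
  intro d' hd'm d'd d'z d'at hud' d'e d'f d'g
  have hD' : PlaneD (mk d' hd'm) e' f' g' := by
    refine ⟨sq d' hd'm d'd, ?_, ?_, ?_⟩ <;>
      simp only [he', hf', hg', mk, ← QuotientGroup.mk_mul, ← QuotientGroup.mk_pow, PlaneHyp.mk_eq_one,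
        Subgroup.coe_pow, Subgroup.coe_mul]
    · rw [d'e]; exact one_mem _
    · rw [d'f]; exact one_mem _
    · rw [d'g]; exact one_mem _
  have hs' : H.sig (mk d' hd'm) = mk d' hd'm := by
    simp only [mk, H.sig_mk]; exact congrArg _ (Subtype.ext hud')
  have hbad : c' * d0 * c' ≠ c' * e' * d0 * (c' * e') := fun h => hF.ede (by
    rw [hcecd] at h
    exact (mul_left_cancel (mul_right_cancel h)).symm)
  have hcov := hF.cover _ hD'
  rcases hcov with h | h | h | h
  · left
    have hv : d⁻¹ * d' ∈ H.plane.E := by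
      rw [← hdd0] at h
      simpa using mem_subgroupOf.1 (QuotientGroup.eq.1 h.symm)
    have e : d' = d * (d⁻¹ * d') := (mul_inv_cancel_left _ _).symm
    have hv' := H.t_unique hdm hd1E hd2E (mul_mem hv (Or.inr (Or.inl rfl) : a ∈ H.plane.E))
      (Or.inr (Or.inl rfl)) (by rwa [← mul_assoc, ← e]) dat
    rw [e, mul_eq_right.1 hv', mul_one]
  · exfalso
    refine hbad ?_
    rw [h, map_mul, map_mul, sc, hs0] at hs'
    exact hs'.symm
  · right
    have hm : z * d * z ∈ Cz := mul_mem (mul_mem hzm hdm) hzm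
    have hcong : ∀ p : G, z * p * z = z * p * z⁻¹ := fun p => by rw [inv_eq_of_mul_eq_one_right H.plane.zz]
    have hv : (z * d * z)⁻¹ * d' ∈ H.plane.E := by
      rw [← hdd0] at h
      simp only [he', mk, ← QuotientGroup.mk_mul] at h
      simpa [mul_assoc] using mem_subgroupOf.1 (QuotientGroup.eq.1 h.symm)
    have e : d' = z * d * z * ((z * d * z)⁻¹ * d') := (mul_inv_cancel_left _ _).symm
    have hzd1 : z * d * z ∉ H.plane.E := fun h' => hd1E (by
      have := H.plane.comm_E hzm h'
      rw [show d = z * (z * d * z) * z by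
        calc d = z * z * d * (z * z) := by rw [H.plane.zz, one_mul, mul_one]
          _ = _ := by simp only [mul_assoc], this, mul_assoc, H.plane.zz, mul_one]
      exact h')
    have hzdd : z * d * z * (z * d * z) = 1 := by
      rw [show z * d * z * (z * d * z) = z * (d * (z * z) * d) * z by simp only [mul_assoc], H.plane.zz, mul_one, dd,
        mul_one, H.plane.zz]
    have hv' := H.t_unique hm hzd1 (by rw [hzdd]; exact one_mem _)
      (mul_mem hv (Or.inr (Or.inl rfl) : a ∈ H.plane.E)) (Or.inr (Or.inl rfl)) (by rwa [← mul_assoc, ← e])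
      (fun h' => dat (h'.trans (isConj_iff.2 ⟨z, by
        rw [inv_eq_of_mul_eq_one_right H.plane.zz]
        calc z * (z * d * z * a) * z = z * z * d * (z * a * z) := by simp only [mul_assoc]
          _ = d * a := by rw [H.plane.zz, one_mul, H.plane.za, mul_assoc, H.plane.zz, mul_one]⟩)))
    rw [e, mul_eq_right.1 hv', mul_one]
  · exfalso
    refine hbad ?_
    rw [h, hcecd] at hs'
    simp only [map_mul, sc, se, hs0] at hs'
    rw [hcecd, ← hs']
    symm
    calc c' * e' * (e' * d0 * e') * (c' * e') = c' * (e' * e') * d0 * (e' * (c' * e')) := by simp only [mul_assoc]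
      _ = c' * d0 * c' := by rw [ee, mul_one, hce, ← mul_assoc e' e', ee, one_mul]

omit H in
/-- The images of the generators. -/
def image (z a b c d f g : G) : Cfsg.Spor.He.Gen → G
  | .a => a | .b => b | .c => c | .d => d | .e => z | .f => f | .g => g

section Finite

variable [Finite G]

/-- The two groups `⟨d, f, g⟩` and `C(a, u)`. -/
theorem cent_decomp {d : G} (dd : d * d = 1) (hda : d * a = a * d) (hdu : d * u = u * d)
    (hdz : (d * z) ^ 3 = 1) (hdf : (d * f) ^ 3 = 1) (hdg : (d * g) ^ 3 = 1) (h7n : d * f * g ∉ H.plane.E)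
    (h7 : (d * f * g) ^ 7 ∈ H.plane.E) (hdE : d ∈ centralizer ({a, x} : Set G)) {p : G} (hpa : p * a = a * p)
    (hpu : p * u = u * p) :
    ∃ l ∈ closure ({d, f, g} : Set G), ∃ v ∈ ({1, a, u, a * u} : Set G), p = l * v := by
  classical
  have : Fact (Nat.Prime 2) := ⟨Nat.prime_two⟩
  set P := centralizer ({a, u} : Set G) with hP
  have memP : ∀ {q : G}, q ∈ P ↔ q * a = a * q ∧ q * u = u * q := by
    intro q
    simp only [hP, mem_centralizer_iff, Set.mem_insert_iff, Set.mem_singleton_iff, forall_eq_or_imp, forall_eq]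
    exact ⟨fun h => ⟨h.1.symm, h.2.symm⟩, fun h => ⟨h.1.symm, h.2.symm⟩⟩
  let V : Subgroup G :=
    { carrier := {1, a, u, a * u}
      one_mem' := Or.inl rfl
      mul_mem' := by
        intro p q hp hq
        have k1 : u * (a * u) = a := by rw [H.au, ← mul_assoc, H.uu, one_mul]
        have k2 : a * (a * u) = u := by rw [← mul_assoc, H.plane.aa, one_mul]
        have k4 : a * u * u = a := by rw [mul_assoc, H.uu, mul_one]
        have k3 : a * u * a = u := by rw [mul_assoc, ← H.au, k2]
        have k5 : a * u * (a * u) = 1 := by rw [mul_assoc, k1, H.plane.aa]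
        have k6 : u * a = a * u := H.au.symm
        rcases hp with rfl | rfl | rfl | rfl <;> rcases hq with rfl | rfl | rfl | rfl <;>
          simp only [one_mul, mul_one, H.plane.aa, H.uu, k1, k2, k3, k4, k5, k6, Set.mem_insert_iff,
            Set.mem_singleton_iff, true_or, or_true]
      inv_mem' := by
        intro p hp
        have k1 : (a * u)⁻¹ = a * u := by
          rw [mul_inv_rev, inv_eq_of_mul_eq_one_right H.plane.aa, H.u_inv, H.au]
        rcases hp with rfl | rfl | rfl | rfl <;>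
          simp only [inv_one, k1, inv_eq_of_mul_eq_one_right H.plane.aa, H.u_inv, Set.mem_insert_iff,
            Set.mem_singleton_iff, true_or, or_true] }
  have hVc : ∀ {q v : G}, q ∈ P → v ∈ V → q * v = v * q := by
    intro q v hq hv
    obtain ⟨h1, h2⟩ := memP.1 hq
    rcases hv with rfl | rfl | rfl | rfl
    · simp
    · exact h1
    · exact h2
    · exact Commute.mul_right h1 h2
  have hVP : V ≤ P := by
    intro v hv
    rw [memP]
    rcases hv with rfl | rfl | rfl | rfl
    · simp
    · exact ⟨rfl, H.au⟩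
    · exact ⟨H.au.symm, rfl⟩
    · exact ⟨Commute.mul_left (Commute.refl a) H.au.symm, Commute.mul_left H.au (Commute.refl _)⟩
  set VP := V.subgroupOf P with hVP'
  have : VP.Normal := ⟨fun v hv q => by
    rw [hVP', mem_subgroupOf, Subgroup.coe_mul, Subgroup.coe_mul, Subgroup.coe_inv, hVc q.2 (mem_subgroupOf.1 hv),
      mul_inv_cancel_right]
    exact hv⟩
  have one_iff : ∀ q : P, (QuotientGroup.mk q : P ⧸ VP) = 1 ↔ (q : G) ∈ V := fun q =>
    (QuotientGroup.eq_one_iff q).trans mem_subgroupOf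
  have hzV : ∀ v ∈ V, IsConj z (z * v) → v = 1 := fun v hv h => by
    rcases hv with rfl | rfl | rfl | rfl
    · rfl
    · exact absurd h H.plane.za_t
    · exact absurd h H.zu_t
    · exact absurd h H.zau_t
  have hzn : z ∉ V := by
    intro h
    rcases h with h | h | h | h
    · exact H.plane.z_nmem ((congrArg (· ∈ H.plane.E) h).mpr (one_mem _))
    · exact H.plane.a_t (h ▸ IsConj.refl z)
    · exact H.u_t (h ▸ IsConj.refl z)
    · exact H.u_not_mem (by
        have e : u = a * z := by rw [h, ← mul_assoc, H.plane.aa, one_mul]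
        rw [e]
        exact mul_mem (H.plane.cent3_le (H.plane.E_le_cent3 (Or.inr (Or.inl rfl))))
          (H.plane.cent3_le H.plane.z_mem))
  have hzP : z ∈ P := memP.2 ⟨H.plane.za, H.uz.symm⟩
  have hfP : f ∈ P := memP.2 ⟨H.af.symm, H.uf.symm⟩
  have hgP : g ∈ P := memP.2 ⟨H.ag.symm, H.ug.symm⟩
  have hdP : d ∈ P := memP.2 ⟨hda, hdu⟩
  set e' : P ⧸ VP := QuotientGroup.mk ⟨z, hzP⟩ with he'
  set f' : P ⧸ VP := QuotientGroup.mk ⟨f, hfP⟩ with hf'
  set g' : P ⧸ VP := QuotientGroup.mk ⟨g, hgP⟩ with hg'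
  set d' : P ⧸ VP := QuotientGroup.mk ⟨d, hdP⟩ with hd'
  have ff : f' * f' = 1 := by rw [hf', ← QuotientGroup.mk_mul, one_iff]; exact (show f * f ∈ V by rw [H.ff]; exact one_mem V)
  have gg : g' * g' = 1 := by rw [hg', ← QuotientGroup.mk_mul, one_iff]; exact (show g * g ∈ V by rw [H.gg]; exact one_mem V)
  have hfg : (f' * g') ^ 2 = e' := by
    rw [hf', hg', he', ← QuotientGroup.mk_mul, ← QuotientGroup.mk_pow]
    exact congrArg _ (Subtype.ext H.fg)
  have e1 : e' ≠ 1 := fun h => hzn ((one_iff _).1 h)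
  have ee : e' * e' = 1 := by rw [he', ← QuotientGroup.mk_mul, one_iff]; exact (show z * z ∈ V by rw [H.plane.zz]; exact one_mem V)
  have o4 : orderOf (f' * g') = 4 := by
    refine orderOf_eq_prime_pow (p := 2) (n := 1) ?_ ?_
    · rw [pow_one, hfg]; exact e1
    · rw [show 2 ^ (1 + 1) = 2 * 2 from rfl, pow_mul, hfg, pow_two, ee]
  have f1 : f' ≠ 1 := fun h => e1 (by rw [← hfg, h, one_mul, pow_two, gg])
  have g1 : g' ≠ 1 := fun h => e1 (by rw [← hfg, h, mul_one, pow_two, ff])
  have fg1 : f' ≠ g' := fun h => e1 (by rw [← hfg, h, gg, one_pow])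
  obtain ⟨iD⟩ := S0206.result f' g' (orderOf_eq_prime (by rw [pow_two, ff]) f1)
    (orderOf_eq_prime (by rw [pow_two, gg]) g1) fg1
  rw [o4] at iD
  set C := centralizer ({e'} : Set (P ⧸ VP)) with hC
  have hCeq : C = closure ({f', g'} : Set (P ⧸ VP)) := by
    refine le_antisymm ?_ ((closure_le _).2 ?_)
    · intro q hq
      induction q using QuotientGroup.induction_on with
      | _ q =>
      rw [hC, mem_centralizer_singleton_iff, he', ← QuotientGroup.mk_mul, ← QuotientGroup.mk_mul] at hq
      have h' : ((q : G) * z)⁻¹ * (z * q) ∈ V := mem_subgroupOf.1 (QuotientGroup.eq.1 hq)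
      set v := ((q : G) * z)⁻¹ * (z * q) with hv
      have hconj : IsConj z (z * v) := by
        refine isConj_iff.2 ⟨(q : G)⁻¹, ?_⟩
        rw [hv, inv_inv, mul_inv_rev, inv_eq_of_mul_eq_one_right H.plane.zz]
        calc (q : G)⁻¹ * z * q = (z * z) * ((q : G)⁻¹ * z * q) := by rw [H.plane.zz, one_mul]
          _ = _ := by simp only [mul_assoc]
      have hqz : (q : G) * z = z * q := by
        have h1 := hzV v h' hconj
        rw [hv, inv_mul_eq_one] at h1
        exact h1
      obtain ⟨r, hr, w, hw, e⟩ := H.cent_p q hqz (memP.1 q.2).1 (memP.1 q.2).2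
      have hrP : r ∈ P := (closure_le _).2 (by rintro y (rfl | rfl) <;> assumption) hr
      rw [show q = ⟨r, hrP⟩ * ⟨w, hVP hw⟩ from Subtype.ext e, QuotientGroup.mk_mul, (one_iff ⟨w, _⟩).2 hw, mul_one]
      have key : ∀ y (hy : y ∈ closure ({f, g} : Set G)), ∃ hyP : y ∈ P,
          (QuotientGroup.mk ⟨y, hyP⟩ : P ⧸ VP) ∈ closure ({f', g'} : Set (P ⧸ VP)) := by
        intro y hy
        induction hy using closure_induction with
        | mem y hy =>
          rcases hy with rfl | rfl
          · exact ⟨hfP, subset_closure (Or.inl rfl)⟩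
          · exact ⟨hgP, subset_closure (Or.inr rfl)⟩
        | one => exact ⟨one_mem _, one_mem _⟩
        | mul y y' _ _ ih ih' =>
          obtain ⟨h1, k1⟩ := ih
          obtain ⟨h2, k2⟩ := ih'
          exact ⟨mul_mem h1 h2, mul_mem k1 k2⟩
        | inv y _ ih =>
          obtain ⟨h1, k1⟩ := ih
          exact ⟨inv_mem h1, inv_mem k1⟩
      exact (key r hr).2
    · rintro y (rfl | rfl) <;> rw [SetLike.mem_coe, hC, mem_centralizer_singleton_iff, he', ← QuotientGroup.mk_mul,
        ← QuotientGroup.mk_mul]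
      · exact congrArg _ (Subtype.ext (H.plane.mem_cent3.1 H.f_mem).1)
      · exact congrArg _ (Subtype.ext (H.plane.mem_cent3.1 H.g_mem).1)
  have eC : ↥C ≃* DihedralGroup 4 := (MulEquiv.subgroupCongr hCeq).trans iD
  have hC8 : Nat.card C = 2 ^ 3 := by rw [Nat.card_congr eC.toEquiv, DihedralGroup.nat_card]; rfl
  have heC : e' ∈ C := mem_centralizer_singleton_iff.2 rfl
  have hcen : ∀ s ∈ C, s * e' = e' * s := fun s hs => mem_centralizer_singleton_iff.1 hs
  -- `C` is a Sylow subgroup
  have hnd : ¬ 2 ^ (3 + 1) ∣ Nat.card (P ⧸ VP) := by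
    intro hd16
    obtain ⟨T, hT, hCT⟩ := Sylow.exists_subgroup_card_pow_succ (p := 2) (n := 3) hd16 hC8
    have hidx : (C.subgroupOf T).index = 2 := by
      have h := (C.subgroupOf T).card_mul_index
      rw [Nat.card_congr (subgroupOfEquivOfLe hCT).toEquiv, hC8, hT] at h
      omega
    have hn := normal_of_index_eq_two hidx
    have hlt : C < T := lt_of_le_of_ne hCT fun e => by rw [e, hT] at hC8; omega
    obtain ⟨τ, hτT, hτC⟩ := SetLike.exists_of_lt hlt
    have hmem : τ * e' * τ⁻¹ ∈ C := hn.conj_mem ⟨e', hCT heC⟩ (show (⟨e', hCT heC⟩ : T) ∈ C.subgroupOf T from heC)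
      ⟨τ, hτT⟩
    have hc : ∀ s ∈ C, s * (τ * e' * τ⁻¹) = τ * e' * τ⁻¹ * s := by
      intro s hs
      have hs' : τ⁻¹ * s * τ⁻¹⁻¹ ∈ C := hn.conj_mem ⟨s, hCT hs⟩ (show (⟨s, hCT hs⟩ : T) ∈ C.subgroupOf T from hs)
        ⟨τ, hτT⟩⁻¹
      have h := hcen _ hs'
      calc s * (τ * e' * τ⁻¹) = τ * (τ⁻¹ * s * τ⁻¹⁻¹ * e') * τ⁻¹ := by group
        _ = τ * e' * τ⁻¹ * s := by rw [h]; group
    have hz2 : ∀ y : C, (y : P ⧸ VP) ≠ 1 → (∀ s : C, y * s = s * y) → eC y = .r 2 := fun y hy h =>
      InvChar.DihedralEightCentralizer.d4_center _ (fun t => by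
        obtain ⟨s, rfl⟩ := eC.surjective t
        rw [← map_mul, ← map_mul, h]) (fun h' => hy (congrArg Subtype.val ((map_eq_one_iff eC eC.injective).1 h')))
    have h1 := hz2 ⟨_, hmem⟩ (fun h => e1 (conj_eq_one_iff.1 h)) fun s => Subtype.ext (hc s s.2).symm
    have h2 := hz2 ⟨e', heC⟩ e1 fun s => Subtype.ext (hcen s s.2).symm
    have hfix : τ * e' * τ⁻¹ = e' := congrArg Subtype.val (eC.injective (h1.trans h2.symm))
    exact hτC (mem_centralizer_singleton_iff.2 (mul_inv_eq_iff_eq_mul.1 hfix))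
  have hCp : IsPGroup 2 C := IsPGroup.of_card hC8
  obtain ⟨S, hS⟩ := hCp.exists_le_sylow
  have hSC : (S : Subgroup (P ⧸ VP)) = C := by
    refine (Subgroup.eq_of_le_of_card_ge hS ?_).symm
    obtain ⟨n, hn⟩ := IsPGroup.iff_card.1 S.2
    have hd := Subgroup.card_subgroup_dvd_card (S : Subgroup (P ⧸ VP))
    rw [hn] at hd ⊢
    rw [hC8]
    refine Nat.pow_le_pow_right (by norm_num) ?_
    by_contra hlt
    exact hnd ((pow_dvd_pow 2 (by omega)).trans hd)
  have d3 : ∀ q : P, ((d : G) * q) ^ 3 = 1 → (d' * QuotientGroup.mk q) ^ 3 = 1 := fun q h => by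
    rw [hd', ← QuotientGroup.mk_mul, ← QuotientGroup.mk_pow, one_iff]
    show (d * (q : G)) ^ 3 ∈ V
    rw [h]; exact one_mem _
  have hno2 : ∀ K : Subgroup (P ⧸ VP), K.index ≠ 2 := by
    intro K hK
    have mk2 := fun y => Subgroup.mul_self_mem_of_index_two hK y
    have hprod : ∀ y y' : P ⧸ VP, (y * y') ^ 3 = 1 → y * y' ∈ K := fun y y' h => by
      have h2 : y * y' = (y * y') ^ 3 * (y * y' * (y * y'))⁻¹ := by
        rw [pow_succ, pow_two]; group
      rw [h2, h]
      exact mul_mem (one_mem _) (inv_mem (mk2 _))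
    have he : e' ∈ K := by rw [← hfg, pow_two]; exact mk2 _
    have hd : d' ∈ K := by
      have h := hprod d' e' (d3 ⟨z, hzP⟩ hdz)
      exact (Subgroup.mul_mem_cancel_right K he).1 h
    have hf : f' ∈ K := (Subgroup.mul_mem_cancel_left K hd).1 (hprod d' f' (d3 ⟨f, hfP⟩ hdf))
    have hg : g' ∈ K := (Subgroup.mul_mem_cancel_left K hd).1 (hprod d' g' (d3 ⟨g, hgP⟩ hdg))
    have hle : (S : Subgroup (P ⧸ VP)) ≤ K := by
      rw [hSC, hCeq, closure_le]
      rintro y (rfl | rfl) <;> assumption
    have hdvd := Subgroup.index_dvd_of_le hle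
    rw [hK] at hdvd
    exact S.not_dvd_index hdvd
  obtain ⟨hsimple, hcard⟩ := InvChar.DihedralEightCentralizer.simple_order hno2 e'
    (orderOf_eq_prime (by rw [pow_two, ee]) e1) S (fun s hs => hcen s (hSC ▸ hs)) eC
  -- the element of order seven
  have hwP : d * f * g ∈ P := mul_mem (mul_mem hdP hfP) hgP
  have hEu : ∀ v ∈ H.plane.E, v * u = u * v → v ∈ V := fun v hv h => by
    rcases H.u_fixed hv (by rw [← h, mul_assoc, H.uu, mul_one]) with rfl | rfl
    · exact one_mem _
    · exact Or.inr (Or.inl rfl)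
  have hwC : d * f * g ∈ centralizer ({a, x} : Set G) :=
    mul_mem (mul_mem hdE (H.plane.cent3_le H.f_mem)) (H.plane.cent3_le H.g_mem)
  have o7 : orderOf (QuotientGroup.mk ⟨d * f * g, hwP⟩ : P ⧸ VP) = 7 := by
    have : Fact (Nat.Prime 7) := ⟨by norm_num⟩
    refine orderOf_eq_prime ?_ fun h => h7n ?_
    · rw [← QuotientGroup.mk_pow, one_iff]
      exact hEu _ h7 (memP.1 (pow_mem hwP 7)).2
    · rcases (one_iff _).1 h with e | e | e | e
      · exact (Subgroup.mem_carrier).1 (Or.inl e)
      · exact Or.inr (Or.inl e)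
      · exact absurd (e ▸ hwC) H.u_not_mem
      · exfalso
        refine H.u_not_mem ?_
        rw [show u = a * (a * u) by rw [← mul_assoc a a, H.plane.aa, one_mul]]
        exact mul_mem (H.plane.cent3_le (H.plane.E_le_cent3 (Or.inr (Or.inl rfl)))) (e ▸ hwC)
  set K := closure ({d', f', g'} : Set (P ⧸ VP)) with hK
  have hCK : C ≤ K := by
    rw [hCeq]; exact closure_mono (by intro y hy; exact Set.mem_insert_of_mem _ hy)
  have h56 : 56 ∣ Nat.card K := by
    refine Nat.Coprime.mul_dvd_of_dvd_of_dvd (by norm_num : Nat.Coprime 8 7) ?_ ?_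
    · have h := Subgroup.card_dvd_of_le hCK
      rw [hC8] at h
      exact h
    · rw [← o7]
      exact Subgroup.orderOf_dvd_natCard K (show (QuotientGroup.mk ⟨d, hdP⟩ * QuotientGroup.mk ⟨f, hfP⟩ *
        QuotientGroup.mk ⟨g, hgP⟩ : P ⧸ VP) ∈ K from
        mul_mem (mul_mem (subset_closure (Or.inl rfl)) (subset_closure (Or.inr (Or.inl rfl))))
          (subset_closure (Or.inr (Or.inr rfl))))
  have hKtop : K = ⊤ := by
    rw [← Subgroup.index_eq_one]
    obtain ⟨j, hj⟩ := h56
    have hm := K.card_mul_index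
    rw [hj] at hm
    have h168 : Nat.card (P ⧸ VP) = 168 := by
      rcases hcard with h | h
      · exact h
      · exfalso
        have h7d := (Subgroup.orderOf_dvd_natCard (⊤ : Subgroup (P ⧸ VP))
          (mem_top (QuotientGroup.mk ⟨d * f * g, hwP⟩ : P ⧸ VP)))
        rw [o7, Subgroup.card_top, h] at h7d
        omega
    rw [h168] at hm
    by_contra hne
    have hne' : K ≠ ⊤ := fun h => hne (Subgroup.index_eq_one.2 h)
    have : Finite ((P ⧸ VP) ⧸ K) := inferInstance
    have hinj : Function.Injective (MulAction.toPermHom (P ⧸ VP) ((P ⧸ VP) ⧸ K)) := by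
      refine (MonoidHom.ker_eq_bot_iff _).1
        ((hsimple.eq_bot_or_eq_top_of_normal _ inferInstance).resolve_right fun e => hne' ?_)
      rw [← Subgroup.normalCore_eq_ker] at e
      exact eq_top_iff.2 (e ▸ K.normalCore_le)
    have hle := Nat.card_le_card_of_injective _ hinj
    rw [h168, Nat.card_perm, ← Subgroup.index_eq_card] at hle
    have hj3 : j * K.index = 3 := Nat.eq_of_mul_eq_mul_left (by norm_num : 0 < 56) (by rw [← mul_assoc]; exact hm.trans (by norm_num))
    have hi3 : K.index ≤ 3 := Nat.le_of_dvd (by norm_num) (Dvd.intro_left j hj3)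
    have := Nat.factorial_le hi3
    norm_num [Nat.factorial] at this
    omega
  have key : ∀ y : P ⧸ VP, y ∈ K → ∃ l ∈ closure ({d, f, g} : Set G), ∃ hl : l ∈ P, y = QuotientGroup.mk ⟨l, hl⟩ := by
    intro y hy
    induction hy using closure_induction with
    | mem y hy =>
      rcases hy with rfl | rfl | rfl
      · exact ⟨d, subset_closure (Or.inl rfl), hdP, rfl⟩
      · exact ⟨f, subset_closure (Or.inr (Or.inl rfl)), hfP, rfl⟩
      · exact ⟨g, subset_closure (Or.inr (Or.inr rfl)), hgP, rfl⟩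
    | one => exact ⟨1, one_mem _, one_mem _, rfl⟩
    | mul y y' _ _ ih ih' =>
      obtain ⟨l, hl, hlP, rfl⟩ := ih
      obtain ⟨l', hl', hlP', rfl⟩ := ih'
      exact ⟨_, mul_mem hl hl', mul_mem hlP hlP', rfl⟩
    | inv y _ ih =>
      obtain ⟨l, hl, hlP, rfl⟩ := ih
      exact ⟨_, inv_mem hl, inv_mem hlP, rfl⟩
  obtain ⟨l, hl, hlP, e⟩ := key (QuotientGroup.mk ⟨p, memP.2 ⟨hpa, hpu⟩⟩) (hKtop ▸ mem_top _)
  exact ⟨l, hl, l⁻¹ * p, mem_subgroupOf.1 (QuotientGroup.eq.1 e.symm), (mul_inv_cancel_left _ _).symm⟩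

/-- `d` commutes with `b`. -/
theorem exists_gens : ∃ d, d ∈ centralizer ({a, x} : Set G) ∧ d * d = 1 ∧ IsConj z d ∧ d * b = b * d ∧
    d * a = a * d ∧ (d * z) ^ 3 = 1 ∧ (d * f) ^ 3 = 1 ∧ (d * g) ^ 3 = 1 ∧ (c * d) ^ 5 = a ∧
    (c * d * f * g) ^ 4 = 1 := by
  obtain ⟨d, hdm, dd, dz, dat, hud, hz3, hf3, hg3, hcd, hcdfg, h7n, h7, hcov⟩ := H.exists_d
  refine ⟨d, hdm, dd, dz, ?_, (H.plane.mem_cent.1 hdm).1, hz3, hf3, hg3, hcd, hcdfg⟩
  have hda := (H.plane.mem_cent.1 hdm).1
  have hdu : d * u = u * d := by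
    conv_lhs => rw [← hud, mul_assoc, H.uu, mul_one]
  set d' := b * d * b with hd'
  have conjb : ∀ p q : G, b * p * b * (b * q * b) = b * (p * q) * b := fun p q => by
    calc b * p * b * (b * q * b) = b * p * (b * b) * q * b := by simp only [mul_assoc]
      _ = _ := by rw [H.bb, mul_one]; simp only [mul_assoc]
  have bqb : ∀ q : G, b * q = q * b → b * q * b = q := fun q h => by rw [h, mul_assoc, H.bb, mul_one]
  have hbiso : ∀ {q : G}, IsConj q (b * q * b) := fun {q} =>
    isConj_iff.2 ⟨b, by rw [inv_eq_of_mul_eq_one_right H.bb]⟩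
  have d'd : d' * d' = 1 := by rw [hd', conjb, dd, mul_one, H.bb]
  have d'u : d' * u = u * d' := by
    conv_lhs => rw [← bqb _ H.bu, hd', conjb, hdu]
    rw [← conjb, bqb _ H.bu]
  have d'a : d' * a = a * d' := by
    have hba : b * (a * u) * b = a := by
      rw [← H.bab]
      calc b * (b * a * b) * b = b * b * a * (b * b) := by simp only [mul_assoc]
        _ = a := by rw [H.bb, one_mul, mul_one]
    have hc : d * (a * u) = a * u * d := Commute.mul_right hda hdu
    conv_lhs => rw [← hba, hd', conjb, hc]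
    rw [← conjb, hba]
  have d'3 : ∀ q, b * q = q * b → (d * q) ^ 3 = 1 → (d' * q) ^ 3 = 1 := fun q hq h => by
    rw [hd', show b * d * b * q = b * (d * q) * b⁻¹ by
      rw [inv_eq_of_mul_eq_one_right H.bb, mul_assoc (b * d), hq]; simp only [mul_assoc], conj_pow, h, mul_one,
      mul_inv_cancel]
  obtain ⟨l, hl, v, hv, e⟩ := H.cent_decomp dd hda hdu hz3 hf3 hg3 h7n h7 hdm d'a d'u
  have hLC : closure ({d, f, g} : Set G) ≤ centralizer ({a, x} : Set G) := (closure_le _).2 (by
    rintro y (rfl | rfl | rfl)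
    · exact hdm
    · exact H.plane.cent3_le H.f_mem
    · exact H.plane.cent3_le H.g_mem)
  have hLP : ∀ y ∈ closure ({d, f, g} : Set G), y * a = a * y ∧ y * u = u * y := by
    intro y hy
    refine ⟨(H.plane.mem_cent.1 (hLC hy)).1, ?_⟩
    have h : closure ({d, f, g} : Set G) ≤ centralizer ({u} : Set G) := (closure_le _).2 (by
      rintro y (rfl | rfl | rfl) <;> rw [SetLike.mem_coe, mem_centralizer_singleton_iff]
      · exact hdu
      · exact H.uf.symm
      · exact H.ug.symm)
    exact mem_centralizer_singleton_iff.1 (h hy)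
  have hzC := H.plane.cent3_le H.plane.z_mem
  have hd'C : d' ∈ centralizer ({a, x} : Set G) := by
    rw [e]
    have hz' := d'3 z H.zb hz3
    rw [e] at hz'
    have bad : ∀ w : G, w * z = z * w → l * w = w * l → w * w = 1 → (l * w * z) ^ 3 = 1 →
        w ∈ centralizer ({a, x} : Set G) := by
      intro w h1 h2 hw h
      rw [mul_assoc, h1, ← mul_assoc, (Commute.mul_left h2 h1.symm : Commute (l * z) w).mul_pow] at h
      have e' : w = ((l * z) ^ 3)⁻¹ := by
        rw [show w ^ 3 = w by rw [pow_succ, pow_two, hw, one_mul]] at h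
        exact eq_inv_of_mul_eq_one_right h
      rw [e']
      exact inv_mem (pow_mem (mul_mem (hLC hl) hzC) 3)
    rcases hv with hv | hv | hv | hv
    · rw [hv, mul_one]; exact hLC hl
    · rw [hv]; exact mul_mem (hLC hl) (H.plane.cent3_le (H.plane.E_le_cent3 (Or.inr (Or.inl rfl))))
    · rw [hv] at hz'
      exact absurd (bad _ H.uz (hLP l hl).2 H.uu hz') H.u_not_mem
    · rw [hv] at hz'
      have hau : a * u ∈ centralizer ({a, x} : Set G) := bad _ (Commute.mul_left H.plane.za.symm H.uz)
        (Commute.mul_right (hLP l hl).1 (hLP l hl).2)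
        (by rw [← pow_two]; exact sq_of_comm H.plane.aa H.uu H.au) hz'
      refine absurd ?_ H.u_not_mem
      rw [show u = a * (a * u) by rw [← mul_assoc a a, H.plane.aa, one_mul]]
      exact mul_mem (H.plane.cent3_le (H.plane.E_le_cent3 (Or.inr (Or.inl rfl)))) hau
  have d'z : IsConj z d' := dz.trans hbiso
  have d'at : ¬ IsConj z (d' * a) := by
    have hd'E : d' ∉ H.plane.E := by
      intro h
      rcases H.plane.mem_E_cases.1 h with r | r | r | r <;> rw [r] at d'z
      · exact H.plane.z_nmem ((congrArg (· ∈ H.plane.E) (isConj_one_left.1 d'z)).mpr (one_mem _))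
      · exact H.plane.a_t d'z
      · exact H.plane.x_t d'z
      · exact H.plane.ax_t d'z
    have hd'2 : d' * d' ∈ H.plane.E := by rw [d'd]; exact one_mem _
    obtain ⟨v0, hv0, ht, -⟩ := H.plane.lifts_all hd'C hd'E hd'2
    have hfix : u * v0 * u = v0 := by
      refine H.t_unique hd'C hd'E hd'2 (H.u_conj_E hv0) hv0 (fun h => ht ?_) ht
      refine h.trans (isConj_iff.2 ⟨u, ?_⟩)
      rw [H.u_inv]
      calc u * (d' * (u * v0 * u)) * u = u * d' * u * (v0 * (u * u)) := by simp only [mul_assoc]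
        _ = d' * v0 := by rw [← d'u, mul_assoc d', H.uu, mul_one, mul_one]
    rcases H.u_fixed hv0 hfix with r | r <;> rw [r] at ht
    · rw [mul_one] at ht; exact absurd d'z ht
    · exact ht
  have hcases := hcov d' hd'C d'd d'z d'at (by rw [← d'u, mul_assoc, H.uu, mul_one]) (d'3 z H.zb hz3)
    (d'3 f H.bf hf3) (d'3 g H.bg hg3)
  rcases hcases with r | r
  · calc d * b = b * (b * d * b) := by rw [← mul_assoc, ← mul_assoc, H.bb, one_mul]
      _ = b * d := by rw [← hd', r]
  · exfalso
    set w := b * z with hw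
    have wd : w * d = d * w := by
      calc w * d = z * (b * d * b) * b := by
            rw [hw, H.zb]; simp only [mul_assoc, H.bb, mul_one]
        _ = (z * z) * d * (z * b) := by rw [← hd', r]; simp only [mul_assoc]
        _ = d * w := by rw [H.plane.zz, one_mul, hw, H.zb]
    have wf : w * f = f * w := Commute.mul_left H.bf (H.plane.mem_cent3.1 H.f_mem).1.symm
    have wg : w * g = g * w := Commute.mul_left H.bg (H.plane.mem_cent3.1 H.g_mem).1.symm
    have wu : w * u = u * w := Commute.mul_left H.bu H.uz.symm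
    have hk7 : (d * f * g) ^ 7 = 1 ∨ (d * f * g) ^ 7 = a := H.u_fixed h7 (by
      have hc : Commute u ((d * f * g) ^ 7) :=
        (Commute.mul_right (Commute.mul_right hdu.symm H.uf) H.ug).pow_right 7
      rw [hc.eq, mul_assoc, H.uu, mul_one])
    set k := (d * f * g) ^ 2 with hk
    have k7 : k ^ 7 = 1 := by
      rw [hk, ← pow_mul, mul_comm 2 7, pow_mul, pow_two]
      rcases hk7 with r7 | r7 <;> rw [r7]
      · simp
      · exact H.plane.aa
    have k1 : k ≠ 1 := fun h1 => h7n (by
      have h8 : d * f * g = (d * f * g) ^ 7 * (((d * f * g) ^ 2) ^ 3)⁻¹ := by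
        rw [← pow_mul, show (7 : ℕ) = 1 + 2 * 3 from rfl, pow_add, pow_one, mul_inv_cancel_right]
      rw [h8, ← hk, h1, one_pow, inv_one, mul_one]
      exact h7)
    have o7 : orderOf k = 7 := by
      have : Fact (Nat.Prime 7) := ⟨by norm_num⟩
      exact orderOf_eq_prime k7 k1
    have kw : k * w = w * k :=
      ((Commute.mul_right (Commute.mul_right (show Commute w d from wd) wf) wg).pow_right 2).symm.eq
    have ku : k * u = u * k :=
      ((Commute.mul_right (Commute.mul_right hdu.symm H.uf) H.ug).pow_right 2).symm.eq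
    obtain ⟨h, hh⟩ := isConj_iff.1 H.bz_z.symm
    have conjh : ∀ p q : G, h * p * h⁻¹ * (h * q * h⁻¹) = h * (p * q) * h⁻¹ := fun p q => by group
    rcases H.seven (h * k * h⁻¹) (h * u * h⁻¹)
      (by conv_lhs => rw [← hh]
          conv_rhs => rw [← hh]
          rw [conjh, conjh, kw])
      (by conv_lhs => rw [← hh]
          conv_rhs => rw [← hh]
          rw [conjh, conjh, wu])
      (by rw [show h * k * h⁻¹ = MulAut.conj h k from rfl, MulEquiv.orderOf_eq, o7])
      (by rw [conjh, H.uu]; group) (by rw [conjh, conjh, ku]) with r' | r'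
    · refine H.plane.a_ne ?_
      have hu1 := conj_eq_one_iff.1 r'
      have h2 := H.ux
      rw [hu1, one_mul, mul_one] at h2
      exact mul_eq_right.1 h2.symm
    · have h1 : u = w := mul_left_cancel (mul_right_cancel (r'.trans hh.symm))
      exact H.u_t (h1 ▸ H.bz_z)

/-- The homomorphism from the presented group. -/
theorem exists_hom : ∃ d, ∃ ψ : Cfsg.Spor.He →* G, (∀ i, ψ (PresentedGroup.of i) = image z a b c d f g i) ∧
    d ∈ centralizer ({a, x} : Set G) ∧ IsConj z d := by
  obtain ⟨d, hdm, dd, dz, hdb, hda, hz3, hf3, hg3, hcd, hcdfg⟩ := H.exists_gens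
  have hrel : ∀ r ∈ Cfsg.Spor.coxRelators Cfsg.Spor.He.edges ∪ {r | r ∈ Cfsg.Spor.He.extra},
      FreeGroup.lift (image z a b c d f g) r = 1 := by
    rintro r (⟨p, -, q, -, rfl⟩ | hr)
    · have hza := H.plane.za
      have hzc := (H.plane.mem_cent3.1 H.c_mem).1
      have hzf := (H.plane.mem_cent3.1 H.f_mem).1
      have hzg := (H.plane.mem_cent3.1 H.g_mem).1
      have fg4 : (f * g) ^ 4 = 1 := by
        rw [show (4 : ℕ) = 2 * 2 from rfl, pow_mul, H.fg, pow_two, H.plane.zz]
      have cd10 : (c * d) ^ 10 = 1 := by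
        rw [show (10 : ℕ) = 5 * 2 from rfl, pow_mul, hcd, pow_two, H.plane.aa]
      have r1 := swap_pow H.plane.aa H.bb H.ab4
      have r2 := swap_pow H.bb H.cc H.bc3
      have r3 := swap_pow H.cc dd cd10
      have r4 := swap_pow dd H.plane.zz hz3
      have r5 := swap_pow dd H.ff hf3
      have r6 := swap_pow dd H.gg hg3
      have r7 := swap_pow H.ff H.gg fg4
      have s2 := @sq_of_comm G _
      cases p <;> cases q <;>
        simp only [Cfsg.Spor.coxLabel, Cfsg.Spor.He.edges, map_pow, map_mul, FreeGroup.lift_apply_of, image,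
          List.find?, reduceCtorEq, decide_false, decide_true, and_self, or_false, false_or, and_true, and_false,
          ↓reduceIte, pow_one, H.plane.aa, H.bb, H.cc, dd, H.plane.zz, H.ff, H.gg] <;>
        first
          | assumption
          | exact H.ab4
          | exact H.bc3
          | exact s2 H.plane.aa H.cc H.ac
          | exact s2 H.cc H.plane.aa H.ac.symm
          | exact s2 dd H.plane.aa hda
          | exact s2 H.plane.aa dd hda.symm
          | exact s2 H.plane.zz H.plane.aa hza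
          | exact s2 H.plane.aa H.plane.zz hza.symm
          | exact s2 H.plane.aa H.ff H.af
          | exact s2 H.ff H.plane.aa H.af.symm
          | exact s2 H.plane.aa H.gg H.ag
          | exact s2 H.gg H.plane.aa H.ag.symm
          | exact s2 dd H.bb hdb
          | exact s2 H.bb dd hdb.symm
          | exact s2 H.bb H.plane.zz H.zb
          | exact s2 H.plane.zz H.bb H.zb.symm
          | exact s2 H.bb H.ff H.bf
          | exact s2 H.ff H.bb H.bf.symm
          | exact s2 H.bb H.gg H.bg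
          | exact s2 H.gg H.bb H.bg.symm
          | exact s2 H.cc H.plane.zz hzc
          | exact s2 H.plane.zz H.cc hzc.symm
          | exact s2 H.cc H.ff H.cf
          | exact s2 H.ff H.cc H.cf.symm
          | exact s2 H.cc H.gg H.cg
          | exact s2 H.gg H.cc H.cg.symm
          | exact s2 H.ff H.plane.zz hzf
          | exact s2 H.plane.zz H.ff hzf.symm
          | exact s2 H.gg H.plane.zz hzg
          | exact s2 H.plane.zz H.gg hzg.symm
    · simp only [Cfsg.Spor.He.extra, List.mem_cons, List.not_mem_nil, or_false, Set.mem_ofPred_eq] at hr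
      rcases hr with rfl | rfl | rfl | rfl <;>
        simp only [map_mul, map_inv, map_pow, FreeGroup.lift_apply_of, image]
      · rw [H.fg, mul_inv_cancel]
      · rw [H.abc, mul_inv_cancel]
      · rw [hcd, mul_inv_cancel]
      · exact hcdfg
  exact ⟨d, PresentedGroup.toGroup hrel, fun i => PresentedGroup.toGroup.of hrel, hdm, dz⟩

end Finite

end GensHyp

end Cfsg.Agent.HeLocal
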