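/-!
# The 168 invertible three by three matrices over the field with two elements, packed in nine bits, with inverses
-/

set_option autoImplicit false

namespace Cfsg.Agent.HeLocal.Code

/-- Matrices with their inverses. -/
def mPairs : List (Nat × Nat) := [
  (84, 84), (85, 340), (86, 212), (87, 468), (92, 116), (93, 372), (94, 500), (95, 244),
  (98, 140), (99, 172), (102, 156), (103, 188), (106, 396), (107, 428), (110, 444), (111, 412),
  (114, 204), (115, 492), (116, 92), (117, 380), (122, 460), (123, 236), (124, 124), (125, 348),
  (140, 98), (141, 226), (142, 354), (143, 482), (156, 102), (157, 486), (158, 358), (159, 230),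
  (161, 161), (163, 165), (165, 163), (167, 167), (169, 225), (171, 485), (172, 99), (174, 359),
  (177, 417), (179, 421), (181, 423), (183, 419), (185, 481), (187, 229), (188, 103), (190, 355),
  (204, 114), (205, 242), (206, 498), (207, 370), (212, 86), (213, 470), (214, 214), (215, 342),
  (225, 169), (226, 141), (229, 187), (230, 159), (233, 233), (234, 461), (236, 123), (239, 351),
  (241, 489), (242, 205), (244, 95), (247, 379), (249, 425), (250, 397), (253, 415), (254, 443),
  (266, 266), (267, 282), (270, 298), (271, 314), (273, 273), (275, 275), (277, 277), (279, 279),
  (281, 281), (282, 267), (285, 317), (286, 303), (298, 270), (299, 318), (302, 302), (303, 286),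
  (305, 305), (307, 311), (309, 309), (311, 307), (313, 313), (314, 271), (317, 285), (318, 299),
  (330, 394), (331, 410), (334, 442), (335, 426), (337, 337), (339, 467), (340, 85), (342, 215),
  (345, 345), (346, 459), (348, 125), (351, 239), (354, 142), (355, 190), (358, 158), (359, 174),
  (369, 377), (370, 207), (372, 93), (375, 491), (377, 369), (379, 247), (380, 117), (382, 499),
  (394, 330), (395, 474), (396, 106), (397, 250), (401, 401), (403, 403), (405, 407), (407, 405),
  (409, 473), (410, 331), (412, 111), (415, 253), (417, 177), (419, 183), (421, 179), (423, 181),
  (425, 249), (426, 335), (428, 107), (431, 477), (442, 334), (443, 254), (444, 110), (445, 478),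
  (458, 458), (459, 346), (460, 122), (461, 234), (465, 465), (467, 339), (468, 87), (470, 213),
  (473, 409), (474, 395), (477, 431), (478, 445), (481, 185), (482, 143), (485, 171), (486, 157),
  (489, 241), (491, 375), (492, 115), (494, 501), (498, 206), (499, 382), (500, 94), (501, 494)
]

/-- The set of the packed invertible matrices, as bits. -/
def mMask : Nat := 12347459532681866371650103205385203202014870699000085927504102630980511566271124405589336618481472192705632891054960030461063263236452902620175653666816

end Cfsg.Agent.HeLocal.Code
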