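import Cfsg.Agent.InvChar.Coset.HeCentMatrix
import Cfsg.Agent.Lib.HeLocal.ModelData
import Cfsg.Agent.S0445

/-!
# The model of an involution centralizer of the Held group

The centralizer of a transvection in `SL₅(2)`, every element with a code; properties of elements reduce
to passes over the 21504 codes.
-/

set_option autoImplicit false
set_option linter.style.haveILetI false

namespace Cfsg.Agent.HeLocal

open Matrix
open Cfsg.Agent.InvChar.Coset.HeCent (M5 SL5 matOf mulP idP row bv matOf_mulP matOf_id row_lt row_eq)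

/-- The transvection. -/
def tau : SL5 := ⟨Matrix.transvection 0 1 1, Matrix.det_transvection_of_ne 0 1 (by decide) 1⟩

/-- The model group. -/
abbrev Mdl : Type := ↥(Subgroup.centralizer ({tau} : Set SL5))

namespace Code

/-- A code from a matrix `M` and the fields `q = c + 2φ + 16v`. -/
def mk (M q : ℕ) : ℕ :=
  (1 + 2 * (q % 2) + 4 * (q / 2 % 8)) + 32 * (2 + 32 * ((2 * (q / 16 % 2) + 4 * (M % 8)) +
    32 * ((2 * (q / 32 % 2) + 4 * (M / 8 % 8)) + 32 * (2 * (q / 64 % 2) + 4 * (M / 64 % 8)))))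

def qOf (a : ℕ) : ℕ :=
  a / 2 % 2 + 2 * (a / 4 % 8) + 16 * (a / 2048 % 2 + 2 * (a / 65536 % 2) + 4 * (a / 2097152 % 2))

def mOf (a : ℕ) : ℕ := a / 4096 % 8 + 8 * (a / 131072 % 8) + 64 * (a / 4194304 % 8)

/-- Being a code. -/
def inK (a : ℕ) : Bool := Nat.testBit mMask (mOf a) && Nat.beq (mk (mOf a) (qOf a)) a

/-- A row. -/
def rowAt (a i : ℕ) : ℕ := Nat.land (Nat.shiftRight a i) 31

def pick (r x j : ℕ) : ℕ := Nat.mul (Nat.land (Nat.shiftRight r j) 1) x

def combF (r b : ℕ) : ℕ :=
  Nat.xor (pick r (rowAt b 0) 0) (Nat.xor (pick r (rowAt b 5) 1) (Nat.xor (pick r (rowAt b 10) 2)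
    (Nat.xor (pick r (rowAt b 15) 3) (pick r (rowAt b 20) 4))))

/-- Fast multiplication of packed matrices. -/
def mulF (a b : ℕ) : ℕ :=
  Nat.add (combF (rowAt a 0) b) (Nat.mul 32 (Nat.add (combF (rowAt a 5) b) (Nat.mul 32
    (Nat.add (combF (rowAt a 10) b) (Nat.mul 32 (Nat.add (combF (rowAt a 15) b)
      (Nat.mul 32 (combF (rowAt a 20) b))))))))

def onQ (f : ℕ → Bool) : ℕ → Bool
  | 0 => true
  | n + 1 => f n && onQ f n

theorem onQ_spec {f : ℕ → Bool} : ∀ {n : ℕ}, onQ f n = true → ∀ i < n, f i = true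
  | 0, _, i, hi => absurd hi (Nat.not_lt_zero i)
  | n + 1, h, i, hi => by
    rw [onQ, Bool.and_eq_true] at h
    rcases Nat.lt_succ_iff_lt_or_eq.1 hi with hi | rfl
    · exact onQ_spec h.2 i hi
    · exact h.1

/-- All codes. -/
def allC (f : ℕ → Bool) : Bool := mPairs.all fun p => onQ (fun q => f (mk p.1 q)) 128

theorem allC_spec {f : ℕ → Bool} (h : allC f = true) {p : ℕ × ℕ} (hp : p ∈ mPairs) {q : ℕ}
    (hq : q < 128) : f (mk p.1 q) = true :=
  onQ_spec (List.all_eq_true.1 h p hp) q hq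

end Code

open Code

theorem pick_eq (r x j : ℕ) : pick r x j = bif r.testBit j then x else 0 := by
  show (r >>> j &&& 1) * x = _
  rw [Nat.and_one_is_mod, Nat.shiftRight_eq_div_pow, Nat.testBit_eq_decide_div_mod_eq]
  rcases Nat.mod_two_eq_zero_or_one (r / 2 ^ j) with h | h <;> simp [h]

theorem combF_eq (r b : ℕ) : combF r b = Cfsg.Agent.InvChar.Coset.HeCent.rowComb r b := by
  unfold combF Cfsg.Agent.InvChar.Coset.HeCent.rowComb
  simp only [pick_eq]
  rfl

theorem mulF_eq (a b : ℕ) : mulF a b = mulP a b := by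
  unfold mulF
  simp only [combF_eq]
  rfl

theorem matOf_mulF (a b : ℕ) : matOf (mulF a b) = matOf a * matOf b := by rw [mulF_eq, matOf_mulP]

theorem matOf_inj {a b : ℕ} (ha : a < 2 ^ 25) (hb : b < 2 ^ 25) (h : matOf a = matOf b) : a = b := by
  have hbit : ∀ i : Fin 5, row a i = row b i := by
    intro i
    apply Nat.eq_of_testBit_eq
    intro j
    rcases lt_or_ge j 5 with hj | hj
    · have := congrFun (congrFun h i) ⟨j, hj⟩
      simp only [matOf, Matrix.of_apply] at this
      revert this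
      cases (row a i).testBit j <;> cases (row b i).testBit j <;> simp [bv]
    · have hp : (32 : ℕ) ≤ 2 ^ j := le_trans (by norm_num) (Nat.pow_le_pow_right two_pos hj)
      rw [Nat.testBit_lt_two_pow ((row_lt a i).trans_le hp), Nat.testBit_lt_two_pow ((row_lt b i).trans_le hp)]
  have h0 := hbit 0; have h1 := hbit 1; have h2 := hbit 2; have h3 := hbit 3; have h4 := hbit 4
  simp only [row_eq, Fin.val_zero, Fin.val_one, Fin.val_two, show ((3 : Fin 5) : ℕ) = 3 from rfl,
    show ((4 : Fin 5) : ℕ) = 4 from rfl] at h0 h1 h2 h3 h4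
  omega

theorem mk_lt (M q : ℕ) : mk M q < 2 ^ 25 := by
  unfold mk
  omega

theorem inK_lt {a : ℕ} (h : inK a = true) : a < 2 ^ 25 := by
  rw [inK, Bool.and_eq_true] at h
  rw [← Nat.eq_of_beq_eq_true h.2]
  exact mk_lt _ _

theorem decode_mk : allC (fun a => inK a && Nat.beq (mk (mOf a) (qOf a)) a) = true := by decide +kernel

theorem fields_mk : mPairs.all (fun p => onQ (fun q => Nat.beq (mOf (mk p.1 q)) p.1 &&
    Nat.beq (qOf (mk p.1 q)) q) 128) = true := by decide +kernel

theorem pairs_nodup : (mPairs.map Prod.fst).Nodup ∧ mPairs.length = 168 := by decide +kernel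

theorem det_ok : mPairs.all (fun p => onQ (fun q =>
    let a := mk p.1 q
    let w := mulF (mk p.2 0) a
    let w2 := mulF w w
    Nat.beq (mulF w2 w2) idP) 128) = true := by decide +kernel

theorem tau_mat : matOf (mk 273 1) = (tau : M5) := by decide +kernel

theorem comm_ok : allC (fun a => Nat.beq (mulF a (mk 273 1)) (mulF (mk 273 1) a)) = true := by
  decide +kernel

theorem zmod2_unit : ∀ x y : ZMod 2, x * y = 1 → y = 1 := by decide

theorem inK_mem {a : ℕ} (h : inK a = true) : ∃ p ∈ mPairs, ∃ q < 128, a = mk p.1 q := by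
  rw [inK, Bool.and_eq_true] at h
  have hm : ∀ M < 512, Nat.testBit mMask M = true → ∃ p ∈ mPairs, p.1 = M := by decide +kernel
  obtain ⟨p, hp, hpM⟩ := hm (mOf a) (by unfold mOf; omega) h.1
  exact ⟨p, hp, qOf a, by unfold qOf; omega, by rw [hpM, Nat.eq_of_beq_eq_true h.2]⟩

theorem det_one {a : ℕ} (h : inK a = true) : (matOf a).det = 1 := by
  obtain ⟨p, hp, q, hq, rfl⟩ := inK_mem h
  have h1 := Nat.eq_of_beq_eq_true (onQ_spec (List.all_eq_true.1 det_ok p hp) q hq)
  have h2 := congrArg (fun x => (matOf x).det) h1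
  simp only [matOf_mulF, matOf_id, Matrix.det_mul, Matrix.det_one] at h2
  revert h2
  generalize (matOf (mk p.1 q)).det = y
  generalize (matOf (mk p.2 0)).det = x
  revert x y
  decide

theorem comm_tau {a : ℕ} (h : inK a = true) : matOf a * (tau : M5) = (tau : M5) * matOf a := by
  obtain ⟨p, hp, q, hq, rfl⟩ := inK_mem h
  rw [← tau_mat, ← matOf_mulF, ← matOf_mulF, Nat.eq_of_beq_eq_true (allC_spec comm_ok hp hq)]

/-- The element with a given code. -/
def el (a : ℕ) : Mdl :=
  if h : inK a = true then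
    ⟨(⟨matOf a, det_one h⟩ : SL5), Subgroup.mem_centralizer_singleton_iff.2
      (Subtype.ext (comm_tau h))⟩
  else 1

theorem el_coe {a : ℕ} (h : inK a = true) : ((el a : Mdl) : M5) = matOf a := by
  rw [el, dif_pos h]

theorem el_inj {a b : ℕ} (ha : inK a = true) (hb : inK b = true) (h : el a = el b) : a = b :=
  matOf_inj (inK_lt ha) (inK_lt hb) (by rw [← el_coe ha, h, el_coe hb])

theorem el_eq_iff {a b : ℕ} (ha : inK a = true) (hb : inK b = true) : el a = el b ↔ a = b :=
  ⟨el_inj ha hb, fun h => h ▸ rfl⟩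

theorem card_mdl : Nat.card Mdl = 21504 := Cfsg.Agent.S0445.result tau rfl

theorem el_surj (g : Mdl) : ∃ a, inK a = true ∧ el a = g := by
  classical
  have hk : ∀ p ∈ mPairs, ∀ q < 128, inK (mk p.1 q) = true := fun p hp q hq => by
    have := allC_spec decode_mk hp hq
    rw [Bool.and_eq_true] at this
    exact this.1
  let f : Fin 168 × Fin 128 → Mdl := fun x =>
    el (mk (mPairs[(x.1 : ℕ)]'(by rw [pairs_nodup.2]; exact x.1.2)).1 x.2)
  have hf : Function.Injective f := by
    intro x y hxy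
    have hx : mPairs[(x.1 : ℕ)]'(by rw [pairs_nodup.2]; exact x.1.2) ∈ mPairs := List.getElem_mem _
    have hy : mPairs[(y.1 : ℕ)]'(by rw [pairs_nodup.2]; exact y.1.2) ∈ mPairs := List.getElem_mem _
    have he := el_inj (hk _ hx _ x.2.2) (hk _ hy _ y.2.2) hxy
    have fx := onQ_spec (List.all_eq_true.1 fields_mk _ hx) _ x.2.2
    have fy := onQ_spec (List.all_eq_true.1 fields_mk _ hy) _ y.2.2
    simp only [Bool.and_eq_true] at fx fy
    have hq : (x.2 : ℕ) = y.2 := by
      rw [← Nat.eq_of_beq_eq_true fx.2, ← Nat.eq_of_beq_eq_true fy.2, he]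
    have hM : (mPairs[(x.1 : ℕ)]'(by rw [pairs_nodup.2]; exact x.1.2)).1 =
        (mPairs[(y.1 : ℕ)]'(by rw [pairs_nodup.2]; exact y.1.2)).1 := by
      rw [← Nat.eq_of_beq_eq_true fx.1, ← Nat.eq_of_beq_eq_true fy.1, he]
    have h1 : (x.1 : ℕ) = y.1 := by
      refine (List.Nodup.getElem_inj_iff pairs_nodup.1
        (hi := by rw [List.length_map, pairs_nodup.2]; exact x.1.2)
        (hj := by rw [List.length_map, pairs_nodup.2]; exact y.1.2)).1 ?_
      simpa using hM
    exact Prod.ext (Fin.ext h1) (Fin.ext hq)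
  have hb : Function.Bijective f := (Nat.bijective_iff_injective_and_card f).2
    ⟨hf, by rw [card_mdl, Nat.card_prod, Nat.card_fin, Nat.card_fin]⟩
  obtain ⟨x, hx⟩ := hb.2 g
  exact ⟨_, hk _ (List.getElem_mem _) _ x.2.2, hx⟩

theorem el_mul {a b : ℕ} (ha : inK a = true) (hb : inK b = true) :
    el a * el b = el (mulF a b) ∧ inK (mulF a b) = true := by
  obtain ⟨c, hc, hce⟩ := el_surj (el a * el b)
  rw [mulF_eq]
  have : c = mulP a b := by
    refine matOf_inj (inK_lt hc) ?_ ?_
    · unfold mulP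
      have h := fun j => Cfsg.Agent.InvChar.Coset.HeCent.comb_lt (row a j) b
      have := h 0; have := h 1; have := h 2; have := h 3; have := h 4
      omega
    · rw [matOf_mulP, ← el_coe ha, ← el_coe hb, ← el_coe hc, hce]
      rfl
  exact ⟨by rw [← this, hce], this ▸ hc⟩

/-- A pass over the codes gives a property of every element. -/
theorem of_allC {f : ℕ → Bool} (h : allC f = true) (g : Mdl) :
    ∃ a, inK a = true ∧ el a = g ∧ f a = true := by
  obtain ⟨a, ha, rfl⟩ := el_surj g
  obtain ⟨p, hp, q, hq, rfl⟩ := inK_mem ha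
  exact ⟨_, ha, rfl, allC_spec h hp hq⟩

theorem el_id : el idP = 1 := by
  have h : inK idP = true := by decide +kernel
  refine Subtype.ext (Subtype.ext ?_)
  rw [el_coe h, matOf_id]
  rfl

end Cfsg.Agent.HeLocal
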