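import Cfsg.Agent.Lib.SuzukiLocal.PlaneId
import Cfsg.Agent.Lib.CIT.PlaneAut

/-!
# `C(E)/E ≅ PSL₃(4)` in a group of Held type

`E = {1, a, x, ax}` is a four group of involutions not conjugate to `z`, centralized by `z`, with `za` not conjugate to
`z` and `zx`, `zax` conjugate to `z`. No hypothesis on the order of the group.
-/

set_option autoImplicit false

namespace Cfsg.Agent.HeLocal

open Subgroup

variable {G : Type*} [Group G]

/-- The order of the image of a subgroup in a quotient. -/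
theorem card_map_quot {X : Type*} [Group X] [Finite X] (N : Subgroup X) [N.Normal] {U : Subgroup X} (hU : N ≤ U) :
    Nat.card ↥(U.map (QuotientGroup.mk' N)) * Nat.card N = Nat.card U := by
  have h := (N.subgroupOf U).card_mul_index
  have h2 := relIndex_comap (⊥ : Subgroup (X ⧸ N)) (QuotientGroup.mk' N) U
  rw [MonoidHom.comap_bot, QuotientGroup.ker_mk', relIndex_bot_left] at h2
  rw [Nat.card_congr (subgroupOfEquivOfLe hU).toEquiv, ← Subgroup.relIndex, h2] at h
  rw [mul_comm]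
  exact h

/-- The local facts used to identify `C(E)/E`. -/
structure PlaneHyp (z a x : G) : Prop where
  zz : z * z = 1
  aa : a * a = 1
  xx : x * x = 1
  ax : a * x = x * a
  za : z * a = a * z
  zx : z * x = x * z
  a_ne : a ≠ 1
  x_ne : x ≠ 1
  a_ne_x : a ≠ x
  a_t : ¬ IsConj z a
  x_t : ¬ IsConj z x
  ax_t : ¬ IsConj z (a * x)
  za_t : ¬ IsConj z (z * a)
  zx_z : IsConj z (z * x)
  zax_z : IsConj z (z * (a * x))
  card : Nat.card (centralizer ({z, a, x} : Set G)) = 256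
  lifts : ∀ u ∈ centralizer ({z, a, x} : Set G), u ∉ ({1, a, x, a * x} : Set G) →
    u * u ∈ ({1, a, x, a * x} : Set G) → ∃ v ∈ ({1, a, x, a * x} : Set G), ¬ IsConj z (u * v) ∧
      ∀ v' ∈ ({1, a, x, a * x} : Set G), u * v' * (u * v') = 1 ∧ (v' ≠ v → IsConj z (u * v'))
  pair : ∀ p q : G, p * p = 1 → q * q = 1 → p ≠ 1 → q ≠ 1 → p ≠ q → p * q = q * p → p * z = z * p →
    q * z = z * q → ¬ IsConj z p → ¬ IsConj z q → ¬ IsConj z (p * q) → ¬ IsConj z (z * p) →
    IsConj z (z * q) → IsConj z (z * (p * q)) →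
    ∃ c : G, c * z = z * c ∧ c * p * c⁻¹ = a ∧ c * q * c⁻¹ = x
  elem : ∃ A : Subgroup G, A ≤ centralizer ({z, a, x} : Set G) ∧ ({1, a, x, a * x} : Set G) ⊆ A ∧
    Nat.card A = 64 ∧ ∀ u ∈ A, u * u ∈ ({1, a, x, a * x} : Set G)
  noncomm : ∃ u v : G, u ∈ centralizer ({z, a, x} : Set G) ∧ v ∈ centralizer ({z, a, x} : Set G) ∧
    u * u = 1 ∧ v * v = 1 ∧ u * v * (u * v) ∉ ({1, a, x, a * x} : Set G) ∧
    (u * v) ^ 4 ∈ ({1, a, x, a * x} : Set G)

namespace PlaneHyp

variable {z a x : G} (H : PlaneHyp z a x)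

/-- The four group. -/
def E : Subgroup G where
  carrier := {1, a, x, a * x}
  one_mem' := Or.inl rfl
  mul_mem' := by
    intro u v hu hv
    have k1 : x * (a * x) = a := by rw [H.ax, ← mul_assoc, H.xx, one_mul]
    have k2 : a * (a * x) = x := by rw [← mul_assoc, H.aa, one_mul]
    have k3 : a * x * a = x := by rw [mul_assoc, ← H.ax, k2]
    have k4 : a * x * x = a := by rw [mul_assoc, H.xx, mul_one]
    have k5 : a * x * (a * x) = 1 := by rw [mul_assoc, k1, H.aa]
    rcases hu with rfl | rfl | rfl | rfl <;> rcases hv with rfl | rfl | rfl | rfl <;>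
      simp [H.aa, H.xx, ← H.ax, k1, k2, k3, k4, k5]
  inv_mem' := by
    intro u hu
    have k1 : (a * x)⁻¹ = a * x := by
      rw [mul_inv_rev, inv_eq_of_mul_eq_one_right H.aa, inv_eq_of_mul_eq_one_right H.xx, H.ax]
    rcases hu with rfl | rfl | rfl | rfl <;>
      simp [k1, inv_eq_of_mul_eq_one_right H.aa, inv_eq_of_mul_eq_one_right H.xx]

theorem mem_E {u : G} : u ∈ H.E ↔ u ∈ ({1, a, x, a * x} : Set G) := Iff.rfl

theorem mem_E_cases {u : G} : u ∈ H.E ↔ u = 1 ∨ u = a ∨ u = x ∨ u = a * x := Iff.rfl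

include H in
theorem card_set : Nat.card ({1, a, x, a * x} : Set G) = 4 := by
  classical
  have d1 : a * x ≠ 1 := fun e => H.a_ne_x (by
    rw [eq_inv_of_mul_eq_one_left e, inv_eq_of_mul_eq_one_right H.xx])
  have d2 : a * x ≠ a := fun e => H.x_ne (mul_left_cancel (e.trans (mul_one a).symm))
  have d3 : a * x ≠ x := fun e => H.a_ne (mul_right_cancel (e.trans (one_mul x).symm))
  rw [Nat.card_coe_set_eq, Set.ncard_insert_of_notMem (by simp [H.a_ne.symm, H.x_ne.symm, d1.symm]),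
    Set.ncard_insert_of_notMem (by simp [H.a_ne_x, d2.symm]), Set.ncard_pair d3.symm]

theorem card_E : Nat.card H.E = 4 := H.card_set

include H in
theorem mem_cent {u : G} : u ∈ centralizer ({a, x} : Set G) ↔ u * a = a * u ∧ u * x = x * u := by
  simp only [mem_centralizer_iff, Set.mem_insert_iff, Set.mem_singleton_iff, forall_eq_or_imp, forall_eq]
  exact ⟨fun h => ⟨h.1.symm, h.2.symm⟩, fun h => ⟨h.1.symm, h.2.symm⟩⟩

include H in
theorem mem_cent3 {u : G} :
    u ∈ centralizer ({z, a, x} : Set G) ↔ u * z = z * u ∧ u * a = a * u ∧ u * x = x * u := by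
  simp only [mem_centralizer_iff, Set.mem_insert_iff, Set.mem_singleton_iff, forall_eq_or_imp, forall_eq]
  exact ⟨fun h => ⟨h.1.symm, h.2.1.symm, h.2.2.symm⟩, fun h => ⟨h.1.symm, h.2.1.symm, h.2.2.symm⟩⟩

include H in
theorem cent3_le : centralizer ({z, a, x} : Set G) ≤ centralizer ({a, x} : Set G) := fun _ hu =>
  H.mem_cent.2 ⟨(H.mem_cent3.1 hu).2.1, (H.mem_cent3.1 hu).2.2⟩

/-- An element of `C(E)` commutes with `E`. -/
theorem comm_E {u v : G} (hu : u ∈ centralizer ({a, x} : Set G)) (hv : v ∈ H.E) : u * v = v * u := by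
  obtain ⟨h1, h2⟩ := H.mem_cent.1 hu
  rcases H.mem_E_cases.1 hv with rfl | rfl | rfl | rfl
  · simp
  · exact h1
  · exact h2
  · exact Commute.mul_right h1 h2

theorem E_le_cent3 : H.E ≤ centralizer ({z, a, x} : Set G) := by
  intro u hu
  rw [H.mem_cent3]
  rcases H.mem_E_cases.1 hu with rfl | rfl | rfl | rfl
  · simp
  · exact ⟨H.za.symm, rfl, H.ax⟩
  · exact ⟨H.zx.symm, H.ax.symm, rfl⟩
  · exact ⟨Commute.mul_left H.za.symm H.zx.symm, Commute.mul_left (Commute.refl a) H.ax.symm,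
      Commute.mul_left H.ax (Commute.refl x)⟩

include H in
theorem z_mem : z ∈ centralizer ({z, a, x} : Set G) := H.mem_cent3.2 ⟨rfl, H.za, H.zx⟩

theorem z_nmem : z ∉ H.E := by
  intro h
  rcases H.mem_E_cases.1 h with h | h | h | h
  · have hx := H.zx_z
    rw [h, one_mul] at hx
    exact H.x_ne (isConj_one_right.1 hx)
  · exact H.a_t (h ▸ IsConj.refl z)
  · exact H.x_t (h ▸ IsConj.refl z)
  · exact H.ax_t (h ▸ IsConj.refl z)

include H in
/-- An element of `C(E)` sending `z` into `zE` centralizes `z`. -/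
theorem mem_of_conj {y : G} (hy : y ∈ centralizer ({a, x} : Set G)) {v : G} (hv : v ∈ H.E)
    (h : y * z * y⁻¹ = z * v) : y ∈ centralizer ({z, a, x} : Set G) := by
  obtain ⟨h1, h2⟩ := H.mem_cent.1 hy
  have hc : IsConj z (z * v) := isConj_iff.2 ⟨y, h⟩
  have hza : IsConj (z * a) (z * (v * a)) := isConj_iff.2 ⟨y, by
    calc y * (z * a) * y⁻¹ = y * z * y⁻¹ * (y * a * y⁻¹) := by group
      _ = z * (v * a) := by rw [h, h1, mul_inv_cancel_right, mul_assoc]⟩
  rcases H.mem_E_cases.1 hv with rfl | rfl | rfl | rfl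
  · rw [mul_one, mul_inv_eq_iff_eq_mul] at h
    exact H.mem_cent3.2 ⟨h, h1, h2⟩
  · exact absurd hc H.za_t
  · rw [← H.ax] at hza
    exact absurd (H.zax_z.trans hza.symm) H.za_t
  · rw [show a * x * a = x by rw [mul_assoc, ← H.ax, ← mul_assoc, H.aa, one_mul]] at hza
    exact absurd (H.zx_z.trans hza.symm) H.za_t

include H in
/-- A lift conjugate to `z` whose product with `a` is not goes to `z` by an element of `C(E)`. -/
theorem move {w : G} (hw : w ∈ centralizer ({z, a, x} : Set G)) (hwz : IsConj z w)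
    (ha : ¬ IsConj z (w * a)) (hx : IsConj z (w * x)) (hax : IsConj z (w * (a * x))) :
    ∃ h ∈ centralizer ({a, x} : Set G), h * w * h⁻¹ = z := by
  obtain ⟨-, hwa, hwx⟩ := H.mem_cent3.1 hw
  obtain ⟨g, hg⟩ := isConj_iff.1 hwz.symm
  have hm : ∀ p q : G, g * p * g⁻¹ * (g * q * g⁻¹) = g * (p * q) * g⁻¹ := fun p q => by group
  have h1 : ∀ p : G, g * p * g⁻¹ = 1 → p = 1 := fun p h => conj_eq_one_iff.1 h
  have hcz : ∀ {p : G}, IsConj z (g * p * g⁻¹) ↔ IsConj z p := fun {p} =>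
    ⟨fun h => h.trans (isConj_iff.2 ⟨g, rfl⟩).symm, fun h => h.trans (isConj_iff.2 ⟨g, rfl⟩)⟩
  have hzp : ∀ p : G, z * (g * p * g⁻¹) = g * (w * p) * g⁻¹ := fun p => by rw [← hg, hm]
  obtain ⟨c, hcz', hca, hcx⟩ := H.pair (g * a * g⁻¹) (g * x * g⁻¹)
    (by rw [hm, H.aa]; group) (by rw [hm, H.xx]; group)
    (fun h => H.a_ne (h1 _ h)) (fun h => H.x_ne (h1 _ h))
    (fun h => H.a_ne_x (mul_left_cancel (mul_right_cancel h)))
    (by rw [hm, hm, H.ax]) (by rw [← hg, hm, hm, hwa]) (by rw [← hg, hm, hm, hwx])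
    (hcz.not.2 H.a_t) (hcz.not.2 H.x_t) (by rw [hm]; exact hcz.not.2 H.ax_t)
    (by rw [hzp]; exact hcz.not.2 ha) (by rw [hzp]; exact hcz.2 hx)
    (by rw [hm, hzp]; exact hcz.2 hax)
  refine ⟨c * g, H.mem_cent.2 ⟨?_, ?_⟩, ?_⟩
  · conv_rhs => rw [← hca]
    group
  · conv_rhs => rw [← hcx]
    group
  · calc c * g * w * (c * g)⁻¹ = c * (g * w * g⁻¹) * c⁻¹ := by group
      _ = z := by rw [hg, hcz', mul_inv_cancel_right]

include H in
/-- A coset of `E` of involutions in `C(z) ∩ C(E)` meets the class of `z` in a translate that moves to `z`. -/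
theorem coset_move {u : G} (hu : u ∈ centralizer ({z, a, x} : Set G)) (hu1 : u ∉ H.E) (hu2 : u * u ∈ H.E) :
    ∃ v ∈ H.E, ∃ h ∈ centralizer ({a, x} : Set G), h * (u * v) * h⁻¹ = z := by
  obtain ⟨v, hv, hvt, hvs⟩ := H.lifts u hu hu1 hu2
  have hav : a ∈ H.E := Or.inr (Or.inl rfl)
  have hxv : x ∈ H.E := Or.inr (Or.inr (Or.inl rfl))
  replace hv : v ∈ H.E := hv
  have hne : ∀ e ∈ H.E, e ≠ 1 → IsConj z (u * (v * e)) := fun e he he1 =>
    (hvs (v * e) (mul_mem hv he)).2 fun h => he1 (mul_left_cancel (h.trans (mul_one v).symm))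
  refine ⟨v * a, mul_mem hv hav, H.move (mul_mem hu (H.E_le_cent3 (mul_mem hv hav))) (hne a hav H.a_ne) ?_ ?_ ?_⟩
  · rwa [mul_assoc u, mul_assoc v, H.aa, mul_one]
  · rw [mul_assoc u, mul_assoc v]
    exact hne _ (mul_mem hav hxv) fun h => H.a_ne_x (by
      rw [eq_inv_of_mul_eq_one_left h, inv_eq_of_mul_eq_one_right H.xx])
  · rw [mul_assoc u, mul_assoc v, ← mul_assoc a, H.aa, one_mul]
    exact hne _ hxv H.x_ne

/-- `C(z) ∩ C(E)` inside `C(E)`. -/
abbrev S1 : Subgroup ↥(centralizer ({a, x} : Set G)) :=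
  (centralizer ({z, a, x} : Set G)).subgroupOf (centralizer ({a, x} : Set G))

include H in
theorem card_S1 : Nat.card (PlaneHyp.S1 (z := z) (a := a) (x := x)) = 256 := by
  rw [Nat.card_congr (subgroupOfEquivOfLe H.cent3_le).toEquiv, H.card]

/-- `E` inside `C(E)`. -/
abbrev EC : Subgroup ↥(centralizer ({a, x} : Set G)) := H.E.subgroupOf (centralizer ({a, x} : Set G))

instance EC_normal : H.EC.Normal := ⟨fun u hu g => by
  rw [mem_subgroupOf, Subgroup.coe_mul, Subgroup.coe_mul, Subgroup.coe_inv, H.comm_E g.2 (mem_subgroupOf.1 hu),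
    mul_inv_cancel_right]
  exact hu⟩

/-- `C(E)/E`. -/
abbrev M : Type _ := ↥(centralizer ({a, x} : Set G)) ⧸ H.EC

theorem mk_eq_one {y : ↥(centralizer ({a, x} : Set G))} : (QuotientGroup.mk y : H.M) = 1 ↔ (y : G) ∈ H.E :=
  (QuotientGroup.eq_one_iff y).trans mem_subgroupOf

theorem card_EC : Nat.card H.EC = 4 := by
  rw [Nat.card_congr (subgroupOfEquivOfLe (H.E_le_cent3.trans H.cent3_le)).toEquiv, H.card_E]

variable [Finite G]

include H in
/-- The centralizer in `C(E)` of a moved element has order at most 256. -/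
theorem le_of_move {w h : G} (hh : h ∈ centralizer ({a, x} : Set G)) (hw : h * w * h⁻¹ = z) :
    Nat.card (centralizer ({w, a, x} : Set G)) ≤ 256 := by
  have key : ∀ u : (centralizer ({w, a, x} : Set G)), h * (u : G) * h⁻¹ ∈ centralizer ({z, a, x} : Set G) := by
    rintro ⟨u, hu⟩
    simp only [mem_centralizer_iff, Set.mem_insert_iff, Set.mem_singleton_iff, forall_eq_or_imp, forall_eq] at hu
    have huc : u ∈ centralizer ({a, x} : Set G) := H.mem_cent.2 ⟨hu.2.1.symm, hu.2.2.symm⟩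
    refine H.mem_cent3.2 ⟨?_, H.mem_cent.1 (mul_mem (mul_mem hh huc) (inv_mem hh))⟩
    rw [← hw]
    calc h * u * h⁻¹ * (h * w * h⁻¹) = h * (u * w) * h⁻¹ := by group
      _ = h * w * h⁻¹ * (h * u * h⁻¹) := by rw [← hu.1]; group
  rw [← H.card]
  exact Nat.card_le_card_of_injective (fun u => (⟨_, key u⟩ : centralizer ({z, a, x} : Set G)))
    fun u v e => Subtype.ext (mul_left_cancel (mul_right_cancel (congrArg Subtype.val e)))

include H in
/-- An element of `C(E)` normalizing `C(z) ∩ C(E)`, with square in it, is in it. -/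
theorem normal_step {τ : G} (hτ : τ ∈ centralizer ({a, x} : Set G))
    (hn : ∀ u ∈ centralizer ({z, a, x} : Set G), τ * u * τ⁻¹ ∈ centralizer ({z, a, x} : Set G))
    (hn' : ∀ u ∈ centralizer ({z, a, x} : Set G), τ⁻¹ * u * τ ∈ centralizer ({z, a, x} : Set G))
    (h2 : τ * τ ∈ centralizer ({z, a, x} : Set G)) : τ ∈ centralizer ({z, a, x} : Set G) := by
  set S := centralizer ({z, a, x} : Set G) with hS
  set v := τ * z * τ⁻¹ with hv
  have hvS : v ∈ S := hn z H.z_mem
  have hvc : ∀ u ∈ S, u * v = v * u := fun u hu => by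
    have h := (H.mem_cent3.1 (hn' u hu)).1
    calc u * v = τ * (τ⁻¹ * u * τ * z) * τ⁻¹ := by rw [hv]; group
      _ = v * u := by rw [h, hv]; group
  by_cases hE : z * v ∈ H.E
  · refine H.mem_of_conj hτ hE ?_
    rw [← mul_assoc, H.zz, one_mul]
  have hzv : z * v = v * z := hvc z H.z_mem
  have hvv : v * v = 1 := by
    calc v * v = τ * (z * z) * τ⁻¹ := by rw [hv]; group
      _ = 1 := by rw [H.zz]; group
  have hu2 : z * v * (z * v) ∈ H.E := by
    rw [show z * v * (z * v) = 1 by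
      calc z * v * (z * v) = z * v * (v * z) := by rw [← hzv]
        _ = z * (v * v) * z := by group
        _ = 1 := by rw [hvv, mul_one, H.zz]]
    exact one_mem _
  obtain ⟨e, he, h, hh, hw⟩ := H.coset_move (mul_mem H.z_mem hvS) hE hu2
  set w := z * v * e with hw'
  have hτv : τ * v * τ⁻¹ = z := by
    have hc := (H.mem_cent3.1 h2).1
    calc τ * v * τ⁻¹ = τ * τ * z * (τ * τ)⁻¹ := by rw [hv]; group
      _ = z := by rw [hc, mul_inv_cancel_right]
  have hτw : τ * w = w * τ := by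
    rw [← mul_inv_eq_iff_eq_mul]
    calc τ * w * τ⁻¹ = τ * z * τ⁻¹ * (τ * v * τ⁻¹) * (τ * e * τ⁻¹) := by rw [hw']; group
      _ = v * z * e := by rw [hτv, H.comm_E hτ he, mul_inv_cancel_right]
      _ = w := by rw [hw', hzv]
  have hle : S ≤ centralizer ({w, a, x} : Set G) := fun u hu => by
    obtain ⟨h1, h2', h3⟩ := H.mem_cent3.1 hu
    have hce := H.comm_E (H.cent3_le hu) he
    simp only [mem_centralizer_iff, Set.mem_insert_iff, Set.mem_singleton_iff, forall_eq_or_imp, forall_eq]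
    exact ⟨((Commute.mul_right (Commute.mul_right h1 (hvc u hu)) hce) : Commute u w).symm.eq, h2'.symm, h3.symm⟩
  have heq : S = centralizer ({w, a, x} : Set G) := Subgroup.eq_of_le_of_card_ge hle (by
    rw [hS, H.card]; exact H.le_of_move hh hw)
  rw [heq]
  simp only [mem_centralizer_iff, Set.mem_insert_iff, Set.mem_singleton_iff, forall_eq_or_imp, forall_eq]
  exact ⟨hτw.symm, ((H.mem_cent.1 hτ).1).symm, ((H.mem_cent.1 hτ).2).symm⟩

include H in
/-- `C(z) ∩ C(E)` is a Sylow subgroup of `C(E)`. -/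
theorem not_dvd : ¬ 512 ∣ Nat.card ↥(centralizer ({a, x} : Set G)) := by
  intro hd
  have : Fact (Nat.Prime 2) := ⟨Nat.prime_two⟩
  set S := PlaneHyp.S1 (z := z) (a := a) (x := x) with hS
  have hc : Nat.card S = 2 ^ 8 := by rw [hS, H.card_S1]; norm_num
  obtain ⟨T, hT, hST⟩ := Sylow.exists_subgroup_card_pow_succ (p := 2) (n := 8) hd hc
  have hidx : (S.subgroupOf T).index = 2 := by
    have h := (S.subgroupOf T).card_mul_index
    rw [Nat.card_congr (subgroupOfEquivOfLe hST).toEquiv, hc, hT] at h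
    omega
  obtain ⟨τ, hτT, hτS⟩ := SetLike.exists_of_lt (lt_of_le_of_ne hST fun e => by rw [← e, hc] at hT; omega)
  have hnorm := normal_of_index_eq_two hidx
  refine hτS (H.normal_step τ.2 ?_ ?_ ?_)
  · intro u hu
    have h := hnorm.conj_mem ⟨⟨u, H.cent3_le hu⟩, hST (show (⟨u, H.cent3_le hu⟩ : ↥(centralizer ({a, x} : Set G))) ∈ S from hu)⟩
      hu ⟨τ, hτT⟩
    exact h
  · intro u hu
    have h := hnorm.conj_mem ⟨⟨u, H.cent3_le hu⟩, hST (show (⟨u, H.cent3_le hu⟩ : ↥(centralizer ({a, x} : Set G))) ∈ S from hu)⟩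
      hu ⟨τ, hτT⟩⁻¹
    have h' : (τ : G)⁻¹ * u * (τ : G)⁻¹⁻¹ ∈ centralizer ({z, a, x} : Set G) := h
    rwa [inv_inv] at h'
  · exact Subgroup.mul_self_mem_of_index_two hidx ⟨τ, hτT⟩

include H in
/-- Every two-element subgroup of `C(E)` is conjugate into `C(z) ∩ C(E)`. -/
theorem conj_into {y : G} (hy : y ∈ centralizer ({a, x} : Set G)) (hy4 : y ^ 4 = 1) :
    ∃ k ∈ centralizer ({a, x} : Set G), k * y * k⁻¹ ∈ centralizer ({z, a, x} : Set G) := by
  have : Fact (Nat.Prime 2) := ⟨Nat.prime_two⟩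
  set C := centralizer ({a, x} : Set G) with hC
  set S := PlaneHyp.S1 (z := z) (a := a) (x := x) with hS
  have hp : IsPGroup 2 S := IsPGroup.of_card (n := 8) (by rw [hS, H.card_S1]; norm_num)
  obtain ⟨P, hP⟩ := hp.exists_le_sylow
  have hPS : (P : Subgroup C) = S := by
    refine (Subgroup.eq_of_le_of_card_ge hP ?_).symm
    obtain ⟨n, hn⟩ := IsPGroup.iff_card.1 P.2
    have hd := Subgroup.card_subgroup_dvd_card (P : Subgroup C)
    rw [hn] at hd ⊢
    rw [hS, H.card_S1, show (256 : ℕ) = 2 ^ 8 by norm_num]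
    refine Nat.pow_le_pow_right (by norm_num) ?_
    by_contra hlt
    exact H.not_dvd ((show (512 : ℕ) ∣ 2 ^ n from
      (show (512 : ℕ) = 2 ^ 9 by norm_num) ▸ pow_dvd_pow 2 (by omega)).trans hd)
  have hY : IsPGroup 2 (zpowers (⟨y, hy⟩ : C)) := by
    obtain ⟨i, -, hi⟩ := (Nat.dvd_prime_pow Nat.prime_two (m := 2)).1
      (orderOf_dvd_of_pow_eq_one (show (⟨y, hy⟩ : C) ^ 4 = 1 from Subtype.ext hy4))
    exact IsPGroup.of_card (by rw [Nat.card_zpowers, hi])
  obtain ⟨Q, hQ⟩ := hY.exists_le_sylow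
  obtain ⟨k, hk⟩ := MulAction.exists_smul_eq C Q P
  refine ⟨k, k.2, ?_⟩
  have h : k * ⟨y, hy⟩ * k⁻¹ ∈ (P : Subgroup C) := by
    rw [← hk, Sylow.coe_subgroup_smul]
    exact ⟨⟨y, hy⟩, hQ (mem_zpowers _), rfl⟩
  rw [hPS] at h
  exact h

include H in
/-- The lifts of an involution of `C(E)/E`: one is not conjugate to `z`, three are, all are involutions. -/
theorem lifts_all {y : G} (hy : y ∈ centralizer ({a, x} : Set G)) (hy1 : y ∉ H.E) (hy2 : y * y ∈ H.E) :
    ∃ v ∈ H.E, ¬ IsConj z (y * v) ∧ ∀ v' ∈ H.E, y * v' * (y * v') = 1 ∧ (v' ≠ v → IsConj z (y * v')) := by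
  obtain ⟨k, hk, hku⟩ := H.conj_into hy (by
    rw [show y ^ 4 = y * y * (y * y) by simp only [pow_succ, pow_zero, one_mul, mul_assoc]]
    rcases H.mem_E_cases.1 hy2 with e | e | e | e <;> rw [e]
    · simp
    · exact H.aa
    · exact H.xx
    · rw [mul_assoc, ← mul_assoc x, ← H.ax, mul_assoc a, H.xx, mul_one, H.aa])
  have hfix : ∀ e ∈ H.E, k * e * k⁻¹ = e := fun e he => by rw [H.comm_E hk he, mul_inv_cancel_right]
  have hu1 : k * y * k⁻¹ ∉ H.E := fun h => hy1 (by
    have e := hfix _ h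
    have : y = k * y * k⁻¹ := mul_left_cancel (mul_right_cancel e.symm)
    rw [this]; exact h)
  have hu2 : k * y * k⁻¹ * (k * y * k⁻¹) ∈ H.E := by
    rw [show k * y * k⁻¹ * (k * y * k⁻¹) = k * (y * y) * k⁻¹ by group, hfix _ hy2]; exact hy2
  obtain ⟨v, hv, h1, h2⟩ := H.lifts _ hku hu1 hu2
  have hmul : ∀ e ∈ H.E, k * y * k⁻¹ * e = k * (y * e) * k⁻¹ := fun e he => by
    conv_lhs => rw [← hfix e he]
    group
  refine ⟨v, hv, fun h => h1 ?_, fun v' hv' => ⟨?_, fun hne => ?_⟩⟩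
  · rw [hmul v hv]; exact h.trans (isConj_iff.2 ⟨k, rfl⟩)
  · have h := (h2 v' hv').1
    rw [hmul v' hv', show k * (y * v') * k⁻¹ * (k * (y * v') * k⁻¹) = k * (y * v' * (y * v')) * k⁻¹ by group,
      conj_eq_one_iff] at h
    exact h
  · have h := (h2 v' hv').2 hne
    rw [hmul v' hv'] at h
    exact h.trans (isConj_iff.2 ⟨k, rfl⟩).symm

theorem card_cent_bar :
    Nat.card (centralizer ({(QuotientGroup.mk ⟨z, H.cent3_le H.z_mem⟩ : H.M)} : Set H.M)) = 64 := by
  set S := PlaneHyp.S1 (z := z) (a := a) (x := x) with hS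
  have h : centralizer ({(QuotientGroup.mk ⟨z, H.cent3_le H.z_mem⟩ : H.M)} : Set H.M) =
      S.map (QuotientGroup.mk' H.EC) := by
    ext q
    induction q using QuotientGroup.induction_on with
    | _ y =>
    rw [mem_centralizer_singleton_iff, ← QuotientGroup.mk_mul, ← QuotientGroup.mk_mul]
    constructor
    · intro e
      refine ⟨y, ?_, rfl⟩
      have he : ((y * ⟨z, H.cent3_le H.z_mem⟩)⁻¹ * (⟨z, H.cent3_le H.z_mem⟩ * y) :
          ↥(centralizer ({a, x} : Set G))) ∈ H.EC := QuotientGroup.eq.1 e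
      have he' : ((y : G) * z)⁻¹ * (z * y) ∈ H.E := by simpa [mem_subgroupOf] using he
      refine H.mem_of_conj y.2 (inv_mem he') ?_
      have hc := H.comm_E (inv_mem y.2) (inv_mem he')
      calc (y : G) * z * (y : G)⁻¹ = z * y * (((y : G) * z)⁻¹ * (z * y))⁻¹ * (y : G)⁻¹ := by group
        _ = z * (((y : G) * z)⁻¹ * (z * y))⁻¹ := by
          rw [mul_assoc (z * (y : G)), ← hc]; group
    · rintro ⟨u, hu, e⟩
      rw [QuotientGroup.mk'_apply] at e
      rw [QuotientGroup.mk_mul, QuotientGroup.mk_mul, ← e, ← QuotientGroup.mk_mul, ← QuotientGroup.mk_mul]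
      exact congrArg _ (Subtype.ext (H.mem_cent3.1 hu).1)
  have hle : H.EC ≤ S := fun u hu => H.E_le_cent3 hu
  have h2 := card_map_quot H.EC hle
  rw [H.card_EC, hS, H.card_S1] at h2
  rw [h, hS]
  exact (Nat.eq_div_of_mul_eq_left (by norm_num) h2).trans (by norm_num)

theorem isConj_bar {q : H.M} (hq : orderOf q = 2) :
    IsConj (QuotientGroup.mk ⟨z, H.cent3_le H.z_mem⟩ : H.M) q := by
  induction q using QuotientGroup.induction_on with
  | _ y =>
  have hy1 : (y : G) ∉ H.E := fun h => by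
    rw [H.mk_eq_one.2 h, orderOf_one] at hq; omega
  have hy2 : (y : G) * y ∈ H.E := by
    have e := pow_orderOf_eq_one (QuotientGroup.mk y : H.M)
    rw [hq, pow_two, ← QuotientGroup.mk_mul, H.mk_eq_one] at e
    exact e
  obtain ⟨k, hk, hku⟩ := H.conj_into y.2 (by
    obtain ⟨v, -, -, h⟩ := H.lifts_all y.2 hy1 hy2
    have h1 := (h 1 (one_mem _)).1
    rw [mul_one] at h1
    rw [show (y : G) ^ 4 = y * y * (y * y) by simp only [pow_succ, pow_zero, one_mul, mul_assoc], h1, one_mul])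
  have hu2 : k * y * k⁻¹ * (k * y * k⁻¹) ∈ H.E := by
    rw [show k * (y : G) * k⁻¹ * (k * y * k⁻¹) = k * ((y : G) * y) * k⁻¹ by group, H.comm_E hk hy2,
      mul_inv_cancel_right]
    exact hy2
  have hu1 : k * y * k⁻¹ ∉ H.E := fun h => hy1 (by
    have e := H.comm_E (inv_mem hk) h
    rw [show (y : G) = k⁻¹ * (k * y * k⁻¹) * k by group, e, mul_assoc, inv_mul_cancel, mul_one]
    exact h)
  obtain ⟨v, hv, h, hh, hw⟩ := H.coset_move hku hu1 hu2
  set K : ↥(centralizer ({a, x} : Set G)) := ⟨h, hh⟩ * ⟨k, hk⟩ with hK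
  refine IsConj.symm (isConj_iff.2 ⟨QuotientGroup.mk K, ?_⟩)
  rw [← QuotientGroup.mk_inv, ← QuotientGroup.mk_mul, ← QuotientGroup.mk_mul]
  refine QuotientGroup.eq.2 ?_
  rw [mem_subgroupOf]
  show (h * k * y * (h * k)⁻¹)⁻¹ * z ∈ H.E
  have key : (h * k * y * (h * k)⁻¹)⁻¹ * (h * (k * y * k⁻¹ * v) * h⁻¹) = v := by
    rw [show (h * k * y * (h * k)⁻¹)⁻¹ * (h * (k * y * k⁻¹ * v) * h⁻¹) = h * v * h⁻¹ by group,
      H.comm_E hh hv, mul_inv_cancel_right]
  rw [hw] at key
  rw [key]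
  exact hv

theorem hyp : SuzukiLocal.PlaneId.Hyp H.M where
  cent q hq := by
    obtain ⟨k, hk⟩ := isConj_iff.1 (H.isConj_bar hq)
    rw [← H.card_cent_bar, ← hk]
    refine (Nat.card_congr (Equiv.subtypeEquiv (MulAut.conj k).toEquiv fun r => ?_)).symm
    change r ∈ centralizer ({(QuotientGroup.mk ⟨z, H.cent3_le H.z_mem⟩ : H.M)} : Set H.M) ↔
      k * r * k⁻¹ ∈ centralizer ({k * QuotientGroup.mk ⟨z, H.cent3_le H.z_mem⟩ * k⁻¹} : Set H.M)
    rw [mem_centralizer_singleton_iff, mem_centralizer_singleton_iff]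
    constructor
    · intro e
      calc _ = k * (r * QuotientGroup.mk ⟨z, H.cent3_le H.z_mem⟩) * k⁻¹ := by group
        _ = _ := by rw [e]; group
    · intro e
      refine mul_left_cancel (a := k) (mul_right_cancel (b := k⁻¹) ?_)
      convert e using 1 <;> group
  one_class _ _ hp hq := (H.isConj_bar hp).symm.trans (H.isConj_bar hq)
  elem := by
    obtain ⟨A, hA, hEA, hcard, hsq⟩ := H.elem
    have hAC : A ≤ centralizer ({a, x} : Set G) := hA.trans H.cent3_le
    refine ⟨(A.subgroupOf _).map (QuotientGroup.mk' H.EC), ?_, ?_⟩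
    · have h2 := card_map_quot (U := A.subgroupOf _) H.EC (fun u hu => hEA hu)
      rw [H.card_EC, Nat.card_congr (subgroupOfEquivOfLe hAC).toEquiv, hcard] at h2
      exact (Nat.eq_div_of_mul_eq_left (by norm_num) h2).trans (by norm_num)
    · rintro _ ⟨u, hu, rfl⟩
      rw [QuotientGroup.mk'_apply, ← QuotientGroup.mk_mul, H.mk_eq_one]
      exact hsq _ hu
  noncomm := by
    obtain ⟨u, v, hu, hv, huu, hvv, h2, h4⟩ := H.noncomm
    have : Fact (Nat.Prime 2) := ⟨Nat.prime_two⟩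
    have key : ∀ p q : G, ∀ hp : p ∈ centralizer ({a, x} : Set G), q * q = 1 →
        p * p = 1 → p * q * (p * q) ∉ H.E → (∀ w ∈ H.E, q * w = w * q) →
        orderOf (QuotientGroup.mk ⟨p, hp⟩ : H.M) = 2 := by
      intro p q hp hqq hpp hne hcm
      refine orderOf_eq_prime ?_ fun e => hne ?_
      · rw [pow_two, ← QuotientGroup.mk_mul, H.mk_eq_one]
        show p * p ∈ H.E
        rw [hpp]; exact one_mem _
      · have hp' : p ∈ H.E := H.mk_eq_one.1 e
        rw [mul_assoc, ← mul_assoc q, hcm p hp', mul_assoc p, hqq, mul_one, hpp]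
        exact one_mem _
    have h2' : v * u * (v * u) ∉ H.E := fun h => h2 (by
      have e : (u * v * (u * v))⁻¹ = v * u * (v * u) := by
        simp only [mul_inv_rev, inv_eq_of_mul_eq_one_right huu, inv_eq_of_mul_eq_one_right hvv, mul_assoc]
      have := inv_mem h
      rwa [← e, inv_inv] at this)
    refine ⟨_, _, key u v (H.cent3_le hu) hvv huu h2 (fun w hw => H.comm_E (H.cent3_le hv) hw),
      key v u (H.cent3_le hv) huu hvv h2' (fun w hw => H.comm_E (H.cent3_le hu) hw), fun e => ?_, ?_⟩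
    · have e' : (u * v)⁻¹ * (v * u) ∈ H.E := by
        simpa [mem_subgroupOf] using QuotientGroup.eq.1 e
      refine h2 ?_
      have := inv_mem e'
      rw [mul_inv_rev, inv_inv, mul_inv_rev, inv_eq_of_mul_eq_one_right huu,
        inv_eq_of_mul_eq_one_right hvv] at this
      exact this
    · rw [← QuotientGroup.mk_mul, ← QuotientGroup.mk_pow, H.mk_eq_one]
      exact h4

/-- `C(E)/E` is `PSL₃(4)`. -/
theorem identify : ∃ (F : Type) (_ : Field F) (_ : Fintype F), Fintype.card F = 4 ∧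
    Nonempty (H.M ≃* Matrix.ProjectiveSpecialLinearGroup (Fin 3) F) :=
  SuzukiLocal.PlaneId.identify H.hyp

include H in
theorem card_cent : Nat.card ↥(centralizer ({a, x} : Set G)) = 80640 := by
  obtain ⟨F, i1, i2, h4, ⟨f⟩⟩ := H.identify
  rw [Subgroup.card_eq_card_quotient_mul_card_subgroup H.EC, H.card_EC,
    Nat.card_congr f.toEquiv, CIT.PlaneAut.card_psl h4]

end PlaneHyp

end Cfsg.Agent.HeLocal
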