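import Cfsg.Agent.Lib.HeLocal.Witness
import Cfsg.Agent.Lib.HeLocal.HeFacts
import Cfsg.Agent.S1682

/-!
# A setting in a group of the order of `He` gives `He`, and its subgroup `Sp₄(4):2`
-/

set_option autoImplicit false

namespace Cfsg.Agent.HeLocal

open Subgroup

/-- A group of the order of `He` with a local setting is `He`. -/
theorem Setting.isoHe_of_card {G : Type*} [Group G] [Finite G] {z : G} (S : Setting z)
    (hG : Nat.card G = 4030387200) : Cfsg.Spor.IsoHe G := by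
  obtain ⟨d, ψ, hψ, -, hd⟩ := S.gensHyp.exists_hom
  have hz1 : z ≠ 1 := fun e => by
    have h : zc = 1 := S.emb_injective (by rw [S.emb_zc, map_one]; exact e)
    have h' := congrArg code h
    rw [Wit.code_zc, code_one] at h'
    revert h'
    decide +kernel
  have h3 : ψ (HeFacts.gen 3) = d := hψ .d
  have hinj : Function.Injective ψ := HeFacts.injective ψ (by
    rw [h3]
    intro h
    rw [h] at hd
    exact hz1 (isConj_one_left.1 hd))
  haveI := InvChar.Coset.HeSymp.finite_He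
  have hb : Function.Bijective ψ := (Nat.bijective_iff_injective_and_card ψ).2
    ⟨hinj, by rw [InvChar.Coset.He.simple_and_card.2, hG]⟩
  exact ⟨(MulEquiv.ofBijective ψ hb).symm⟩

/-- `He` contains `Sp₄(4):2`. -/
theorem sp4_of_isoHe {G : Type*} [Group G] (h : Cfsg.Spor.IsoHe G) :
    ∃ (H : Subgroup G) (N : Subgroup H) (K : Type) (_ : Field K) (_ : Fintype K), N.Normal ∧ N.index = 2 ∧
      Fintype.card K = 4 ∧ Nonempty (N ≃* Matrix.symplecticGroup (Fin 2) K) := by
  obtain ⟨e⟩ := h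
  set W := (Subgroup.closure ({Cfsg.Spor.He.a, Cfsg.Spor.He.c, Cfsg.Spor.He.d, Cfsg.Spor.He.e, Cfsg.Spor.He.f,
    (Cfsg.Spor.He.a * Cfsg.Spor.He.b) ^ 2, (Cfsg.Spor.He.b * Cfsg.Spor.He.c * Cfsg.Spor.He.d * Cfsg.Spor.He.e) ^ 7} :
      Set (FreeGroup Cfsg.Spor.He.Gen))).map
    (PresentedGroup.mk (Cfsg.Spor.coxRelators Cfsg.Spor.He.edges ∪ {r | r ∈ Cfsg.Spor.He.extra})) with hW
  obtain ⟨N, K, i1, i2, hN, hidx, hK, ⟨i⟩⟩ := Cfsg.Agent.S1682.result
  let σ : W ≃* (W.map e.symm.toMonoidHom) := W.equivMapOfInjective _ e.symm.injective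
  refine ⟨W.map e.symm.toMonoidHom, N.map σ.toMonoidHom, K, i1, i2, hN.map _ σ.surjective, ?_, hK,
    ⟨(N.equivMapOfInjective _ σ.injective).symm.trans i⟩⟩
  exact (Subgroup.index_map_equiv N σ).trans hidx

end Cfsg.Agent.HeLocal
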