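import Cfsg.Agent.Lib.HeLocal.Cz.Main
import Cfsg.Agent.Lib.HeLocal.CoordModel
import Cfsg.Agent.Lib.HeLocal.Fusion
import Cfsg.Agent.Lib.HeLocal.Top

/-!
# Uniqueness of the Held group from the centralizer of an involution
-/

set_option autoImplicit false

namespace Cfsg.Agent.HeLocal

/-- A simple group of the order of `He` with two classes of involutions and the centralizer of the Held group. -/
theorem isoHe_of_hyp {G : Type*} [Group G] [Finite G] [IsSimpleGroup G] (t : G) (ht : orderOf t = 2)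
    (Q : Subgroup (Subgroup.centralizer ({t} : Set G))) [Q.Normal] (hQ : Cfsg.IsExtraspecial 2 Q)
    (hcard : Nat.card Q = 2 ^ 7) (hplus : ∃ E : Subgroup Q, Cfsg.IsElementaryAbelian 2 E ∧ Nat.card E = 2 ^ 4)
    (h2c : Subgroup.centralizer (Q : Set (Subgroup.centralizer ({t} : Set G))) ≤ Q)
    (e : (Subgroup.centralizer ({t} : Set G)) ⧸ Q ≃* Matrix.SpecialLinearGroup (Fin 3) (ZMod 2))
    (hG : Nat.card G = 4030387200)
    (htwo : ∃ x y : G, orderOf x = 2 ∧ orderOf y = 2 ∧ ¬ IsConj x y ∧ ∀ z : G, orderOf z = 2 → IsConj z x ∨ IsConj z y) :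
    Cfsg.Spor.IsoHe G := by
  obtain ⟨h⟩ := Cz.shape_of_hyp ht Q hQ hcard hplus h2c e
  obtain ⟨C⟩ := h.exists_dec hG
  obtain ⟨φ, hφ⟩ := CoordModel.exists_iso C
  obtain ⟨S⟩ := Iso.setting ⟨φ, hφ⟩ hG htwo
  exact S.isoHe_of_card hG

end Cfsg.Agent.HeLocal
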