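import Cfsg.Agent.Lib.HeLocal.Facts

/-!
# The automorphism of the model exchanging the two sides

The inverse transpose, followed by the exchange of the first two coordinates.
-/

set_option autoImplicit false

namespace Cfsg.Agent.HeLocal

open Matrix
open Cfsg.Agent.InvChar.Coset.HeCent (M5 SL5 matOf idP)
open Code

namespace Theta

/-- The exchange of the first two coordinates. -/
def P : M5 := Matrix.of fun i j =>
  if (i.val = 0 ∧ j.val = 1) ∨ (i.val = 1 ∧ j.val = 0) ∨ (i.val = j.val ∧ 2 ≤ i.val) then 1 else 0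

theorem P_sq : P * P = 1 := by decide +kernel

theorem zmod2_mul : ∀ x d : ZMod 2, x * x = 1 → x * d * x = d := by decide

theorem det_img (g : SL5) : (P * ((g⁻¹ : SL5) : M5)ᵀ * P).det = 1 := by
  have h := congrArg Matrix.det P_sq
  rw [Matrix.det_mul, Matrix.det_one] at h
  rw [Matrix.det_mul, Matrix.det_mul, Matrix.det_transpose, (g⁻¹).2, zmod2_mul _ _ h]

/-- The automorphism of the special linear group, as a homomorphism. -/
def hom : SL5 →* SL5 where
  toFun g := ⟨P * ((g⁻¹ : SL5) : M5)ᵀ * P, det_img g⟩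
  map_one' := Subtype.ext (by
    show P * (((1 : SL5)⁻¹ : SL5) : M5)ᵀ * P = 1
    rw [inv_one, Matrix.SpecialLinearGroup.coe_one, Matrix.transpose_one, mul_one, P_sq])
  map_mul' g h := Subtype.ext (by
    show P * (((g * h)⁻¹ : SL5) : M5)ᵀ * P = P * ((g⁻¹ : SL5) : M5)ᵀ * P * (P * ((h⁻¹ : SL5) : M5)ᵀ * P)
    rw [_root_.mul_inv_rev, Matrix.SpecialLinearGroup.coe_mul, Matrix.transpose_mul,
      show ∀ X Y : M5, P * X * P * (P * Y * P) = P * X * (P * P) * Y * P from fun X Y => by
        simp only [mul_assoc],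
      P_sq, mul_one]
    simp only [mul_assoc])

theorem hom_injective : Function.Injective hom := by
  intro g h e
  have e1 : P * ((g⁻¹ : SL5) : M5)ᵀ * P = P * ((h⁻¹ : SL5) : M5)ᵀ * P := congrArg Subtype.val e
  have e2 : ((g⁻¹ : SL5) : M5)ᵀ = ((h⁻¹ : SL5) : M5)ᵀ := by
    have := congrArg (fun X => P * X * P) e1
    simp only [← mul_assoc, P_sq, one_mul] at this
    simp only [mul_assoc, P_sq, mul_one] at this
    exact this
  exact inv_injective (Subtype.ext (Matrix.transpose_injective e2))

theorem hom_tau : hom tau = tau := by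
  have h : tau⁻¹ = tau := inv_eq_of_mul_eq_one_right (Subtype.ext (by
    show (tau : M5) * (tau : M5) = 1
    decide +kernel))
  refine Subtype.ext ?_
  show P * ((tau⁻¹ : SL5) : M5)ᵀ * P = (tau : M5)
  rw [h]
  decide +kernel

/-- The restriction to the model. -/
def onMdl : Mdl →* Mdl where
  toFun g := ⟨hom g, Subgroup.mem_centralizer_singleton_iff.2 (by
    have h := congrArg hom (Subgroup.mem_centralizer_singleton_iff.1 g.2)
    rw [map_mul, map_mul, hom_tau] at h
    exact h)⟩
  map_one' := Subtype.ext (map_one hom)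
  map_mul' g h := Subtype.ext (map_mul hom (g : SL5) h)

theorem onMdl_bijective : Function.Bijective onMdl :=
  Finite.injective_iff_bijective.1 fun g h e => Subtype.ext (hom_injective (congrArg Subtype.val e))

/-- The automorphism of the model. -/
noncomputable def equiv : Mdl ≃* Mdl := MulEquiv.ofBijective onMdl onMdl_bijective

/-- The classes exchanged. -/
def sw (i : ℕ) : ℕ := [0, 2, 1, 3, 4, 5, 7, 6].getD i 0

theorem equiv_coe {g : Mdl} (hg : g * g = 1) : ((equiv g : Mdl) : M5) = P * ((g : M5))ᵀ * P := by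
  show P * ((((g : SL5))⁻¹ : SL5) : M5)ᵀ * P = _
  rw [show ((g : SL5))⁻¹ = (g : SL5) from inv_eq_of_mul_eq_one_right (congrArg Subtype.val hg)]

/-- The codes of the images of the representatives. -/
def imgs : List ℕ := [17043523, 17045569, 17043525, 17109061, 4472897, 4472899, 4538433, 4472905]

theorem equiv_rep_check : ∀ i < 8, (inK (imgs.getD i 0) && isInv (imgs.getD i 0) &&
    Nat.beq (tagc (imgs.getD i 0)) (sw i)) = true ∧
    matOf (imgs.getD i 0) = P * (matOf (repc i))ᵀ * P := by
  decide +kernel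

theorem equiv_rep {i : ℕ} (hi : i < 8) : IsInv (equiv (rep i)) ∧ tag (equiv (rep i)) = sw i := by
  obtain ⟨h, hm⟩ := equiv_rep_check i hi
  simp only [Bool.and_eq_true] at h
  have e : equiv (rep i) = el (imgs.getD i 0) := Subtype.ext (Subtype.ext (by
    rw [equiv_coe (isInv_rep hi).1, el_coe h.1.1, hm, rep, el_coe (inK_rep hi)]))
  rw [e]
  exact ⟨isInv_iff.2 (by rw [code_el h.1.1]; exact h.1.2),
    by rw [tag, code_el h.1.1]; exact Nat.eq_of_beq_eq_true h.2⟩

theorem equiv_zc : equiv zc = zc :=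
  eq_zc_of_tag (equiv_rep (show 0 < 8 by norm_num)).1 (equiv_rep (show 0 < 8 by norm_num)).2

theorem isInv_equiv {g : Mdl} (hg : IsInv g) : IsInv (equiv g) :=
  ⟨by rw [← map_mul, hg.1, map_one], fun e => hg.2 (by simpa using e)⟩

/-- The automorphism exchanges the classes on the two sides. -/
theorem tag_equiv {g : Mdl} (hg : IsInv g) : tag (equiv g) = sw (tag g) := by
  obtain ⟨k, hk⟩ := exists_conj_rep hg
  obtain ⟨h1, h2⟩ := equiv_rep (tag_lt hg)
  conv_lhs => rw [← hk]
  rw [map_mul, map_mul, map_inv, tag_conj h1, h2]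

end Theta

end Cfsg.Agent.HeLocal
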