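import Cfsg.Agent.Lib.HeLocal.Tag

/-!
# The witnesses in the model, as codes
-/

set_option autoImplicit false
set_option maxRecDepth 100000

namespace Cfsg.Agent.HeLocal.Code

def cA : ℕ := 17045577
def cX : ℕ := 17051723
def cB : ℕ := 5128259
def cC : ℕ := 17051715
def cF : ℕ := 17043545
def cG : ℕ := 19142721
def cU : ℕ := 19208279
def cZ : ℕ := 17043523
/-- An element of order seven. -/
def cS : ℕ := 4612161

/-- The second class. -/
def tT (a : ℕ) : Bool := isInv a && (Nat.beq (tagc a) 3 || Nat.beq (tagc a) 5)

/-- The first class. -/
def zT (a : ℕ) : Bool := isInv a && !(Nat.beq (tagc a) 3 || Nat.beq (tagc a) 5)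

def memB (a : ℕ) (l : List ℕ) : Bool := l.any fun b => Nat.beq b a

/-- The products over the subsets of a list of generators. -/
def span : List ℕ → List ℕ
  | [] => [idP']
  | g :: gs => span gs ++ (span gs).map (mulF g)
where idP' : ℕ := Cfsg.Agent.InvChar.Coset.HeCent.idP

def cE : List ℕ := [Cfsg.Agent.InvChar.Coset.HeCent.idP, cA, cX, mulF cA cX]

def cV : List ℕ := [Cfsg.Agent.InvChar.Coset.HeCent.idP, cA, cU, mulF cA cU]

/-- The elementary abelian subgroup of order 64. -/
def cAL : List ℕ := span [17043523, 17043529, 17043537, 17059905, cA, cX]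

/-- The centralizer of `a` and `x`. -/
def cSL : List ℕ := span [19140673, 25432129, 17043523, 17043529, 17043537, 17059905, cA, cX]

/-- The dihedral group of `f` and `g`. -/
def cD : List ℕ := span [mulF cF cG, cZ, cF]

/-- The involutions of the second class. -/
def cT : List ℕ := (certs.map Prod.fst).filter tT

/-- Conjugators for the pairs. -/
def cK : List ℕ := [4472897,4472913,4538433,4538449,4603969,4603985,4669505,4669521,4726849,4726857,4792385,
  4792393,4857921,4857929,4923457,4923465,4988993,4989001,5054529,5054537,5120065,5120073,5185601,5185609,8536129,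
  8536145,8601665,8601681,8917057,8917061,8982593,8982597,9048129,9048133,9113665,9113669,9179201,9179205,9244737,
  9244741,9310273,9310277,9375809,9375813,13111361,13111365,13176897,13176901,13242433,13242437,13307969,13307973,
  13373505,13373509,13439041,13439045,13504577,13504581,13570113,13570117,16916545,16916553,16982081,16982089,
  17043521,17043525,17109057,17109061,17174593,17174597,17240129,17240133,21237825,21237829,21303361,21303365,
  21368897,21368901,21434433,21434437,25305153,25305161,25370689,25370697]

def wcm (p q : ℕ) : Bool := Nat.beq (mulF p q) (mulF q p)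

/-- The check on one lift. -/
def liftOK (w : ℕ) : Bool :=
  cE.any fun v => !zT (mulF w v) &&
    cE.all fun v' => Nat.beq (mulF (mulF w v') (mulF w v')) Cfsg.Agent.InvChar.Coset.HeCent.idP &&
      (Nat.beq v' v || zT (mulF w v'))

/-- The check on one pair. -/
def pairOK (p q : ℕ) : Bool :=
  Nat.beq p q || !wcm p q || !tT (mulF p q) || zT (mulF cZ p) || !zT (mulF cZ q) || !zT (mulF cZ (mulF p q)) ||
    cK.any fun k => Nat.beq (mulF k p) (mulF cA k) && Nat.beq (mulF k q) (mulF cX k)

theorem pair_ok : cT.all (fun p => cT.all fun q => pairOK p q) = true := by decide +kernel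

theorem cK_ok : cK.all inK = true := by decide +kernel

theorem span_ok : (cAL.all inK && cSL.all inK && cD.all inK && cE.all inK && cV.all inK &&
    cAL.all (fun p => cAL.all fun q => memB (mulF p q) cAL) &&
    cAL.all (fun p => wcm p cA && wcm p cX && Nat.beq (mulF p p) Cfsg.Agent.InvChar.Coset.HeCent.idP) &&
    cE.all (fun e => memB e cAL) &&
    cSL.all (fun p => wcm p cA && wcm p cX)) = true := by decide +kernel

theorem span_card : cAL.Nodup ∧ cAL.length = 64 ∧ cSL.Nodup ∧ cSL.length = 256 := by decide +kernel

set_option maxHeartbeats 0 in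
-- a pass over the 21504 codes
theorem cent_ok : allC (fun w => !(wcm w cA && wcm w cX) ||
    (memB w cSL && (memB w cE || !memB (mulF w w) cE || liftOK w))) = true := by decide +kernel

set_option maxHeartbeats 0 in
-- a pass over the 21504 codes
theorem centP_ok : allC (fun w => !(wcm w cA && wcm w cU) ||
    (cD.any fun q => cV.any fun v => Nat.beq w (mulF q v))) = true := by decide +kernel

set_option maxHeartbeats 0 in
-- a pass over the 21504 codes
theorem seven_ok : allC (fun w => !wcm w cS || !isInv w || Nat.beq w cZ) = true := by decide +kernel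

end Cfsg.Agent.HeLocal.Code
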