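import Cfsg.Agent.Lib.HeLocal.Discharge
import Cfsg.Agent.Lib.HeLocal.Setting
import Cfsg.Agent.Lib.HeLocal.WitnessData

/-!
# The generators of `He` from a local setting
-/

set_option autoImplicit false
set_option maxRecDepth 100000

namespace Cfsg.Agent.HeLocal

open Code Subgroup
open Cfsg.Agent.InvChar.Coset.HeCent (idP)

/-- The predicate "conjugate to the centre" on the model. -/
def zt (m : Mdl) : Prop := IsInv m ∧ tag m ≠ 3 ∧ tag m ≠ 5

theorem zt_iff {m : Mdl} : zt m ↔ zT (code m) = true := by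
  rw [zt, isInv_iff, zT, Bool.and_eq_true, Bool.not_eq_true', Bool.or_eq_false_iff, ← Bool.not_eq_true,
    ← Bool.not_eq_true, Nat.beq_eq, Nat.beq_eq]
  rfl

theorem tT_of {m : Mdl} (h1 : m * m = 1) (h2 : m ≠ 1) (h3 : ¬ zt m) : tT (code m) = true := by
  rw [tT, Bool.and_eq_true, ← isInv_iff, Bool.or_eq_true, Nat.beq_eq, Nat.beq_eq]
  refine ⟨⟨h1, h2⟩, ?_⟩
  by_contra h
  rw [not_or] at h
  exact h3 ⟨⟨h1, h2⟩, h⟩

namespace Wit

/-- The witness `a`. -/
def a : Mdl := el cA
/-- The witness `x`. -/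
def x : Mdl := el cX
/-- The witness `b`. -/
def b : Mdl := el cB
/-- The witness `c`. -/
def c : Mdl := el cC
/-- The witness `f`. -/
def f : Mdl := el cF
/-- The witness `g`. -/
def g : Mdl := el cG
/-- The witness `u`. -/
def u : Mdl := el cU

theorem code_a : code a = cA := code_el (by decide +kernel)
theorem code_x : code x = cX := code_el (by decide +kernel)
theorem code_b : code b = cB := code_el (by decide +kernel)
theorem code_c : code c = cC := code_el (by decide +kernel)
theorem code_f : code f = cF := code_el (by decide +kernel)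
theorem code_g : code g = cG := code_el (by decide +kernel)
theorem code_u : code u = cU := code_el (by decide +kernel)
theorem code_zc : code zc = cZ := by rw [zc, code_rep (by norm_num)]; decide +kernel

theorem eq_iff {p q : Mdl} : p = q ↔ code p = code q := ⟨fun h => h ▸ rfl, code_inj⟩

theorem memB_iff {n : ℕ} {l : List ℕ} : memB n l = true ↔ n ∈ l := by
  simp [memB]

theorem cm_iff {p q : Mdl} : wcm (code p) (code q) = true ↔ p * q = q * p := by
  rw [wcm, Nat.beq_eq, ← code_mul, ← code_mul, ← eq_iff]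

theorem mem_E {m : Mdl} : m ∈ ({1, a, x, a * x} : Set Mdl) ↔ memB (code m) cE = true := by
  simp only [Set.mem_insert_iff, Set.mem_singleton_iff, memB_iff, cE, List.mem_cons, List.not_mem_nil, or_false,
    eq_iff (p := m), code_one, code_mul, code_a, code_x]

theorem mem_cent {m : Mdl} : m ∈ centralizer ({a, x} : Set Mdl) ↔ wcm (code m) cA = true ∧ wcm (code m) cX = true := by
  rw [← code_a, ← code_x, cm_iff, cm_iff]
  simp only [mem_centralizer_iff, Set.mem_insert_iff, Set.mem_singleton_iff, forall_eq_or_imp, forall_eq]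
  exact ⟨fun h => ⟨h.1.symm, h.2.symm⟩, fun h => ⟨h.1.symm, h.2.symm⟩⟩

theorem inK_of {l : List ℕ} (h : l.all inK = true) {n : ℕ} (hn : n ∈ l) : inK n = true := List.all_eq_true.1 h n hn

/-- The number of elements with code in a list. -/
theorem card_of_list {l : List ℕ} (hK : l.all inK = true) (hnd : l.Nodup) :
    Nat.card {m : Mdl // code m ∈ l} = l.length := by
  classical
  rw [← List.toFinset_card_of_nodup hnd, ← Nat.card_eq_finsetCard]
  refine Nat.card_congr
    { toFun := fun m => ⟨code m.1, List.mem_toFinset.2 m.2⟩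
      invFun := fun n => ⟨el n.1, by
        rw [code_el (inK_of hK (List.mem_toFinset.1 n.2))]; exact List.mem_toFinset.1 n.2⟩
      left_inv := fun m => Subtype.ext (el_code m.1)
      right_inv := fun n => Subtype.ext (code_el (inK_of hK (List.mem_toFinset.1 n.2))) }

theorem card : Nat.card (centralizer ({a, x} : Set Mdl)) = 256 := by
  have hs := span_ok
  simp only [Bool.and_eq_true] at hs
  rw [← span_card.2.2.2, ← card_of_list hs.1.1.1.1.1.1.1.2 span_card.2.2.1]
  refine Nat.card_congr (Equiv.subtypeEquivRight fun m => ?_)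
  rw [mem_cent]
  constructor
  · rintro ⟨h1, h2⟩
    have h := forall_codes cent_ok m
    rw [h1, h2, Bool.and_self, Bool.not_true, Bool.false_or, Bool.and_eq_true] at h
    exact memB_iff.1 h.1
  · intro h
    exact Bool.and_eq_true_iff.1 (List.all_eq_true.1 hs.2 _ h)

theorem lifts (w : Mdl) (h1 : w * a = a * w) (h2 : w * x = x * w) (h3 : w ∉ ({1, a, x, a * x} : Set Mdl))
    (h4 : w * w ∈ ({1, a, x, a * x} : Set Mdl)) : ∃ v ∈ ({1, a, x, a * x} : Set Mdl), ¬ zt (w * v) ∧
      ∀ v' ∈ ({1, a, x, a * x} : Set Mdl), w * v' * (w * v') = 1 ∧ (v' ≠ v → zt (w * v')) := by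
  have h := forall_codes cent_ok w
  have hE : cE.all inK = true := by decide +kernel
  rw [← code_a, ← code_x, cm_iff.2 h1, cm_iff.2 h2, Bool.and_self, Bool.not_true, Bool.false_or,
    Bool.and_eq_true, Bool.or_eq_true, Bool.or_eq_true, ← code_mul] at h
  rcases h.2 with (h' | h') | h'
  · exact absurd (mem_E.2 h') h3
  · rw [mem_E.1 h4] at h'; exact absurd h' (by decide)
  rw [liftOK, List.any_eq_true] at h'
  obtain ⟨v, hv, hv'⟩ := h'
  simp only [Bool.and_eq_true, Bool.not_eq_true', List.all_eq_true, Bool.or_eq_true] at hv'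
  have hcv : code (el v) = v := code_el (inK_of hE hv)
  refine ⟨el v, mem_E.2 (by rw [hcv]; exact memB_iff.2 hv), ?_, fun v' hv'' => ?_⟩
  · rw [zt_iff, code_mul, hcv, hv'.1]
    decide
  · obtain ⟨k1, k2⟩ := hv'.2 _ (memB_iff.1 (mem_E.1 hv''))
    refine ⟨code_inj (by rw [code_mul, code_mul, code_one]; exact Nat.eq_of_beq_eq_true k1), fun hne => ?_⟩
    rcases k2 with k | k
    · exact absurd (code_inj (by rw [hcv]; exact Nat.eq_of_beq_eq_true k)) hne
    · rw [zt_iff, code_mul]; exact k

theorem pair (p q : Mdl) (pp : p * p = 1) (qq : q * q = 1) (p1 : p ≠ 1) (q1 : q ≠ 1) (hne : p ≠ q)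
    (hpq : p * q = q * p) (pt : ¬ zt p) (qt : ¬ zt q) (pqt : ¬ zt (p * q)) (zp : ¬ zt (zc * p))
    (zq : zt (zc * q)) (zpq : zt (zc * (p * q))) : ∃ k : Mdl, k * p * k⁻¹ = a ∧ k * q * k⁻¹ = x := by
  have mem : ∀ {m : Mdl}, tT (code m) = true → code m ∈ cT := fun {m} hm => by
    rw [cT, List.mem_filter]
    refine ⟨?_, hm⟩
    rw [tT, Bool.and_eq_true] at hm
    have h := forall_codes certs_cover m
    rw [hm.1, Bool.not_true, Bool.false_or, List.any_eq_true] at h
    obtain ⟨e, he, hea⟩ := h
    exact List.mem_map.2 ⟨e, he, Nat.eq_of_beq_eq_true hea⟩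
  have hsq : p * q * (p * q) = 1 := by rw [← pow_two]; exact sq_of_comm pp qq hpq
  have hpq1 : p * q ≠ 1 := fun h => hne (by
    rw [eq_inv_of_mul_eq_one_left h, inv_eq_of_mul_eq_one_right qq])
  have h := List.all_eq_true.1 (List.all_eq_true.1 pair_ok _ (mem (tT_of pp p1 pt))) _ (mem (tT_of qq q1 qt))
  rw [pairOK, cm_iff.2 hpq, ← code_mul, tT_of hsq hpq1 pqt, ← code_zc, ← code_mul, ← code_mul, ← code_mul,
    zt_iff.1 zq, zt_iff.1 zpq] at h
  have hzp : zT (code (zc * p)) = false := Bool.eq_false_iff.2 fun h' => zp (zt_iff.2 h')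
  rw [hzp] at h
  simp only [Bool.not_true, Bool.or_false, Bool.or_eq_true, List.any_eq_true, Bool.and_eq_true] at h
  rcases h with h | ⟨k, hk, k1, k2⟩
  · exact absurd (code_inj (Nat.eq_of_beq_eq_true h)) hne
  · have hk' : code (el k) = k := code_el (inK_of cK_ok hk)
    refine ⟨el k, ?_, ?_⟩ <;> rw [mul_inv_eq_iff_eq_mul] <;> refine code_inj ?_
    · rw [code_mul, code_mul, hk', code_a]; exact Nat.eq_of_beq_eq_true k1
    · rw [code_mul, code_mul, hk', code_x]; exact Nat.eq_of_beq_eq_true k2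

theorem elem : ∃ A : Subgroup Mdl, A ≤ centralizer ({a, x} : Set Mdl) ∧ ({1, a, x, a * x} : Set Mdl) ⊆ A ∧
    Nat.card A = 64 ∧ ∀ w ∈ A, w * w ∈ ({1, a, x, a * x} : Set Mdl) := by
  have hs := span_ok
  simp only [Bool.and_eq_true, List.all_eq_true] at hs
  obtain ⟨⟨⟨⟨⟨⟨⟨⟨hK, -⟩, -⟩, -⟩, -⟩, hmul⟩, hsq⟩, hE⟩, -⟩ := hs
  have sq : ∀ {m : Mdl}, code m ∈ cAL → m * m = 1 := fun {m} hm =>
    code_inj (by rw [code_mul, code_one]; exact Nat.eq_of_beq_eq_true (hsq _ hm).2)
  let A : Subgroup Mdl :=
    { carrier := {m | code m ∈ cAL}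
      one_mem' := by show code 1 ∈ cAL; rw [code_one]; exact memB_iff.1 (hE _ (by simp [cE]))
      mul_mem' := fun {p q} hp hq => by
        show code (p * q) ∈ cAL; rw [code_mul]; exact memB_iff.1 (hmul _ hp _ hq)
      inv_mem' := fun {p} hp => by
        show code p⁻¹ ∈ cAL; rw [inv_eq_of_mul_eq_one_right (sq hp)]; exact hp }
  refine ⟨A, fun m hm => mem_cent.2 (hsq _ hm).1, fun m hm => ?_, ?_, fun m hm => ?_⟩
  · exact memB_iff.1 (hE _ (memB_iff.1 (mem_E.1 hm)))
  · rw [← span_card.2.1, ← card_of_list (List.all_eq_true.2 hK) span_card.1]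
    exact Nat.card_congr (Equiv.refl _)
  · rw [sq hm]; exact Or.inl rfl

theorem cent_p (p : Mdl) (hpa : p * a = a * p) (hpu : p * u = u * p) :
    ∃ q ∈ Subgroup.closure ({f, g} : Set Mdl), ∃ v ∈ ({1, a, u, a * u} : Set Mdl), p = q * v := by
  have h := forall_codes centP_ok p
  rw [← code_a, ← code_u, cm_iff.2 hpa, cm_iff.2 hpu, Bool.and_self, Bool.not_true, Bool.false_or,
    List.any_eq_true] at h
  obtain ⟨q, hq, h⟩ := h
  rw [List.any_eq_true] at h
  obtain ⟨v, hv, h⟩ := h
  have hs := span_ok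
  simp only [Bool.and_eq_true] at hs
  obtain ⟨⟨⟨⟨⟨⟨⟨⟨-, -⟩, hD⟩, -⟩, hV⟩, -⟩, -⟩, -⟩, -⟩ := hs
  have hcq : code (el q) = q := code_el (inK_of hD hq)
  have hcv : code (el v) = v := code_el (inK_of hV hv)
  refine ⟨el q, ?_, el v, ?_, code_inj (by rw [code_mul, hcq, hcv]; exact Nat.eq_of_beq_eq_true h)⟩
  · have hfm : f ∈ Subgroup.closure ({f, g} : Set Mdl) := Subgroup.subset_closure (Or.inl rfl)
    have hgm : g ∈ Subgroup.closure ({f, g} : Set Mdl) := Subgroup.subset_closure (Or.inr rfl)
    have hzm : zc ∈ Subgroup.closure ({f, g} : Set Mdl) := by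
      have e : zc = f * g * (f * g) := code_inj (by
        simp only [code_mul, code_f, code_g, code_zc]; decide +kernel)
      rw [e]; exact mul_mem (mul_mem hfm hgm) (mul_mem hfm hgm)
    let L : List Mdl := [1, f, zc, zc * f, f * g, f * g * f, f * g * zc, f * g * (zc * f)]
    have hL : L.map code = cD := by
      simp only [L, List.map, code_one, code_mul, code_f, code_g, code_zc]
      decide +kernel
    rw [← hL, List.mem_map] at hq
    obtain ⟨m, hm, rfl⟩ := hq
    rw [el_code]
    simp only [L, List.mem_cons, List.not_mem_nil, or_false] at hm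
    rcases hm with rfl | rfl | rfl | rfl | rfl | rfl | rfl | rfl
    exacts [one_mem _, hfm, hzm, mul_mem hzm hfm, mul_mem hfm hgm, mul_mem (mul_mem hfm hgm) hfm,
      mul_mem (mul_mem hfm hgm) hzm, mul_mem (mul_mem hfm hgm) (mul_mem hzm hfm)]
  · simp only [Set.mem_insert_iff, Set.mem_singleton_iff, eq_iff (p := el v), code_one, code_mul, code_a, code_u, hcv]
    simpa [cV] using hv

theorem factorization_seven : (21504 : ℕ).factorization 7 = 1 := by
  rw [show (21504 : ℕ) = 7 ^ 1 * 3072 by norm_num, Nat.factorization_mul (by norm_num) (by norm_num),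
    Finsupp.add_apply, Nat.Prime.factorization_pow (by norm_num), Finsupp.single_eq_same,
    Nat.factorization_eq_zero_of_not_dvd (by norm_num)]

theorem seven (k q : Mdl) (hk : orderOf k = 7) (qq : q * q = 1) (hkq : k * q = q * k) : q = 1 ∨ q = zc := by
  haveI : Fact (Nat.Prime 7) := ⟨by norm_num⟩
  by_cases hq1 : q = 1
  · exact Or.inl hq1
  right
  set s : Mdl := el cS with hs
  have cs : code s = cS := code_el (by decide +kernel)
  have os : orderOf s = 7 := by
    refine orderOf_eq_prime (code_inj ?_) fun h => ?_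
    · simp only [pow_succ, pow_zero, one_mul, code_mul, code_one, cs]
      decide +kernel
    · have := congrArg code h
      rw [cs, code_one] at this
      revert this
      decide +kernel
  haveI : Finite Mdl := inferInstance
  have hsyl : ∀ t : Mdl, orderOf t = 7 →
      Nat.card (zpowers t) = 7 ^ (Nat.card Mdl).factorization 7 := fun t ht => by
    rw [Nat.card_zpowers, ht, card_mdl, factorization_seven, pow_one]
  obtain ⟨h, hh⟩ := MulAction.exists_smul_eq Mdl (Sylow.ofCard _ (hsyl k hk) : Sylow 7 Mdl)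
    (Sylow.ofCard _ (hsyl s os))
  have hs' : s ∈ (Sylow.ofCard _ (hsyl s os) : Sylow 7 Mdl) := mem_zpowers s
  rw [← hh] at hs'
  have hs'' : s ∈ ((h • Sylow.ofCard _ (hsyl k hk) : Sylow 7 Mdl) : Subgroup Mdl) := hs'
  rw [Sylow.coe_subgroup_smul] at hs''
  obtain ⟨y, hy, hys⟩ := hs''
  obtain ⟨i, rfl⟩ : y ∈ zpowers k := hy
  have hyq : k ^ i * q = q * k ^ i := (show Commute k q from hkq).zpow_left i
  have hsq : s * (h * q * h⁻¹) = h * q * h⁻¹ * s := by
    rw [← show h * k ^ i * h⁻¹ = s from hys]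
    calc h * k ^ i * h⁻¹ * (h * q * h⁻¹) = h * (k ^ i * q) * h⁻¹ := by group
      _ = _ := by rw [hyq]; group
  have hinv : IsInv (h * q * h⁻¹) := IsInv.conj ⟨qq, hq1⟩ h
  have hc := forall_codes seven_ok (h * q * h⁻¹)
  rw [← cs, cm_iff.2 hsq.symm, isInv_iff.1 hinv, Bool.not_true, Bool.false_or, Bool.false_or, ← code_zc,
    beq_code] at hc
  have hz : ∀ m : Mdl, zc * m = m * zc := fun m => code_inj (by
    rw [code_mul, code_mul, code_zc]
    have h' : allC (fun a => Nat.beq (mulF cZ a) (mulF a cZ)) = true := by decide +kernel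
    exact Nat.eq_of_beq_eq_true (forall_codes h' m))
  calc q = h⁻¹ * (h * q * h⁻¹) * h := by group
    _ = zc := by rw [hc, mul_assoc, hz h, ← mul_assoc, inv_mul_cancel, one_mul]

theorem wit : ModelWit zt zc a x b c f g u := by
  constructor
  case card => exact card
  case lifts => exact lifts
  case pair => exact pair
  case elem => exact elem
  case cent_p => exact cent_p
  case seven => exact seven
  case uc => rw [mem_E]; simp only [code_mul, code_a, code_x, code_c, code_u, code_zc]; decide +kernel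
  case c_ne => rw [mem_E]; simp only [code_c]; decide +kernel
  case cz_ne => rw [mem_E]; simp only [code_mul, code_c, code_zc]; decide +kernel
  all_goals
    simp only [ne_eq, zt_iff, eq_iff, pow_succ, pow_zero, one_mul, code_mul, code_one, code_a, code_x, code_b,
      code_c, code_f, code_g, code_u, code_zc]
    decide +kernel

end Wit

/-- The local facts about the generators, from a setting. -/
theorem Setting.gensHyp {G : Type*} [Group G] {z : G} (S : Setting z) :
    GensHyp z (S.emb Wit.a) (S.emb Wit.x) (S.emb Wit.b) (S.emb Wit.c) (S.emb Wit.f) (S.emb Wit.g)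
      (S.emb Wit.u) := by
  have hz : z * z = 1 := by
    have h : zc * zc = 1 := code_inj (by rw [code_mul, code_one, Wit.code_zc]; decide +kernel)
    rw [← S.emb_zc, ← map_mul, h, map_one]
  have hz1 : z ≠ 1 := fun e => by
    have h : zc = 1 := S.emb_injective (by rw [S.emb_zc, map_one]; exact e)
    have h' := congrArg code h
    rw [Wit.code_zc, code_one] at h'
    revert h'
    decide +kernel
  refine ModelWit.gensHyp hz S.e.symm (zM := zc) ?_ (zt := zt) ?_ Wit.wit
  · rw [MulEquiv.symm_apply_eq]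
    exact Subtype.ext S.e_zc.symm
  · intro m hm
    by_cases h1 : m = 1
    · subst h1
      simp only [map_one, Subgroup.coe_one]
      exact ⟨fun h => absurd (isConj_one_left.1 h) hz1, fun h => absurd rfl h.1.2⟩
    · have hi : IsInv (S.e.symm m) :=
        ⟨by rw [← map_mul, hm, map_one], fun e => h1 (S.e.symm.injective (by rw [e, map_one]))⟩
      have h := S.fusion _ hi
      rw [MulEquiv.apply_symm_apply] at h
      rw [h, zt]
      exact ⟨fun h' => ⟨hi, h'⟩, fun h' => h'.2⟩

end Cfsg.Agent.HeLocal
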